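import Cfsg.Agent.Lib.Glauberman.Basic
import Cfsg.Agent.Lib.BrauerPairs.Transport

/-!
# Operators given by conjugation inside a finite group
-/

set_option autoImplicit false
set_option linter.unusedSectionVars false
set_option linter.style.haveILetI false

namespace Cfsg.Agent.Lib.Glauberman

open Cfsg Cfsg.Agent.Lib.Blocks Cfsg.Agent.Lib.Characters
open Cfsg.Agent.Lib.BrauerPairs (transIrr transIrr_apply transIrr_symm transIrr_injective)
open scoped ComplexConjugate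

universe u

variable {Γ : Type u} [Group Γ]

/-- Conjugation by the elements of `S` on `G`. -/
def conjHom (G S : Subgroup Γ) (hnorm : ∀ s ∈ S, ∀ g ∈ G, s * g * s⁻¹ ∈ G) : S →* MulAut G where
  toFun s :=
    { toFun := fun g => ⟨(s : Γ) * g * (s : Γ)⁻¹, hnorm s s.2 g g.2⟩
      invFun := fun g => ⟨(s : Γ)⁻¹ * g * (s : Γ), by
        simpa using hnorm (s : Γ)⁻¹ (S.inv_mem s.2) g g.2⟩
      left_inv := fun g => Subtype.ext (by simp [mul_assoc])
      right_inv := fun g => Subtype.ext (by simp [mul_assoc])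
      map_mul' := fun g g' => Subtype.ext (by simp [mul_assoc]) }
  map_one' := MulEquiv.ext fun g => Subtype.ext (by simp)
  map_mul' s t := MulEquiv.ext fun g => Subtype.ext (by simp [mul_assoc])

variable {G S : Subgroup Γ} (hnorm : ∀ s ∈ S, ∀ g ∈ G, s * g * s⁻¹ ∈ G)

theorem conjHom_apply (s : S) (g : G) :
    ((conjHom G S hnorm s g : G) : Γ) = (s : Γ) * g * (s : Γ)⁻¹ := rfl

theorem isInv_conjHom_iff (f : G → ℂ) :
    IsInv (conjHom G S hnorm) f ↔
      ∀ s ∈ S, ∀ g g' : G, (g' : Γ) = s * g * s⁻¹ → f g' = f g :=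
  ⟨fun h s hs g g' hg => by
    rw [show g' = conjHom G S hnorm ⟨s, hs⟩ g from Subtype.ext hg]
    exact h ⟨s, hs⟩ g, fun h s g => h s s.2 g _ rfl⟩

theorem invClass_conjHom_iff (K : ConjClasses G) :
    (∀ (a : S) (g : G), ConjClasses.mk g = K → ConjClasses.mk (conjHom G S hnorm a g) = K) ↔
      ∀ s ∈ S, ∀ g g' : G, (g' : Γ) = s * g * s⁻¹ → ConjClasses.mk g = K → ConjClasses.mk g' = K :=
  ⟨fun h s hs g g' hg hK => by
    rw [show g' = conjHom G S hnorm ⟨s, hs⟩ g from Subtype.ext hg]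
    exact h ⟨s, hs⟩ g hK, fun h s g hK => h s s.2 g _ rfl hK⟩

theorem mem_fixedSub_conjHom {g : G} :
    g ∈ fixedSub (conjHom G S hnorm) ↔ ∀ s ∈ S, s * (g : Γ) * s⁻¹ = g :=
  ⟨fun h s hs => congrArg Subtype.val (h ⟨s, hs⟩), fun h s => Subtype.ext (h s s.2)⟩

/-- A subgroup that consists of the fixed points is isomorphic to them. -/
def fixedEquiv {C : Subgroup Γ} (hC : ∀ x, x ∈ C ↔ x ∈ G ∧ ∀ s ∈ S, s * x * s⁻¹ = x) :
    C ≃* fixedSub (conjHom G S hnorm) where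
  toFun c := ⟨⟨c, ((hC c).1 c.2).1⟩, (mem_fixedSub_conjHom hnorm).2 ((hC c).1 c.2).2⟩
  invFun x := ⟨((x : G) : Γ), (hC _).2 ⟨(x : G).2, (mem_fixedSub_conjHom hnorm).1 x.2⟩⟩
  left_inv _ := rfl
  right_inv _ := rfl
  map_mul' _ _ := rfl

theorem inf_centralizer_spec (x : Γ) :
    x ∈ G ⊓ Subgroup.centralizer (S : Set Γ) ↔ x ∈ G ∧ ∀ s ∈ S, s * x * s⁻¹ = x := by
  rw [Subgroup.mem_inf, Subgroup.mem_centralizer_iff]
  simp only [SetLike.mem_coe, mul_inv_eq_iff_eq_mul]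

theorem classInner_fixedEquiv {C : Subgroup Γ} [Fintype C]
    [Fintype (fixedSub (conjHom G S hnorm))]
    (hC : ∀ x, x ∈ C ↔ x ∈ G ∧ ∀ s ∈ S, s * x * s⁻¹ = x) (hCG : C ≤ G) (f : G → ℂ)
    (β : IrrCharacter C) :
    classInner (fun c : C => f ⟨c, hCG c.2⟩) (β : C → ℂ) =
      classInner (fun x : fixedSub (conjHom G S hnorm) => f x)
        ((transIrr (fixedEquiv hnorm hC) β : IrrCharacter (fixedSub (conjHom G S hnorm))) :
          fixedSub (conjHom G S hnorm) → ℂ) := by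
  rw [classInner, classInner, Nat.card_congr (fixedEquiv hnorm hC).toEquiv]
  congr 1
  refine Fintype.sum_equiv (fixedEquiv hnorm hC).toEquiv _ _ fun c => ?_
  show f ⟨c, hCG c.2⟩ * _ = f (fixedEquiv hnorm hC c : G) *
    conj ((transIrr (fixedEquiv hnorm hC) β : fixedSub (conjHom G S hnorm) → ℂ)
      (fixedEquiv hnorm hC c))
  rw [transIrr_apply]
  rfl

end Cfsg.Agent.Lib.Glauberman
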