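import Cfsg.Agent.Lib.Glauberman.Basic
import Cfsg.Agent.Lib.BrauerPairs.Transport

/-!
# The Glauberman correspondence for a `p`-group of operators
-/

set_option autoImplicit false
set_option linter.unusedSectionVars false
set_option linter.style.haveILetI false

namespace Cfsg.Agent.Lib.Glauberman

open Cfsg Cfsg.Agent.Lib.Blocks Cfsg.Agent.Lib.Characters
open Cfsg.Agent.Lib.BrauerPairs (transIrr transIrr_apply memLocalIdeal_of_idem
  memLocalIdeal_omega_of_forall)
open scoped ComplexConjugate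

universe u v

variable {A : Type v} [Group A] {G : Type u} [Group G] [Fintype G] (φ : A →* MulAut G)

/-- The multiplicity of `β` in the restriction of `χ`. -/
noncomputable def mult [Fintype (fixedSub φ)] (χ : IrrCharacter G)
    (β : IrrCharacter (fixedSub φ)) : ℕ :=
  (IsCharacter.exists_classInner_nat (IsCharacter.restrict (irr_isCharacter χ) (fixedSub φ))
    (irr_isCharacter β)).choose

variable [Fintype (fixedSub φ)]

theorem classInner_eq_mult (χ : IrrCharacter G) (β : IrrCharacter (fixedSub φ)) :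
    classInner (fun c : fixedSub φ => (χ : G → ℂ) c) (β : fixedSub φ → ℂ) = (mult φ χ β : ℂ) :=
  (IsCharacter.exists_classInner_nat (IsCharacter.restrict (irr_isCharacter χ) (fixedSub φ))
    (irr_isCharacter β)).choose_spec

theorem mult_eq_of_classInner (χ : IrrCharacter G) (β : IrrCharacter (fixedSub φ)) {m : ℕ}
    (h : classInner (fun c : fixedSub φ => (χ : G → ℂ) c) (β : fixedSub φ → ℂ) = (m : ℂ)) :
    mult φ χ β = m := by
  rw [classInner_eq_mult] at h
  exact_mod_cast h

theorem sum_mult (χ ψ : IrrCharacter G) [Fintype (IrrCharacter (fixedSub φ))] :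
    ∑ c : fixedSub φ, (χ : G → ℂ) c * conj ((ψ : G → ℂ) c) =
      (Nat.card (fixedSub φ) : ℂ) * ∑ β : IrrCharacter (fixedSub φ),
        (mult φ χ β : ℂ) * (mult φ ψ β : ℂ) := by
  have h := classInner_eq_sum_irr
    (θ := fun c : fixedSub φ => (χ : G → ℂ) c) (φ := fun c : fixedSub φ => (ψ : G → ℂ) c)
    (IsCharacter.isClassFunction (IsCharacter.restrict (irr_isCharacter χ) _))
    (IsCharacter.isClassFunction (IsCharacter.restrict (irr_isCharacter ψ) _))
  simp only [classInner_eq_mult, map_natCast] at h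
  rw [← h, classInner, ← mul_assoc, mul_inv_cancel₀ natCard_ne_zero_complex, one_mul]

variable {M : Ideal AlgInt} [hMp : M.IsPrime] {p : ℕ}

theorem memLocalRing_char {H : Type u} [Group H] [Fintype H] (χ : IrrCharacter H) (h : H) :
    MemLocalRing M ((χ : H → ℂ) h) :=
  memLocalRing_of_isIntegral' (isIntegral_char χ h)

theorem memLocalRing_conj_char {H : Type u} [Group H] [Fintype H] (χ : IrrCharacter H) (h : H) :
    MemLocalRing M (conj ((χ : H → ℂ) h)) :=
  memLocalRing_of_isIntegral' (isIntegral_conj_char χ h)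

/-- The idempotent of one character is integral when `p ∤ |H|`. -/
theorem isRCentral_singleton {H : Type u} [Group H] [Fintype H] (hM : IsPModular p M)
    (hH : ¬ p ∣ Nat.card H) (χ : IrrCharacter H) :
    IsRCentral M (blockCoeff ({χ} : Set (IrrCharacter H))) :=
  ⟨isClassFunction_blockCoeff _, fun g => by
    rw [blockCoeff_singleton]
    exact memLocalRing_mul (memLocalRing_inv_natCast hM hH)
      (memLocalRing_mul (memLocalRing_char χ 1) (memLocalRing_conj_char χ g))⟩

variable [hp : Fact p.Prime]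

theorem not_dvd_card_fixed (hG : ¬ p ∣ Nat.card G) : ¬ p ∣ Nat.card (fixedSub φ) :=
  fun hd => hG (hd.trans (Subgroup.card_subgroup_dvd_card _))

theorem not_dvd_charDegree {H : Type u} [Group H] [Fintype H] (hH : ¬ p ∣ Nat.card H)
    (χ : IrrCharacter H) : ¬ p ∣ charDegree (χ : H → ℂ) :=
  fun hd => hH (hd.trans (Blocks.charDegree_dvd_card χ))

theorem isInv_blockCoeff {χ : IrrCharacter G} (hχ : IsInv φ (χ : G → ℂ)) :
    IsInv φ (blockCoeff ({χ} : Set (IrrCharacter G))) := fun a g => by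
  rw [blockCoeff_singleton, blockCoeff_singleton, hχ a g]

theorem omega_restrict_eq (χ : IrrCharacter G) (β : IrrCharacter (fixedSub φ)) :
    omega (β : fixedSub φ → ℂ) (resFun (fixedSub φ) (blockCoeff ({χ} : Set (IrrCharacter G)))) =
      (charDegree (χ : G → ℂ) : ℂ) * (Nat.card (fixedSub φ) : ℂ) * (mult φ χ β : ℂ) /
        ((Nat.card G : ℂ) * (charDegree (β : fixedSub φ → ℂ) : ℂ)) := by
  have h : ∑ c : fixedSub φ, (β : fixedSub φ → ℂ) c * conj ((χ : G → ℂ) c) =
      (Nat.card (fixedSub φ) : ℂ) * (mult φ χ β : ℂ) := by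
    have h1 := classInner_conj_symm (fun c : fixedSub φ => (χ : G → ℂ) c) (β : fixedSub φ → ℂ)
    rw [classInner_eq_mult, map_natCast, classInner] at h1
    rw [h1, ← mul_assoc, mul_inv_cancel₀ natCard_ne_zero_complex, one_mul]
  rw [omega, ← charDegree_eq β]
  simp only [resFun, blockCoeff_singleton, ← charDegree_eq χ]
  rw [show ∑ c : fixedSub φ, (Nat.card G : ℂ)⁻¹ * ((charDegree (χ : G → ℂ) : ℂ) *
      conj ((χ : G → ℂ) c)) * (β : fixedSub φ → ℂ) c =
      (Nat.card G : ℂ)⁻¹ * (charDegree (χ : G → ℂ) : ℂ) *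
        ∑ c : fixedSub φ, (β : fixedSub φ → ℂ) c * conj ((χ : G → ℂ) c) by
    rw [Finset.mul_sum]; exact Finset.sum_congr rfl fun c _ => by ring, h]
  field_simp

/-- Congruent to `0` or `1`. -/
theorem omega_restrict_idem (hM : IsPModular p M) (hA : IsPGroup p A) (hG : ¬ p ∣ Nat.card G)
    {χ : IrrCharacter G} (hχ : IsInv φ (χ : G → ℂ)) (β : IrrCharacter (fixedSub φ)) :
    MemLocalIdeal M (omega (β : fixedSub φ → ℂ)
        (resFun (fixedSub φ) (blockCoeff ({χ} : Set (IrrCharacter G))))) ∨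
      MemLocalIdeal M (omega (β : fixedSub φ → ℂ)
        (resFun (fixedSub φ) (blockCoeff ({χ} : Set (IrrCharacter G)))) - 1) := by
  set f := resFun (fixedSub φ) (blockCoeff ({χ} : Set (IrrCharacter G))) with hf
  have hfR : IsRCentral M f := isRCentral_resFun _ (isRCentral_singleton hM hG χ)
  have hff : ∀ c, MemLocalIdeal M ((f - conv f f) c) := fun c => by
    have h := conv_congr_fixed φ hM hA (isRCentral_singleton hM hG χ).2
      (isRCentral_singleton hM hG χ).2 (isInv_blockCoeff φ hχ) (isInv_blockCoeff φ hχ) c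
    rw [blockCoeff_conv_self] at h
    exact h
  have h1 := memLocalIdeal_omega_of_forall (hfR.sub (hfR.conv hfR)) hff β
  rw [omega_sub, omega_conv β.2 hfR.1] at h1
  have h2 : MemLocalIdeal M (omega (β : fixedSub φ → ℂ) f *
      (omega (β : fixedSub φ → ℂ) f - 1)) := by
    simpa [mul_sub] using memLocalIdeal_neg h1
  exact (memLocalIdeal_mul_iff (memLocalRing_omega hfR β)
    (memLocalRing_sub (memLocalRing_omega hfR β) memLocalRing_one)).1 h2

theorem omega_restrict_iff (hM : IsPModular p M) (hA : IsPGroup p A) (hG : ¬ p ∣ Nat.card G)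
    {χ : IrrCharacter G} (hχ : IsInv φ (χ : G → ℂ)) (β : IrrCharacter (fixedSub φ)) :
    MemLocalIdeal M (omega (β : fixedSub φ → ℂ)
        (resFun (fixedSub φ) (blockCoeff ({χ} : Set (IrrCharacter G))))) ↔ p ∣ mult φ χ β := by
  rw [omega_restrict_eq, ← memLocalIdeal_natCast_iff hM (mult φ χ β)]
  have hu : ¬ p ∣ Nat.card G * charDegree (β : fixedSub φ → ℂ) := fun hd =>
    ((Nat.Prime.dvd_mul hp.out).1 hd).elim hG (not_dvd_charDegree (not_dvd_card_fixed φ hG) β)
  have hv : ¬ p ∣ charDegree (χ : G → ℂ) * Nat.card (fixedSub φ) := fun hd =>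
    ((Nat.Prime.dvd_mul hp.out).1 hd).elim (not_dvd_charDegree hG χ) (not_dvd_card_fixed φ hG)
  rw [div_eq_mul_inv, ← Nat.cast_mul (charDegree (χ : G → ℂ)), ← Nat.cast_mul (Nat.card G),
    memLocalIdeal_mul_iff (memLocalRing_mul (memLocalRing_natCast _) (memLocalRing_natCast _))
      (memLocalRing_inv_natCast hM hu),
    memLocalIdeal_mul_iff (memLocalRing_natCast _) (memLocalRing_natCast _)]
  constructor
  · rintro ((h | h) | h)
    · exact absurd ((memLocalIdeal_natCast_iff hM _).1 h) hv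
    · exact h
    · exfalso
      refine not_memLocalIdeal_one (M := M) ?_
      have h1 := memLocalIdeal_mul_left (memLocalRing_natCast
        (Nat.card G * charDegree (β : fixedSub φ → ℂ))) h
      rwa [mul_inv_cancel₀] at h1
      exact Nat.cast_ne_zero.2 fun h0 => hu (h0 ▸ dvd_zero p)
  · exact fun h => Or.inl (Or.inr h)

theorem exists_good (hM : IsPModular p M) (hA : IsPGroup p A) (hG : ¬ p ∣ Nat.card G)
    {χ : IrrCharacter G} (hχ : IsInv φ (χ : G → ℂ)) :
    ∃ β, ¬ p ∣ mult φ χ β := by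
  by_contra hcon
  push Not at hcon
  set f := resFun (fixedSub φ) (blockCoeff ({χ} : Set (IrrCharacter G))) with hf
  have h := memLocalIdeal_of_idem hM (isRCentral_resFun _ (isRCentral_singleton hM hG χ))
    (b := f) (fun c => by
      have h := conv_congr_fixed φ hM hA (isRCentral_singleton hM hG χ).2
        (isRCentral_singleton hM hG χ).2 (isInv_blockCoeff φ hχ) (isInv_blockCoeff φ hχ) c
      rw [blockCoeff_conv_self] at h
      exact h) (fun β => (omega_restrict_iff φ hM hA hG hχ β).2 (hcon β)) 1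
  rw [hf, resFun, OneMemClass.coe_one, blockCoeff_singleton, ← charDegree_eq χ, map_natCast,
    ← Nat.cast_mul] at h
  have h1 := memLocalIdeal_mul_left (memLocalRing_natCast (M := M) (Nat.card G)) h
  rw [← mul_assoc, mul_inv_cancel₀ natCard_ne_zero_complex, one_mul,
    memLocalIdeal_natCast_iff hM] at h1
  exact ((Nat.Prime.dvd_mul hp.out).1 h1).elim (not_dvd_charDegree hG χ) (not_dvd_charDegree hG χ)

theorem omega_restrict_one (hM : IsPModular p M) (hA : IsPGroup p A) (hG : ¬ p ∣ Nat.card G)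
    {χ : IrrCharacter G} (hχ : IsInv φ (χ : G → ℂ)) {β : IrrCharacter (fixedSub φ)}
    (h : ¬ p ∣ mult φ χ β) :
    MemLocalIdeal M (omega (β : fixedSub φ → ℂ)
      (resFun (fixedSub φ) (blockCoeff ({χ} : Set (IrrCharacter G)))) - 1) :=
  (omega_restrict_idem φ hM hA hG hχ β).resolve_left
    fun h0 => h ((omega_restrict_iff φ hM hA hG hχ β).1 h0)

/-- For the extension `F` of the idempotent of `β`: `[γ = β] ω_γ(f) ≡ ω_χ(F) ω_γ(f)`. -/
theorem omega_extension_congr (hM : IsPModular p M) (hA : IsPGroup p A) (hG : ¬ p ∣ Nat.card G)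
    {χ : IrrCharacter G} (hχ : IsInv φ (χ : G → ℂ)) {β : IrrCharacter (fixedSub φ)} {F : G → ℂ}
    (hF : IsRCentral M F) (hFi : IsInv φ F)
    (hFβ : resFun (fixedSub φ) F = blockCoeff ({β} : Set (IrrCharacter (fixedSub φ))))
    {γ : IrrCharacter (fixedSub φ)} (hγ : ¬ p ∣ mult φ χ γ) [Decidable (γ = β)] :
    MemLocalIdeal M ((if γ = β then 1 else 0) - omega (χ : G → ℂ) F) := by
  classical
  set E := blockCoeff ({χ} : Set (IrrCharacter G)) with hE
  have hER := isRCentral_singleton (M := M) hM hG χ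
  have hconv : conv F E = omega (χ : G → ℂ) F • E := by
    refine ext_omega (isClassFunction_conv hF.1 hER.1) (IsClassFunction.smul hER.1 _) fun ψ => ?_
    rw [omega_conv ψ.2 hF.1, omega_smul, hE, omega_blockCoeff]
    by_cases hψ : ψ ∈ ({χ} : Set (IrrCharacter G))
    · rw [Set.mem_singleton_iff.1 hψ]
    · rw [if_neg hψ, mul_zero, mul_zero]
  have hfR : IsRCentral M (resFun (fixedSub φ) E) := isRCentral_resFun _ hER
  have hFR : IsRCentral M (resFun (fixedSub φ) F) := isRCentral_resFun _ hF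
  have hω := memLocalRing_omega hF χ
  have hcongr : ∀ c, MemLocalIdeal M
      ((omega (χ : G → ℂ) F • resFun (fixedSub φ) E -
        conv (resFun (fixedSub φ) F) (resFun (fixedSub φ) E)) c) := fun c => by
    have h := conv_congr_fixed φ hM hA hF.2 hER.2 hFi (isInv_blockCoeff φ hχ) c
    rw [hconv] at h
    exact h
  have h1 := memLocalIdeal_omega_of_forall ((hfR.smul hω).sub (hFR.conv hfR)) hcongr γ
  rw [omega_sub, omega_smul, omega_conv γ.2 hFR.1, hFβ, omega_blockCoeff] at h1
  have h2 := omega_restrict_one φ hM hA hG hχ hγ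
  have h3 : MemLocalIdeal M (((if γ = β then 1 else 0) - omega (χ : G → ℂ) F) *
      omega (γ : fixedSub φ → ℂ) (resFun (fixedSub φ) E)) := by
    convert memLocalIdeal_neg h1 using 1
    simp only [Set.mem_singleton_iff]
    split_ifs <;> ring
  refine ((memLocalIdeal_mul_iff (memLocalRing_sub ?_ hω) (memLocalRing_omega hfR γ)).1
    h3).resolve_right fun h0 => not_memLocalIdeal_one (M := M) ?_
  · split_ifs
    exacts [memLocalRing_one, memLocalRing_zero]
  · rw [hE] at h0
    simpa using memLocalIdeal_sub h0 h2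

theorem good_unique (hM : IsPModular p M) (hA : IsPGroup p A) (hG : ¬ p ∣ Nat.card G)
    {χ : IrrCharacter G} (hχ : IsInv φ (χ : G → ℂ)) {β γ : IrrCharacter (fixedSub φ)}
    (hβ : ¬ p ∣ mult φ χ β) (hγ : ¬ p ∣ mult φ χ γ) : γ = β := by
  classical
  by_contra hne
  obtain ⟨F, hF, hFi, hFβ⟩ := exists_classExtension (M := M) φ hA hG
    (isRCentral_singleton hM (not_dvd_card_fixed φ hG) β).2 (isClassFunction_blockCoeff _)
  have h1 := omega_extension_congr φ hM hA hG hχ hF hFi hFβ hβ
  have h2 := omega_extension_congr φ hM hA hG hχ hF hFi hFβ hγ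
  rw [if_pos rfl] at h1
  rw [if_neg hne] at h2
  exact not_memLocalIdeal_one (M := M) (by simpa using memLocalIdeal_sub h1 h2)

theorem good_surjective (hM : IsPModular p M) (hA : IsPGroup p A) (hG : ¬ p ∣ Nat.card G)
    (β : IrrCharacter (fixedSub φ)) :
    ∃ χ : IrrCharacter G, IsInv φ (χ : G → ℂ) ∧ ¬ p ∣ mult φ χ β := by
  classical
  haveI := Fintype.ofFinite (IrrCharacter G)
  obtain ⟨F, hF, hFi, hFβ⟩ := exists_classExtension (M := M) φ hA hG
    (isRCentral_singleton hM (not_dvd_card_fixed φ hG) β).2 (isClassFunction_blockCoeff _)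
  letI : MulAction A (IrrCharacter G) :=
    { smul := fun a χ => transIrr (φ a) χ
      one_smul := fun χ => Subtype.ext (funext fun g => by
        show (χ : G → ℂ) ((φ 1).symm g) = _
        rw [map_one]; rfl)
      mul_smul := fun a b χ => Subtype.ext (funext fun g => by
        show (χ : G → ℂ) ((φ (a * b)).symm g) = (χ : G → ℂ) ((φ b).symm ((φ a).symm g))
        rw [map_mul]; rfl) }
  let T : IrrCharacter G → ℂ := fun χ =>
    (Nat.card G : ℂ)⁻¹ * (omega (χ : G → ℂ) F * (χ : G → ℂ) 1 * conj ((χ : G → ℂ) 1))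
  have hTR : ∀ χ, MemLocalRing M (T χ) := fun χ =>
    memLocalRing_mul (memLocalRing_inv_natCast hM hG) (memLocalRing_mul (memLocalRing_mul
      (memLocalRing_omega hF χ) (memLocalRing_char χ 1)) (memLocalRing_conj_char χ 1))
  have hT : ∀ (a : A) (χ : IrrCharacter G), T (a • χ) = T χ := fun a χ => by
    have hval : ∀ g, ((a • χ : IrrCharacter G) : G → ℂ) (φ a g) = (χ : G → ℂ) g :=
      fun g => transIrr_apply (φ a) χ g
    have h1 : ((a • χ : IrrCharacter G) : G → ℂ) 1 = (χ : G → ℂ) 1 := by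
      simpa using hval 1
    have hω : omega ((a • χ : IrrCharacter G) : G → ℂ) F = omega (χ : G → ℂ) F := by
      rw [omega, omega, h1]
      congr 1
      refine (Fintype.sum_equiv (φ a).toEquiv _ _ fun g => ?_).symm
      show F g * _ = F (φ a g) * ((a • χ : IrrCharacter G) : G → ℂ) (φ a g)
      rw [hFi a g, hval g]
    simp only [T, hω, h1]
  by_contra hcon
  push Not at hcon
  have h0 := memLocalIdeal_sum_sub_fixed hM hA T hTR hT
  have hsum : ∑ χ, T χ = blockCoeff ({β} : Set (IrrCharacter (fixedSub φ))) 1 := by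
    rw [← hFβ, resFun, OneMemClass.coe_one, eq_sum_omega hF.1 1, Finset.mul_sum]
  have hfix : MemLocalIdeal M (∑ χ : IrrCharacter G, if ∀ a : A, a • χ = χ then T χ else 0) := by
    refine memLocalIdeal_sum _ fun χ _ => ?_
    split_ifs with hχ
    · have hinv : IsInv φ (χ : G → ℂ) := fun a g => by
        conv_lhs => rw [← hχ a]
        exact transIrr_apply (φ a) χ g
      obtain ⟨γ, hγ⟩ := exists_good φ hM hA hG hinv
      have h1 := omega_extension_congr φ hM hA hG hinv hF hFi hFβ hγ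
      rw [if_neg (fun e => hγ (by rw [e]; exact hcon χ hinv)), zero_sub] at h1
      exact memLocalIdeal_mul_left (memLocalRing_inv_natCast hM hG)
        (memLocalIdeal_mul_right (memLocalIdeal_mul_right (by simpa using memLocalIdeal_neg h1)
          (memLocalRing_char χ 1)) (memLocalRing_conj_char χ 1))
    · exact memLocalIdeal_zero
  have h := memLocalIdeal_add h0 hfix
  rw [sub_add_cancel, hsum, blockCoeff_singleton, ← charDegree_eq β, map_natCast,
    ← Nat.cast_mul] at h
  have h1 := memLocalIdeal_mul_left (memLocalRing_natCast (M := M) (Nat.card (fixedSub φ))) h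
  rw [← mul_assoc, mul_inv_cancel₀ natCard_ne_zero_complex, one_mul,
    memLocalIdeal_natCast_iff hM] at h1
  exact ((Nat.Prime.dvd_mul hp.out).1 h1).elim (not_dvd_charDegree (not_dvd_card_fixed φ hG) β)
    (not_dvd_charDegree (not_dvd_card_fixed φ hG) β)

theorem sum_good (hM : IsPModular p M) (hA : IsPGroup p A) (hG : ¬ p ∣ Nat.card G)
    {χ ψ : IrrCharacter G} (hχ : IsInv φ (χ : G → ℂ)) (hψ : IsInv φ (ψ : G → ℂ))
    [Decidable (χ = ψ)] {β : IrrCharacter (fixedSub φ)} (hβ : ¬ p ∣ mult φ χ β) :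
    MemLocalIdeal M ((if χ = ψ then (1 : ℂ) else 0) - (mult φ χ β * mult φ ψ β : ℕ)) := by
  classical
  haveI := Fintype.ofFinite (IrrCharacter (fixedSub φ))
  have h := sum_congr_fixed φ hM hA (fun g => (χ : G → ℂ) g * conj ((ψ : G → ℂ) g))
    (fun g => memLocalRing_mul (memLocalRing_char χ g) (memLocalRing_conj_char ψ g))
    fun a g => by simp only [hχ a g, hψ a g]
  have hG' : ∑ g, (χ : G → ℂ) g * conj ((ψ : G → ℂ) g) =
      (Nat.card G : ℂ) * if χ = ψ then 1 else 0 := by
    have h2 := classInner_irr χ ψ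
    rw [classInner] at h2
    split_ifs with hχψ <;>
      simp only [hχψ, ↓reduceIte] at h2 <;>
      rw [← h2, ← mul_assoc, mul_inv_cancel₀ natCard_ne_zero_complex, one_mul] <;>
      simp only [hχψ]
  have hC : MemLocalIdeal M ((∑ γ : IrrCharacter (fixedSub φ),
      (mult φ χ γ : ℂ) * (mult φ ψ γ : ℂ)) - (mult φ χ β * mult φ ψ β : ℕ)) := by
    rw [← Finset.add_sum_erase _ _ (Finset.mem_univ β), Nat.cast_mul, add_sub_cancel_left]
    refine memLocalIdeal_sum _ fun γ hγ => memLocalIdeal_mul_right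
      ((memLocalIdeal_natCast_iff hM _).2 ?_) (memLocalRing_natCast _)
    by_contra hd
    exact Finset.ne_of_mem_erase hγ (good_unique φ hM hA hG hχ hβ hd)
  rw [hG', sum_mult] at h
  have hcard := card_congr_fixed φ hM hA
  have hunit : ¬ p ∣ Nat.card (fixedSub φ) := not_dvd_card_fixed φ hG
  have hd : MemLocalRing M (if χ = ψ then (1 : ℂ) else 0) := by
    split_ifs
    exacts [memLocalRing_one, memLocalRing_zero]
  have hkey : MemLocalIdeal M ((Nat.card (fixedSub φ) : ℂ) *
      ((if χ = ψ then (1 : ℂ) else 0) - (mult φ χ β * mult φ ψ β : ℕ))) := by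
    convert memLocalIdeal_add (memLocalIdeal_sub h (memLocalIdeal_mul_right hcard hd))
      (memLocalIdeal_mul_left (memLocalRing_natCast (Nat.card (fixedSub φ))) hC) using 1
    ring
  exact ((memLocalIdeal_mul_iff (memLocalRing_natCast _)
    (memLocalRing_sub hd (memLocalRing_natCast _))).1 hkey).resolve_left
      fun h0 => hunit ((memLocalIdeal_natCast_iff hM _).1 h0)

theorem mult_sq (hM : IsPModular p M) (hA : IsPGroup p A) (hG : ¬ p ∣ Nat.card G)
    {χ : IrrCharacter G} (hχ : IsInv φ (χ : G → ℂ)) {β : IrrCharacter (fixedSub φ)}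
    (hβ : ¬ p ∣ mult φ χ β) :
    (mult φ χ β : ZMod p) = 1 ∨ (mult φ χ β : ZMod p) = -1 := by
  classical
  have h := sum_good φ hM hA hG hχ hχ hβ
  rw [if_pos rfl] at h
  have hd : (p : ℤ) ∣ 1 - ((mult φ χ β * mult φ χ β : ℕ) : ℤ) := by
    rw [← memLocalIdeal_intCast_iff hM (M := M)]
    convert h using 2
    push_cast
    ring
  have h2 : (mult φ χ β : ZMod p) * (mult φ χ β : ZMod p) = 1 := by
    have h3 := (ZMod.intCast_zmod_eq_zero_iff_dvd _ p).2 hd
    push_cast at h3
    exact (sub_eq_zero.1 h3).symm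
  exact mul_self_eq_one_iff.1 h2

theorem good_injective (hM : IsPModular p M) (hA : IsPGroup p A) (hG : ¬ p ∣ Nat.card G)
    {χ ψ : IrrCharacter G} (hχ : IsInv φ (χ : G → ℂ)) (hψ : IsInv φ (ψ : G → ℂ))
    {β : IrrCharacter (fixedSub φ)} (hβ : ¬ p ∣ mult φ χ β) (hβ' : ¬ p ∣ mult φ ψ β) :
    χ = ψ := by
  classical
  by_contra hne
  have h := sum_good φ hM hA hG hχ hψ hβ
  rw [if_neg hne, zero_sub] at h
  have h1 := (memLocalIdeal_natCast_iff hM (mult φ χ β * mult φ ψ β)).1
    (by simpa using memLocalIdeal_neg h)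
  exact ((Nat.Prime.dvd_mul hp.out).1 h1).elim hβ hβ'

/-- The degrees agree up to sign modulo `p`. -/
theorem degree_congr (hM : IsPModular p M) (hA : IsPGroup p A) (hG : ¬ p ∣ Nat.card G)
    {χ : IrrCharacter G} (hχ : IsInv φ (χ : G → ℂ)) {β : IrrCharacter (fixedSub φ)}
    (hβ : ¬ p ∣ mult φ χ β) :
    (charDegree (χ : G → ℂ) : ZMod p) * (mult φ χ β : ZMod p) =
      (charDegree (β : fixedSub φ → ℂ) : ZMod p) := by
  have h := omega_restrict_one φ hM hA hG hχ hβ
  rw [omega_restrict_eq] at h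
  have h1 := memLocalIdeal_mul_left (memLocalRing_natCast (M := M)
    (Nat.card G * charDegree (β : fixedSub φ → ℂ))) h
  have hne : ((Nat.card G : ℂ) * (charDegree (β : fixedSub φ → ℂ) : ℂ)) ≠ 0 :=
    mul_ne_zero natCard_ne_zero_complex (Nat.cast_ne_zero.2 (Blocks.charDegree_pos β).ne')
  rw [Nat.cast_mul, mul_sub, mul_one, mul_div_cancel₀ _ hne] at h1
  have hcard := memLocalIdeal_mul_right (card_congr_fixed φ hM hA (M := M) (p := p))
    (memLocalRing_natCast (charDegree (β : fixedSub φ → ℂ)))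
  have h2 : MemLocalIdeal M ((Nat.card (fixedSub φ) : ℂ) * (((charDegree (χ : G → ℂ) : ℤ) *
      (mult φ χ β : ℤ) - (charDegree (β : fixedSub φ → ℂ) : ℤ) : ℤ) : ℂ)) := by
    convert memLocalIdeal_add h1 hcard using 1
    push_cast
    ring
  have h3 := ((memLocalIdeal_mul_iff (memLocalRing_natCast _) (memLocalRing_intCast _)).1
    h2).resolve_left fun h0 => not_dvd_card_fixed φ hG ((memLocalIdeal_natCast_iff hM _).1 h0)
  rw [memLocalIdeal_intCast_iff hM, ← ZMod.intCast_zmod_eq_zero_iff_dvd] at h3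
  push_cast at h3
  exact sub_eq_zero.1 h3

/-- The correspondence as an equivalence. -/
theorem exists_glauberman (hA : IsPGroup p A) (hG : ¬ p ∣ Nat.card G) :
    ∃ π : InvIrr φ ≃ IrrCharacter (fixedSub φ),
      (∀ χ β, ¬ p ∣ mult φ χ.1 β ↔ π χ = β) ∧
      ∀ χ, ((mult φ χ.1 (π χ) : ZMod p) = 1 ∨ (mult φ χ.1 (π χ) : ZMod p) = -1) ∧
        (charDegree (χ.1 : G → ℂ) : ZMod p) * (mult φ χ.1 (π χ) : ZMod p) =
          (charDegree ((π χ) : fixedSub φ → ℂ) : ZMod p) := by
  obtain ⟨M, hM⟩ := exists_isPModular hp.out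
  haveI := hM.2.1.isPrime
  have hg : ∀ χ : InvIrr φ, ∃ β, ¬ p ∣ mult φ χ.1 β := fun χ => exists_good φ hM hA hG χ.2
  choose f hf using hg
  refine ⟨Equiv.ofBijective f ⟨fun χ ψ h => ?_, fun β => ?_⟩, fun χ β => ?_, fun χ => ?_⟩
  · exact Subtype.ext (good_injective φ hM hA hG χ.2 ψ.2 (hf χ) (h ▸ hf ψ))
  · obtain ⟨χ, hχ, hβ⟩ := good_surjective φ hM hA hG β
    exact ⟨⟨χ, hχ⟩, good_unique φ hM hA hG hχ hβ (hf ⟨χ, hχ⟩)⟩
  · show _ ↔ f χ = β
    exact ⟨fun h => good_unique φ hM hA hG χ.2 h (hf χ), fun h => h ▸ hf χ⟩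
  · exact ⟨mult_sq φ hM hA hG χ.2 (hf χ), degree_congr φ hM hA hG χ.2 (hf χ)⟩

end Cfsg.Agent.Lib.Glauberman
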