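import Cfsg.Agent.Lib.Glauberman.Above
import Cfsg.Agent.Lib.Glauberman.Conj
import Cfsg.Agent.Lib.BrauerPairs.AbelianPIndex

/-!
# Invariant characters over an abelian quotient
-/

set_option autoImplicit false
set_option linter.unusedSectionVars false
set_option linter.style.haveILetI false

namespace Cfsg.Agent.Lib.Glauberman

open Cfsg Cfsg.Agent.Lib.Blocks Cfsg.Agent.Lib.Characters
open Cfsg.Agent.Lib.BrauerPairs (transIrr transIrr_apply LinOver exists_linOver_ne_one linOverEquiv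
  card_linOver)
open Cfsg.Agent.Lib.BlockHeights (twistIrr twistIrr_apply)
open scoped ComplexConjugate

universe u v w

/-- Averaging: a group of order prime to the exponent of an abelian group fixes a point of an
orbit it stabilises. -/
theorem exists_fixed_of_abelian {S : Type v} [Group S] [Fintype S] {Lam : Type w} [CommGroup Lam]
    {n : ℕ} (hn : ∀ l : Lam, l ^ n = 1) (hcop : n.Coprime (Fintype.card S)) {X : Type u}
    [MulAction Lam X] [MulAction S X] (α : S → Lam →* Lam)
    (hα : ∀ (s : S) (l : Lam) (x : X), s • l • x = α s l • s • x) (x : X)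
    (h : ∀ s : S, ∃ l : Lam, s • x = l • x) : ∃ l : Lam, ∀ s : S, s • l • x = l • x := by
  classical
  choose c hc using h
  obtain ⟨u, hu, hu0⟩ := Nat.chineseRemainder hcop 1 0
  obtain ⟨v, rfl⟩ := Nat.modEq_zero_iff_dvd.1 hu0
  set μ := ∏ t, c t with hμ
  refine ⟨μ ^ v, fun s => ?_⟩
  set H := MulAction.stabilizer Lam x with hH
  have hd : ∀ t : S, (c (s * t))⁻¹ * (α s (c t) * c s) ∈ H := fun t => by
    rw [hH, MulAction.mem_stabilizer_iff, mul_smul, inv_smul_eq_iff, mul_smul, ← hc s, ← hα,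
      ← hc t, ← hc (s * t), mul_smul]
  have hprod : μ⁻¹ * (α s μ * c s ^ Fintype.card S) ∈ H := by
    have h1 := Subgroup.prod_mem H (t := Finset.univ) fun t _ => hd t
    rw [Finset.prod_mul_distrib, Finset.prod_mul_distrib, Finset.prod_inv_distrib, ← map_prod,
      Finset.prod_const, Finset.card_univ] at h1
    rwa [show ∏ t, c (s * t) = μ from
      Fintype.prod_equiv (Equiv.mulLeft s) _ _ fun t => rfl] at h1
  have h2 := H.pow_mem hprod v
  have hcs : (c s ^ Fintype.card S) ^ v = c s := by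
    rw [← pow_mul]
    conv_rhs => rw [← pow_one (c s)]
    exact pow_eq_pow_of_modEq hu (hn (c s))
  rw [hH, MulAction.mem_stabilizer_iff, mul_pow, mul_pow, inv_pow, hcs, ← map_pow, mul_smul,
    inv_smul_eq_iff, mul_smul, ← hc s, ← hα] at h2
  exact h2

/-- Characters over a common character of a subgroup with abelian quotient differ by a linear
character. -/
theorem exists_twist_of_classInner {G : Type u} [Group G] [Fintype G] (M : Subgroup G) [M.Normal]
    [Fintype M] (hab : ∀ a b : G ⧸ M, a * b = b * a) (χ χ' : IrrCharacter G)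
    (h : classInner (fun m : M => (χ : G → ℂ) m) (fun m : M => (χ' : G → ℂ) m) ≠ 0) :
    ∃ l : LinOver M, twistIrr χ l.1 = χ' := by
  classical
  haveI : Finite (LinOver M) := Finite.of_equiv _ (linOverEquiv M).symm
  haveI := Fintype.ofFinite (LinOver M)
  by_contra hcon
  push Not at hcon
  have hsum : ∀ g : G, (∑ l : LinOver M, (l.1 g : ℂ)) = if g ∈ M then (M.index : ℂ) else 0 := by
    intro g
    split_ifs with hg
    · rw [Finset.sum_congr rfl fun l _ => show ((l.1 g : ℂˣ) : ℂ) = 1 by rw [l.2 g hg]; rfl,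
        Finset.sum_const, Finset.card_univ, ← Nat.card_eq_fintype_card, card_linOver M hab,
        nsmul_eq_mul, mul_one]
    · obtain ⟨μ, hμ⟩ := exists_linOver_ne_one M hab hg
      have hmul : (μ.1 g : ℂ) * ∑ l : LinOver M, (l.1 g : ℂ) = ∑ l : LinOver M, (l.1 g : ℂ) := by
        rw [Finset.mul_sum]
        refine Fintype.sum_equiv
          { toFun := fun l => ⟨μ.1 * l.1, fun n hn => by simp [μ.2 n hn, l.2 n hn]⟩
            invFun := fun l => ⟨μ.1⁻¹ * l.1, fun n hn => by simp [μ.2 n hn, l.2 n hn]⟩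
            left_inv := fun l => Subtype.ext (inv_mul_cancel_left μ.1 l.1)
            right_inv := fun l => Subtype.ext (mul_inv_cancel_left μ.1 l.1) } _ _ fun l => ?_
        simp
      rcases mul_eq_zero.1 (show ((μ.1 g : ℂ) - 1) * ∑ l : LinOver M, (l.1 g : ℂ) = 0 by
        rw [sub_mul, hmul, one_mul, sub_self]) with h0 | h0
      · exact absurd (Units.ext (sub_eq_zero.1 h0)) hμ
      · exact h0
  have h1 : ∑ g : G, (χ : G → ℂ) g * conj ((χ' : G → ℂ) g) * ∑ l : LinOver M, (l.1 g : ℂ) = 0 := by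
    simp only [Finset.mul_sum]
    rw [Finset.sum_comm]
    refine Finset.sum_eq_zero fun l _ => ?_
    have h2 := classInner_irr (twistIrr χ l.1) χ'
    rw [if_neg (hcon l), classInner, mul_eq_zero] at h2
    rw [← h2.resolve_left (inv_ne_zero natCard_ne_zero_complex)]
    exact Finset.sum_congr rfl fun g _ => by rw [twistIrr_apply]; ring
  simp only [hsum, mul_ite, mul_zero] at h1
  rw [← Finset.sum_filter, ← Finset.sum_mul,
    Finset.sum_subtype (p := fun g => g ∈ M) _ (fun g => by simp) _,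
    mul_eq_zero] at h1
  refine h ?_
  rw [classInner, h1.resolve_right (Nat.cast_ne_zero.2 Subgroup.index_ne_zero_of_finite),
    mul_zero]

theorem classInner_ne_zero_trans {G : Type u} [Group G] [Fintype G] (M : Subgroup G) [Fintype M]
    {χ : G → ℂ} (hχ : IsCharacter G χ) (ψ : IrrCharacter G) {θ : M → ℂ} (hθ : IsCharacter M θ)
    (h1 : classInner χ (ψ : G → ℂ) ≠ 0)
    (h2 : classInner (fun m : M => (ψ : G → ℂ) m) θ ≠ 0) :
    classInner (fun m : M => χ m) θ ≠ 0 := by
  classical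
  haveI := Fintype.ofFinite (IrrCharacter G)
  have ha : ∀ ξ : IrrCharacter G, ∃ a : ℕ, classInner χ (ξ : G → ℂ) *
      classInner (fun m : M => (ξ : G → ℂ) m) θ = (a : ℂ) := fun ξ => by
    obtain ⟨a, ha⟩ := IsCharacter.exists_classInner_nat hχ (irr_isCharacter ξ)
    obtain ⟨b, hb⟩ := IsCharacter.exists_classInner_nat
      (IsCharacter.restrict (irr_isCharacter ξ) M) hθ
    exact ⟨a * b, by rw [ha, hb, Nat.cast_mul]⟩
  choose a ha using ha
  rw [classInner_sub_eq_sum M (IsCharacter.isClassFunction hχ),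
    Finset.sum_congr rfl fun ξ _ => ha ξ, ← Nat.cast_sum, Nat.cast_ne_zero]
  intro h0
  have h3 := ha ψ
  rw [(Finset.sum_eq_zero_iff.1 h0) ψ (Finset.mem_univ ψ), Nat.cast_zero] at h3
  exact mul_ne_zero h1 h2 h3

variable {Γ : Type u} [Group Γ] [Fintype Γ]

/-- Invariance under conjugation by the elements of `T`. -/
def InvUnder (T : Subgroup Γ) {G : Subgroup Γ} (f : G → ℂ) : Prop :=
  ∀ t ∈ T, ∀ g g' : G, (g' : Γ) = t * g * t⁻¹ → f g' = f g

theorem conj_mem_of_le_normalizer {G T : Subgroup Γ} (h : T ≤ Subgroup.normalizer (G : Set Γ))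
    {t : Γ} (ht : t ∈ T) {g : Γ} (hg : g ∈ G) : t * g * t⁻¹ ∈ G :=
  ((Subgroup.mem_normalizer_iff.1 (h ht)) g).1 hg

theorem exists_invariant_above_of_abelian (G M T : Subgroup Γ) [Fintype G] [Fintype M]
    (hMG : M ≤ G) [(M.subgroupOf G).Normal] (hTG : T ≤ Subgroup.normalizer (G : Set Γ))
    (hTM : T ≤ Subgroup.normalizer (M : Set Γ))
    (hab : ∀ a ∈ G, ∀ b ∈ G, a * b * a⁻¹ * b⁻¹ ∈ M)
    (hcop : (M.relIndex G).Coprime (M.relIndex T))
    (ψ : IrrCharacter M) (hψ : InvUnder T (ψ : M → ℂ)) :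
    ∃ χ : IrrCharacter G, classInner (fun m : M => (χ : G → ℂ) ⟨m, hMG m.2⟩) (ψ : M → ℂ) ≠ 0 ∧
      InvUnder T (χ : G → ℂ) := by
  classical
  have hnorm : ∀ t ∈ T, ∀ g ∈ G, t * g * t⁻¹ ∈ G := fun t ht g hg =>
    conj_mem_of_le_normalizer hTG ht hg
  set M' := M.subgroupOf G with hM'
  haveI := Fintype.ofFinite M'
  let i : M' ≃* M := Subgroup.subgroupOfEquivOfLe hMG
  set ψ' := transIrr i.symm ψ with hψ'
  have hq : ∀ a b : G ⧸ M', a * b = b * a := fun x y => by
    obtain ⟨a, rfl⟩ := QuotientGroup.mk_surjective x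
    obtain ⟨b, rfl⟩ := QuotientGroup.mk_surjective y
    rw [← QuotientGroup.mk_mul, ← QuotientGroup.mk_mul, QuotientGroup.eq]
    show (((a * b)⁻¹ * (b * a) : G) : Γ) ∈ M
    have h := hab (b : Γ)⁻¹ (G.inv_mem b.2) (a : Γ)⁻¹ (G.inv_mem a.2)
    simpa [mul_assoc] using h
  haveI : (M.subgroupOf T).Normal := Subgroup.normal_subgroupOf_of_le_normalizer hTM
  -- the action on the characters
  let ρ : T →* Equiv.Perm (IrrCharacter G) :=
    { toFun := fun t => irrEquiv (conjHom G T hnorm t)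
      map_one' := Equiv.ext fun χ => Subtype.ext (funext fun g => by
        show (χ : G → ℂ) ((conjHom G T hnorm 1).symm g) = (χ : G → ℂ) g
        rw [map_one]; rfl)
      map_mul' := fun s t => Equiv.ext fun χ => Subtype.ext (funext fun g => by
        show (χ : G → ℂ) ((conjHom G T hnorm (s * t)).symm g) =
          (χ : G → ℂ) ((conjHom G T hnorm t).symm ((conjHom G T hnorm s).symm g))
        rw [map_mul]; rfl) }
  have hker : M.subgroupOf T ≤ ρ.ker := fun t ht => MonoidHom.mem_ker.2 (Equiv.ext fun χ => by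
    refine (transIrr_eq_self_iff (conjHom G T hnorm t) χ).2 fun g => ?_
    refine Eq.trans (congrArg (χ : G → ℂ) (Subtype.ext ?_))
      (irr_isClassFunction χ g ⟨(t : Γ), hMG ht⟩)
    rfl)
  let ρ' : T ⧸ M.subgroupOf T →* Equiv.Perm (IrrCharacter G) := QuotientGroup.lift _ ρ hker
  letI : MulAction (T ⧸ M.subgroupOf T) (IrrCharacter G) :=
    MulAction.compHom (IrrCharacter G) ρ'
  have hact : ∀ (q : T ⧸ M.subgroupOf T) (χ : IrrCharacter G),
      q • χ = transIrr (conjHom G T hnorm q.out) χ := fun q χ => by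
    conv_lhs => rw [← QuotientGroup.out_eq' q]
    rfl
  -- the linear characters
  let Lam : Subgroup (G →* ℂˣ) :=
    { carrier := {l | ∀ m ∈ M', l m = 1}
      one_mem' := fun _ _ => rfl
      mul_mem' := fun {a b} ha hb m hm => by rw [MonoidHom.mul_apply, ha m hm, hb m hm, one_mul]
      inv_mem' := fun {a} ha m hm => by rw [MonoidHom.inv_apply, ha m hm, inv_one] }
  letI : MulAction Lam (IrrCharacter G) :=
    { smul := fun l χ => twistIrr χ l.1
      one_smul := fun χ => Subtype.ext (funext fun g => by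
        show (χ : G → ℂ) g * (((1 : G →* ℂˣ) g : ℂˣ) : ℂ) = _
        simp)
      mul_smul := fun a b χ => Subtype.ext (funext fun g => by
        show (χ : G → ℂ) g * (((a.1 * b.1) g : ℂˣ) : ℂ) =
          (χ : G → ℂ) g * ((b.1 g : ℂˣ) : ℂ) * ((a.1 g : ℂˣ) : ℂ)
        rw [MonoidHom.mul_apply, Units.val_mul]; ring) }
  have hn : ∀ l : Lam, l ^ M'.index = 1 := fun l => Subtype.ext (MonoidHom.ext fun g => by
    show ((l.1 ^ M'.index : G →* ℂˣ)) g = 1
    rw [MonoidHom.pow_apply]
    exact pow_index_eq_one_of_trivial l.1 (fun m : M' => l.2 m m.2) g)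
  have hmem : ∀ (t : T) (m : G), m ∈ M' → (conjHom G T hnorm t).symm m ∈ M' := by
    intro t m hm
    show (t : Γ)⁻¹ * m * (t : Γ) ∈ M
    simpa using conj_mem_of_le_normalizer hTM (T.inv_mem t.2) hm
  let α : T ⧸ M.subgroupOf T → Lam →* Lam := fun q =>
    { toFun := fun l => ⟨l.1.comp (conjHom G T hnorm q.out).symm.toMonoidHom,
        fun m hm => l.2 _ (hmem _ m hm)⟩
      map_one' := rfl
      map_mul' := fun a b => rfl }
  have hα : ∀ (q : T ⧸ M.subgroupOf T) (l : Lam) (χ : IrrCharacter G),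
      q • l • χ = α q l • q • χ := fun q l χ => by
    rw [hact, hact]
    exact Subtype.ext (funext fun g => rfl)
  -- a starting point
  obtain ⟨χ₀, hχ₀⟩ := exists_over M' ψ'
  have hover : ∀ t : T, classInner (fun m : M' => (transIrr (conjHom G T hnorm t) χ₀ : G → ℂ) m)
      (ψ' : M' → ℂ) = classInner (fun m : M' => (χ₀ : G → ℂ) m) (ψ' : M' → ℂ) := by
    intro t
    rw [classInner, classInner]
    congr 1
    refine (Fintype.sum_equiv
      { toFun := fun m : M' => (⟨conjHom G T hnorm t m, conj_mem_of_le_normalizer hTM t.2 m.2⟩ : M')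
        invFun := fun m : M' => ⟨(conjHom G T hnorm t).symm m, hmem t m m.2⟩
        left_inv := fun m => Subtype.ext ((conjHom G T hnorm t).symm_apply_apply _)
        right_inv := fun m => Subtype.ext ((conjHom G T hnorm t).apply_symm_apply _) }
      _ _ fun m => ?_).symm
    show (χ₀ : G → ℂ) m * conj ((ψ : M → ℂ) (i m)) =
      (transIrr (conjHom G T hnorm t) χ₀ : G → ℂ) (conjHom G T hnorm t m) *
        conj ((ψ : M → ℂ) (i ⟨conjHom G T hnorm t m, conj_mem_of_le_normalizer hTM t.2 m.2⟩))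
    rw [transIrr_apply, hψ (t : Γ) t.2 (i m)
      (i ⟨conjHom G T hnorm t m, conj_mem_of_le_normalizer hTM t.2 m.2⟩) rfl]
  have hmove : ∀ q : T ⧸ M.subgroupOf T, ∃ l : Lam, q • χ₀ = l • χ₀ := by
    intro q
    rw [hact]
    have h1 : classInner (fun m : M' => (χ₀ : G → ℂ) m)
        (fun m : M' => (transIrr (conjHom G T hnorm q.out) χ₀ : G → ℂ) m) ≠ 0 := by
      haveI := Fintype.ofFinite (IrrCharacter M')
      rw [classInner_eq_sum_irr
        (IsCharacter.isClassFunction (IsCharacter.restrict (irr_isCharacter χ₀) _))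
        (IsCharacter.isClassFunction (IsCharacter.restrict (irr_isCharacter _) _))]
      choose a ha using fun ξ : IrrCharacter M' =>
        IsCharacter.exists_classInner_nat (IsCharacter.restrict (irr_isCharacter χ₀) M')
          (irr_isCharacter ξ)
      choose b hb using fun ξ : IrrCharacter M' =>
        IsCharacter.exists_classInner_nat (IsCharacter.restrict
          (irr_isCharacter (transIrr (conjHom G T hnorm q.out) χ₀)) M') (irr_isCharacter ξ)
      rw [Finset.sum_congr rfl fun ξ _ => show _ = ((a ξ * b ξ : ℕ) : ℂ) by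
        rw [ha, hb, map_natCast, Nat.cast_mul], ← Nat.cast_sum, Nat.cast_ne_zero]
      intro h0
      have h2 := (Finset.sum_eq_zero_iff.1 h0) ψ' (Finset.mem_univ ψ')
      rcases mul_eq_zero.1 h2 with h3 | h3
      · exact hχ₀ (by rw [ha, h3, Nat.cast_zero])
      · exact hχ₀ (by rw [← hover q.out, hb, h3, Nat.cast_zero])
    obtain ⟨l, hl⟩ := exists_twist_of_classInner M' hq χ₀ _ h1
    exact ⟨⟨l.1, l.2⟩, hl.symm⟩
  haveI := Fintype.ofFinite (T ⧸ M.subgroupOf T)
  have hcop' : M'.index.Coprime (Fintype.card (T ⧸ M.subgroupOf T)) := by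
    rwa [← Nat.card_eq_fintype_card]
  obtain ⟨l, hl⟩ := exists_fixed_of_abelian hn hcop' α hα χ₀ hmove
  refine ⟨l • χ₀, fun h => hχ₀ ?_, fun t ht g g' hg => ?_⟩
  · rw [← h, classInner, classInner, Nat.card_congr i.toEquiv]
    congr 1
    refine Fintype.sum_equiv i.toEquiv _ _ fun m => ?_
    show (χ₀ : G → ℂ) m * conj ((ψ : M → ℂ) (i m)) =
      (χ₀ : G → ℂ) ⟨(i m : Γ), hMG (i m).2⟩ *
        ((l.1 ⟨(i m : Γ), hMG (i m).2⟩ : ℂˣ) : ℂ) * conj ((ψ : M → ℂ) (i m))
    rw [show (⟨(i m : Γ), hMG (i m).2⟩ : G) = (m : G) from Subtype.ext rfl, l.2 m m.2,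
      Units.val_one, mul_one]
  · have h1 : transIrr (conjHom G T hnorm ⟨t, ht⟩) (l • χ₀) = l • χ₀ :=
      hl ((⟨t, ht⟩ : T) : T ⧸ M.subgroupOf T)
    rw [show g' = conjHom G T hnorm ⟨t, ht⟩ g from Subtype.ext hg]
    exact (transIrr_eq_self_iff _ _).1 h1 g

end Cfsg.Agent.Lib.Glauberman
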