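import Cfsg.Agent.Lib.Glauberman.Equivariance
import Cfsg.Agent.Lib.Coprime.Hall

/-!
# Invariant characters and classes for a solvable group of operators
-/

set_option autoImplicit false
set_option linter.unusedSectionVars false
set_option linter.style.haveILetI false

namespace Cfsg.Agent.Lib.Glauberman

open Cfsg Cfsg.Agent.Lib.Blocks Cfsg.Agent.Lib.Characters
open Cfsg.Agent.Lib.BrauerPairs (transIrr transIrr_apply transIrr_symm transIrr_injective)

universe u v

/-- Irreducible characters of isomorphic groups. -/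
def irrEquiv {H K : Type u} [Group H] [Group K] (e : H ≃* K) :
    IrrCharacter H ≃ IrrCharacter K where
  toFun := transIrr e
  invFun := transIrr e.symm
  left_inv χ := transIrr_symm e.symm χ
  right_inv χ := transIrr_symm e χ

/-- Classes of isomorphic groups. -/
def conjClassesEquiv {H K : Type u} [Group H] [Group K] (e : H ≃* K) :
    ConjClasses H ≃ ConjClasses K where
  toFun := ConjClasses.map e.toMonoidHom
  invFun := ConjClasses.map e.symm.toMonoidHom
  left_inv c := by
    obtain ⟨h, rfl⟩ := ConjClasses.mk_surjective c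
    exact congrArg ConjClasses.mk (e.symm_apply_apply h)
  right_inv c := by
    obtain ⟨h, rfl⟩ := ConjClasses.mk_surjective c
    exact congrArg ConjClasses.mk (e.apply_symm_apply h)

theorem transIrr_eq_self_iff {H : Type u} [Group H] (e : H ≃* H) (χ : IrrCharacter H) :
    transIrr e χ = χ ↔ ∀ h, (χ : H → ℂ) (e h) = (χ : H → ℂ) h :=
  ⟨fun he h => by
    conv_lhs => rw [← he]
    exact transIrr_apply e χ h,
   fun hh => Subtype.ext (funext fun k => by
    obtain ⟨h, rfl⟩ := e.surjective k
    rw [transIrr_apply, hh])⟩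

theorem exists_equiv_aux : ∀ (n : ℕ) {A : Type v} [Group A] [Finite A] [Group.IsSolvable A]
    {G : Type u} [Group G] [Fintype G] (φ : A →* MulAut G), Nat.card A ≤ n →
    (Nat.card A).Coprime (Nat.card G) →
    Nonempty (InvIrr φ ≃ IrrCharacter (fixedSub φ)) ∧
      Nonempty (InvClass φ ≃ ConjClasses (fixedSub φ)) := by
  intro n
  induction n with
  | zero =>
    intro A _ _ _ G _ _ φ hA
    exact absurd hA (Nat.not_le.2 Nat.card_pos)
  | succ n ih =>
    intro A _ _ _ G _ _ φ hA hcop
    classical
    cases subsingleton_or_nontrivial A with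
    | inl hsub =>
      have hfix : ∀ (a : A) (g : G), φ a g = g := fun a g => by
        rw [Subsingleton.elim a 1, map_one]; rfl
      have htop : fixedSub φ = ⊤ := top_unique fun g _ a => hfix a g
      let e : G ≃* fixedSub φ :=
        Subgroup.topEquiv.symm.trans (MulEquiv.subgroupCongr htop.symm)
      refine ⟨⟨(Equiv.subtypeUnivEquiv fun χ a g => ?_).trans (irrEquiv e)⟩,
        ⟨(Equiv.subtypeUnivEquiv fun K a g hg => ?_).trans (conjClassesEquiv e)⟩⟩
      · rw [hfix]
      · rw [hfix]; exact hg
    | inr hnt =>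
      obtain ⟨p, B, hp, hBn, hB0, -, hB, -⟩ :=
        Coprime.exists_normal_isPGroup_isMulCommutative A
      haveI := Fact.mk hp
      let φB : B →* MulAut G := φ.comp B.subtype
      have hpG : ¬ p ∣ Nat.card G := fun hd => by
        obtain ⟨k, hk⟩ := IsPGroup.iff_card.1 hB
        have hk0 : k ≠ 0 := fun h0 => hB0 (Subgroup.eq_bot_of_card_eq B (by rw [hk, h0, pow_zero]))
        exact hp.one_lt.ne' (Nat.eq_one_of_dvd_one (hcop ▸ Nat.dvd_gcd
          ((dvd_pow_self p hk0).trans (hk ▸ Subgroup.card_subgroup_dvd_card B)) hd))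
      haveI : Fintype (fixedSub φB) := Fintype.ofFinite _
      obtain ⟨π, hπ, -⟩ := exists_glauberman φB hB hpG
      obtain ⟨e, he⟩ := nonempty_classEquiv φB hB hpG
      -- `A` acts on the fixed points of `B`
      have hmaps : ∀ (a : A) (c : G), c ∈ fixedSub φB → φ a c ∈ fixedSub φB := by
        intro a c hc b
        show φ (b : A) (φ a c) = φ a c
        have hb : a⁻¹ * (b : A) * a ∈ B := by simpa using hBn.conj_mem (b : A) b.2 a⁻¹
        rw [show φ (b : A) (φ a c) = φ ((b : A) * a) c by rw [map_mul]; rfl,
          show (b : A) * a = a * (a⁻¹ * (b : A) * a) by group, map_mul]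
        exact congrArg (φ a) (hc ⟨_, hb⟩)
      let σ₀ : A →* MulAut (fixedSub φB) :=
        { toFun := fun a =>
            { toFun := fun c => ⟨φ a c, hmaps a c c.2⟩
              invFun := fun c => ⟨φ a⁻¹ c, hmaps a⁻¹ c c.2⟩
              left_inv := fun c => Subtype.ext (by
                show φ a⁻¹ (φ a c) = c
                rw [map_inv]; exact (φ a).symm_apply_apply c)
              right_inv := fun c => Subtype.ext (by
                show φ a (φ a⁻¹ c) = c
                rw [map_inv]; exact (φ a).apply_symm_apply c)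
              map_mul' := fun c d => Subtype.ext (map_mul (φ a) (c : G) d) }
          map_one' := MulEquiv.ext fun c => Subtype.ext (by
            show φ 1 (c : G) = c
            rw [map_one]; rfl)
          map_mul' := fun a b => MulEquiv.ext fun c => Subtype.ext (by
            show φ (a * b) (c : G) = φ a (φ b c)
            rw [map_mul]; rfl) }
      have hker : B ≤ σ₀.ker := fun b hb =>
        MonoidHom.mem_ker.2 (MulEquiv.ext fun c => Subtype.ext (c.2 ⟨b, hb⟩))
      let ψ : A ⧸ B →* MulAut (fixedSub φB) := QuotientGroup.lift B σ₀ hker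
      have hψ : ∀ (a : A) (c : fixedSub φB), ((ψ a c : fixedSub φB) : G) = φ a c := fun a c => rfl
      have hcardA : Nat.card A = Nat.card (A ⧸ B) * Nat.card B :=
        Subgroup.card_eq_card_quotient_mul_card_subgroup B
      have hB1 : 1 < Nat.card B := by
        haveI := (Subgroup.nontrivial_iff_ne_bot B).2 hB0
        exact Finite.one_lt_card
      have hq : Nat.card (A ⧸ B) ≤ n := by
        have h1 : 0 < Nat.card (A ⧸ B) := Nat.card_pos
        nlinarith
      obtain ⟨⟨E₁⟩, ⟨E₂⟩⟩ := ih ψ hq ((hcop.coprime_dvd_left (hcardA ▸ Dvd.intro _ rfl)).coprime_dvd_right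
        (Subgroup.card_subgroup_dvd_card _))
      let d : fixedSub ψ ≃* fixedSub φ :=
        { toFun := fun c => ⟨((c : fixedSub φB) : G), fun a =>
            congrArg Subtype.val (c.2 (a : A ⧸ B))⟩
          invFun := fun c => ⟨⟨(c : G), fun b => c.2 b⟩, fun q => by
            obtain ⟨a, rfl⟩ := QuotientGroup.mk_surjective q
            exact Subtype.ext (c.2 a)⟩
          left_inv := fun _ => rfl
          right_inv := fun _ => rfl
          map_mul' := fun _ _ => rfl }
      -- invariant characters
      have hkey : ∀ χ : InvIrr φB, IsInv φ (χ.1 : G → ℂ) ↔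
          IsInv ψ (π χ : fixedSub φB → ℂ) := by
        intro χ
        have hinv : ∀ a : A, IsInv φB (transIrr (φ a) χ.1 : G → ℂ) := fun a b g => by
          obtain ⟨x, rfl⟩ := (φ a).surjective g
          have hb : a⁻¹ * (b : A) * a ∈ B := by simpa using hBn.conj_mem (b : A) b.2 a⁻¹
          show (transIrr (φ a) χ.1 : G → ℂ) (φ (b : A) (φ a x)) = _
          rw [show φ (b : A) (φ a x) = φ a (φ (a⁻¹ * (b : A) * a) x) by
            rw [show φ (b : A) (φ a x) = φ ((b : A) * a) x by rw [map_mul]; rfl,
              show (b : A) * a = a * (a⁻¹ * (b : A) * a) by group, map_mul]; rfl,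
            transIrr_apply, transIrr_apply]
          exact χ.2 ⟨_, hb⟩ x
        have hmove : ∀ a : A, π ⟨_, hinv a⟩ = transIrr (ψ a) (π χ) := fun a =>
          apply_transIrr φB π hπ (φ a) (ψ a) (hψ a) χ ⟨_, hinv a⟩ rfl
        constructor
        · intro h q c
          obtain ⟨a, rfl⟩ := QuotientGroup.mk_surjective q
          refine (transIrr_eq_self_iff (ψ a) (π χ)).1 ?_ c
          rw [← hmove a]
          exact congrArg π (Subtype.ext ((transIrr_eq_self_iff (φ a) χ.1).2 (h a)))
        · intro h a
          refine (transIrr_eq_self_iff (φ a) χ.1).1 ?_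
          have h1 := hmove a
          rw [(transIrr_eq_self_iff (ψ a) (π χ)).2 (h a)] at h1
          exact congrArg Subtype.val (π.injective h1)
      let toB : InvIrr φ ≃ {χ : InvIrr φB // IsInv φ (χ.1 : G → ℂ)} :=
        { toFun := fun χ => ⟨⟨χ.1, fun b g => χ.2 b g⟩, χ.2⟩
          invFun := fun χ => ⟨χ.1.1, χ.2⟩
          left_inv := fun _ => rfl
          right_inv := fun _ => rfl }
      refine ⟨⟨toB.trans ((π.subtypeEquiv (q := fun β : IrrCharacter (fixedSub φB) =>
          IsInv ψ (β : fixedSub φB → ℂ)) hkey).trans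
        (E₁.trans (irrEquiv d)))⟩, ?_⟩
      -- invariant classes
      have hkey' : ∀ D : ConjClasses (fixedSub φB),
          (∀ (q : A ⧸ B) (c : fixedSub φB), ConjClasses.mk c = D → ConjClasses.mk (ψ q c) = D) ↔
          (∀ (a : A) (g : G), ConjClasses.mk g = (e D).1 → ConjClasses.mk (φ a g) = (e D).1) := by
        intro D
        obtain ⟨c, rfl⟩ := ConjClasses.mk_surjective D
        rw [he c]
        constructor
        · intro h a g hg
          rw [ConjClasses.mk_eq_mk_iff_isConj] at hg ⊢
          have h1 := (fixedSub φB).subtype.map_isConj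
            (ConjClasses.mk_eq_mk_iff_isConj.1 (h (a : A ⧸ B) c rfl))
          exact ((φ a).toMonoidHom.map_isConj hg).trans h1
        · intro h q x hx
          obtain ⟨a, rfl⟩ := QuotientGroup.mk_surjective q
          rw [ConjClasses.mk_eq_mk_iff_isConj] at hx ⊢
          exact isConj_of_isConj φB hB hpG (ConjClasses.mk_eq_mk_iff_isConj.1
            (h a (x : G) (ConjClasses.mk_eq_mk_iff_isConj.2 ((fixedSub φB).subtype.map_isConj hx))))
      let toB' : InvClass φ ≃ {K : InvClass φB //
          ∀ (a : A) (g : G), ConjClasses.mk g = K.1 → ConjClasses.mk (φ a g) = K.1} :=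
        { toFun := fun K => ⟨⟨K.1, fun b g h => K.2 b g h⟩, K.2⟩
          invFun := fun K => ⟨K.1.1, K.2⟩
          left_inv := fun _ => rfl
          right_inv := fun _ => rfl }
      exact ⟨toB'.trans ((e.subtypeEquiv
        (q := fun K : InvClass φB =>
          ∀ (a : A) (g : G), ConjClasses.mk g = K.1 → ConjClasses.mk (φ a g) = K.1) hkey').symm.trans
        (E₂.trans (conjClassesEquiv d)))⟩

variable {A : Type v} [Group A] [Finite A] [Group.IsSolvable A] {G : Type u} [Group G] [Fintype G]
  (φ : A →* MulAut G)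

theorem nonempty_invIrr_equiv (hcop : (Nat.card A).Coprime (Nat.card G)) :
    Nonempty (InvIrr φ ≃ IrrCharacter (fixedSub φ)) :=
  (exists_equiv_aux _ φ le_rfl hcop).1

theorem card_invIrr_eq_card_invClass (hcop : (Nat.card A).Coprime (Nat.card G)) :
    Nat.card (InvIrr φ) = Nat.card (InvClass φ) := by
  obtain ⟨⟨E₁⟩, ⟨E₂⟩⟩ := exists_equiv_aux _ φ le_rfl hcop
  rw [Nat.card_congr E₁, Nat.card_congr E₂, card_irrCharacter]

theorem card_invIrr_eq_card_classes_fixed (hcop : (Nat.card A).Coprime (Nat.card G)) :
    Nat.card (InvIrr φ) = Nat.card (ConjClasses (fixedSub φ)) := by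
  rw [Nat.card_congr (nonempty_invIrr_equiv φ hcop).some, card_irrCharacter]

end Cfsg.Agent.Lib.Glauberman
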