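import Cfsg.Agent.Lib.Characters.ExtensionCoprime
import Cfsg.Agent.Lib.Characters.DegreeRatio
import Cfsg.Agent.Lib.Blocks.Covering
import Cfsg.Agent.Lib.Glauberman.Solvable

/-!
# Characters of degree prime to the index of a normal Hall subgroup
-/

set_option autoImplicit false
set_option linter.unusedSectionVars false
set_option linter.style.haveILetI false

namespace Cfsg.Agent.Lib.Glauberman

open Cfsg Cfsg.Agent.Lib.Blocks Cfsg.Agent.Lib.Characters

universe u

variable {G : Type u} [Group G] [Finite G] (K : Subgroup G) [hK : K.Normal]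

/-- Invariant characters of a normal Hall subgroup extend. -/
theorem exists_extension_of_coprime (hcop : (Nat.card K).Coprime K.index) (θ : IrrCharacter K)
    (hinv : ∀ g : G, conjFun K g (θ : K → ℂ) = (θ : K → ℂ)) :
    ∃ χ : IrrCharacter G, ∀ k : K, (χ : G → ℂ) k = (θ : K → ℂ) k := by
  haveI := Fintype.ofFinite K
  have hθc := irr_isCharacter θ
  have hinv0 : ∀ (g : G) (n : K),
      (θ : K → ℂ) ⟨g * n * g⁻¹, hK.conj_mem (n : G) n.2 g⟩ = (θ : K → ℂ) n :=
    fun g n => congrFun (hinv g) n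
  have hdet := isCharacter_detChar hθc
  have hinv' : ∀ (g : G) (n : K),
      detChar (θ : K → ℂ) ⟨g * n * g⁻¹, hK.conj_mem (n : G) n.2 g⟩ = detChar (θ : K → ℂ) n := by
    intro g n
    have h := congrFun (detChar_comp (MulAut.conjNormal g : MulAut K).toMonoidHom hθc) n
    rw [show (θ : K → ℂ) ∘ (MulAut.conjNormal g : MulAut K).toMonoidHom = (θ : K → ℂ) from
      funext (conjNormal_invariant hinv0 g)] at h
    rw [h]
    exact congrArg _ (Subtype.ext (MulAut.conjNormal_apply g n).symm)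
  obtain ⟨lam, hlam⟩ := IsCharacter.exists_hom_of_apply_one hdet.1 hdet.2
  have hord : orderOf (detChar (θ : K → ℂ)) ∣ Nat.card K := by
    refine orderOf_dvd_of_pow_eq_one (funext fun n => ?_)
    rw [hlam, Pi.pow_apply, Pi.one_apply, ← Units.val_pow_eq_pow_val, ← map_pow,
      pow_card_eq_one', map_one, Units.val_one]
  obtain ⟨μ, ⟨hμ, hμ1, hμN, -⟩, -⟩ := exists_linear_extension_coprime hdet.1 hdet.2 hinv'
    (hcop.symm.coprime_dvd_right hord)
  obtain ⟨χ, hχ, hres⟩ := exists_irr_extension_of_det θ.2 hinv0 (charDegree_eq θ).symm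
    (hcop.symm.coprime_dvd_right (Blocks.charDegree_dvd_card θ)) hμ hμ1 hμN
  exact ⟨⟨χ, hχ⟩, hres⟩

/-- A character of degree prime to the index restricts irreducibly. -/
theorem exists_restrict_eq_of_degree_coprime (χ : IrrCharacter G)
    (hdeg : (charDegree (χ : G → ℂ)).Coprime K.index) :
    ∃ θ : IrrCharacter K, (∀ g : G, conjFun K g (θ : K → ℂ) = (θ : K → ℂ)) ∧
      ∀ k : K, (χ : G → ℂ) k = (θ : K → ℂ) k := by
  haveI := Fintype.ofFinite G
  haveI := Fintype.ofFinite K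
  obtain ⟨θ, hθ⟩ := IsCharacter.exists_constituent (IsCharacter.restrict (irr_isCharacter χ) K)
    fun h => IsIrrCharacter.apply_one_ne_zero χ.2 (by simpa using congrFun h 1)
  obtain ⟨e, he, hei⟩ := degree_ratio_dvd_index K χ.2 θ.2 hθ
  rw [← charDegree_eq χ, ← charDegree_eq θ] at he
  have hdvd : e ∣ charDegree (χ : G → ℂ) := ⟨_, by exact_mod_cast he⟩
  obtain rfl : e = 1 := Nat.eq_one_of_dvd_coprimes hdeg hdvd hei
  obtain ⟨c, hc⟩ := IsCharacter.exists_classInner_nat (IsCharacter.restrict (irr_isCharacter χ) K)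
    (irr_isCharacter θ)
  have hd := degree_eq K χ.2 θ.2 hθ
  rw [hc, ← charDegree_eq χ, he, ← charDegree_eq θ] at hd
  have hd' : 1 * charDegree (θ : K → ℂ) =
      c * (inertia K (θ : K → ℂ)).index * charDegree (θ : K → ℂ) := by exact_mod_cast hd
  obtain ⟨hc1, ht⟩ := mul_eq_one.1
    (Nat.eq_of_mul_eq_mul_right (Blocks.charDegree_pos θ) hd').symm
  have hinv : ∀ g : G, conjFun K g (θ : K → ℂ) = (θ : K → ℂ) := fun g =>
    (mem_inertia_iff K).1 (by rw [Subgroup.index_eq_one.1 ht]; trivial)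
  refine ⟨θ, hinv, fun k => ?_⟩
  have h := congrFun (restrict_eq_smul_of_invariant K χ.2 θ.2 hinv hθ) k
  rw [hc, hc1] at h
  simpa using h

theorem card_degree_coprime (hcop : (Nat.card K).Coprime K.index) :
    Nat.card {χ : IrrCharacter G // (charDegree (χ : G → ℂ)).Coprime K.index} =
      Nat.card {θ : IrrCharacter K // ∀ g : G, conjFun K g (θ : K → ℂ) = (θ : K → ℂ)} *
        Nat.card {l : G →* ℂˣ // ∀ k : K, l k = 1} := by
  haveI := Fintype.ofFinite G
  haveI := Fintype.ofFinite K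
  choose ext hext using fun θ : {θ : IrrCharacter K //
    ∀ g : G, conjFun K g (θ : K → ℂ) = (θ : K → ℂ)} =>
      exists_extension_of_coprime K hcop θ.1 θ.2
  rw [← Nat.card_prod]
  symm
  have hres : ∀ (θ : {θ : IrrCharacter K // ∀ g : G, conjFun K g (θ : K → ℂ) = (θ : K → ℂ)})
      (l : {l : G →* ℂˣ // ∀ k : K, l k = 1}) (k : K),
      (l.1 k : ℂ) * (ext θ : G → ℂ) k = (θ.1 : K → ℂ) k := fun θ l k => by
    rw [l.2 k, hext θ k, Units.val_one, one_mul]
  have hdeg : ∀ (θ : {θ : IrrCharacter K // ∀ g : G, conjFun K g (θ : K → ℂ) = (θ : K → ℂ)})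
      (l : {l : G →* ℂˣ // ∀ k : K, l k = 1}),
      (charDegree fun g => (l.1 g : ℂ) * (ext θ : G → ℂ) g).Coprime K.index := fun θ l => by
    have h1 := hres θ l 1
    simp only [OneMemClass.coe_one] at h1
    rw [charDegree, h1]
    exact hcop.coprime_dvd_left (Blocks.charDegree_dvd_card θ.1)
  refine Nat.card_congr (Equiv.ofBijective (fun x => ⟨⟨fun g => (x.2.1 g : ℂ) *
    (ext x.1 : G → ℂ) g, isIrrCharacter_twist _ (ext x.1).2⟩, hdeg x.1 x.2⟩) ⟨?_, ?_⟩)
  · rintro ⟨θ, l⟩ ⟨θ', l'⟩ h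
    have h0 : (fun g => (l.1 g : ℂ) * (ext θ : G → ℂ) g) =
        fun g => (l'.1 g : ℂ) * (ext θ' : G → ℂ) g :=
      congrArg (fun x : {χ : IrrCharacter G // (charDegree (χ : G → ℂ)).Coprime K.index} =>
        (x.1 : G → ℂ)) h
    obtain rfl : θ = θ' := Subtype.ext (Subtype.ext (funext fun k => by
      rw [← hres θ l k, ← hres θ' l' k]; exact congrFun h0 k))
    have hd : (ext θ : G → ℂ) 1 = (charDegree (θ.1 : K → ℂ) : ℂ) := by
      rw [charDegree_eq]; exact hext θ 1
    have h1 := congrArg detChar h0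
    rw [detChar_twist _ (irr_isCharacter _) hd, detChar_twist _ (irr_isCharacter _) hd] at h1
    obtain ⟨δ, hδ⟩ := IsCharacter.exists_hom_of_apply_one
      (isCharacter_detChar (irr_isCharacter (ext θ))).1
      (isCharacter_detChar (irr_isCharacter (ext θ))).2
    refine Prod.ext rfl (Subtype.ext (MonoidHom.ext fun g => ?_))
    have e1 : (l.1 g * (l'.1 g)⁻¹) ^ charDegree (θ.1 : K → ℂ) = 1 := by
      have h2 := congrFun h1 g
      simp only [hδ] at h2
      rw [mul_pow, inv_pow, mul_inv_eq_one]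
      refine Units.ext ?_
      have h3 := mul_right_cancel₀ (δ g).ne_zero h2
      simpa using h3
    have e2 : (l.1 g * (l'.1 g)⁻¹) ^ K.index = 1 :=
      pow_index_eq_one_of_trivial (l.1 * l'.1⁻¹) (fun n => by simp [l.2 n, l'.2 n]) g
    have e3 := pow_gcd_eq_one.mpr ⟨e1, e2⟩
    rw [(hcop.coprime_dvd_left (Blocks.charDegree_dvd_card θ.1)).gcd_eq_one, pow_one,
      mul_inv_eq_one] at e3
    exact e3
  · rintro ⟨χ, hχ⟩
    obtain ⟨θ, hinv, hθ⟩ := exists_restrict_eq_of_degree_coprime K χ hχ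
    have hirr : IsIrrCharacter K (fun k : K => (ext ⟨θ, hinv⟩ : G → ℂ) k) := by
      rw [show (fun k : K => (ext ⟨θ, hinv⟩ : G → ℂ) k) = (θ : K → ℂ) from
        funext (hext ⟨θ, hinv⟩)]
      exact θ.2
    obtain ⟨l, hl, hlχ⟩ := exists_linear_mul_of_restrict_eq (irr_isCharacter _)
      (irr_isCharacter χ) hirr (fun k => (hθ k).trans (hext ⟨θ, hinv⟩ k).symm)
    exact ⟨⟨⟨θ, hinv⟩, ⟨l, hl⟩⟩, Subtype.ext (Subtype.ext hlχ.symm)⟩

/-- Linear characters trivial on `K` are those of a complement. -/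
theorem card_linear_of_complement (H : Subgroup G) (hKH : K ⊔ H = ⊤) (hdis : K ⊓ H = ⊥) :
    Nat.card {l : G →* ℂˣ // ∀ k : K, l k = 1} = Nat.card (H →* ℂˣ) := by
  let f : H →* G ⧸ K := (QuotientGroup.mk' K).comp H.subtype
  have hf : Function.Bijective f := by
    refine ⟨(injective_iff_map_eq_one f).2 fun h hh => ?_, fun q => ?_⟩
    · refine Subtype.ext (Subgroup.mem_bot.1 (hdis ▸ ⟨?_, h.2⟩))
      exact (QuotientGroup.eq_one_iff _).1 hh
    · obtain ⟨g, rfl⟩ := QuotientGroup.mk_surjective q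
      obtain ⟨k, hk, h, hh, rfl⟩ := Subgroup.mem_sup_of_normal_left.1
        (show g ∈ K ⊔ H by rw [hKH]; trivial)
      refine ⟨⟨h, hh⟩, ?_⟩
      show ((h : G) : G ⧸ K) = _
      rw [QuotientGroup.mk_mul, (QuotientGroup.eq_one_iff k).2 hk, one_mul]
  let e : H ≃* G ⧸ K := MulEquiv.ofBijective f hf
  refine Nat.card_congr
    { toFun := fun l => l.1.comp H.subtype
      invFun := fun m => ⟨(m.comp e.symm.toMonoidHom).comp (QuotientGroup.mk' K), fun k => by
        simp [(QuotientGroup.eq_one_iff (k : G)).2 k.2]⟩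
      left_inv := fun l => Subtype.ext (MonoidHom.ext fun g => ?_)
      right_inv := fun m => MonoidHom.ext fun h => ?_ }
  · obtain ⟨k, hk, h, hh, rfl⟩ := Subgroup.mem_sup_of_normal_left.1
      (show g ∈ K ⊔ H by rw [hKH]; trivial)
    have h1 : e.symm ((k * h : G) : G ⧸ K) = ⟨h, hh⟩ := by
      rw [MulEquiv.symm_apply_eq]
      show _ = ((h : G) : G ⧸ K)
      rw [QuotientGroup.mk_mul, (QuotientGroup.eq_one_iff k).2 hk, one_mul]
    show l.1 (e.symm ((k * h : G) : G ⧸ K) : G) = l.1 (k * h)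
    rw [h1, map_mul, show l.1 k = 1 from l.2 ⟨k, hk⟩, one_mul]
  · show m (e.symm ((h : G) : G ⧸ K)) = m h
    rw [show ((h : G) : G ⧸ K) = e h from rfl, e.symm_apply_apply]

end Cfsg.Agent.Lib.Glauberman
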