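import Cfsg.Agent.Lib.Glauberman.CentralExtension
import Cfsg.Agent.Lib.Glauberman.AboveAbelian
import Cfsg.Agent.Lib.Characters.ExtensionChar
import Cfsg.Agent.Lib.Characters.Gallagher

/-!
# Invariant characters in a layer of coprime index
-/

set_option autoImplicit false
set_option linter.unusedSectionVars false
set_option linter.style.haveILetI false

namespace Cfsg.Agent.Lib.Glauberman

open Cfsg Cfsg.Agent.Lib.Blocks Cfsg.Agent.Lib.Characters
open Cfsg.Agent.Lib.BrauerPairs (transIrr transIrr_apply)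
open Module
open scoped ComplexConjugate

universe u

/-- A character trivial on `N` times one irreducible on `N` is irreducible. -/
theorem isIrr_mul_of_const {G : Type u} [Group G] [Fintype G] (N : Subgroup G) [N.Normal]
    [Fintype N] {β χ : G → ℂ} (hβ : IsIrrCharacter G β) (hχ : IsIrrCharacter G χ)
    (hχN : IsIrrCharacter N (fun n : N => χ n))
    (hβc : ∀ (n : N) (g : G), β ((n : G) * g) = β g) : IsIrrCharacter G (β * χ) := by
  have hprod := IsCharacter.mul (IsIrrCharacter.isCharacter hβ) (IsIrrCharacter.isCharacter hχ)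
  refine (IsCharacter.isIrr_iff hprod).mpr ?_
  have h1 := classInner_avgN_of_const N (χ * fun g => conj (χ g))
    (φ := fun g => β g * conj (β g)) fun n g => by simp only [hβc]
  rw [avgN_mul_conj_self N hχ hχN] at h1
  rw [← IsIrrCharacter.classInner_self hβ]
  simp only [classInner, Pi.mul_apply, map_mul, Complex.conj_conj, one_mul] at h1 ⊢
  rw [Finset.sum_congr rfl fun g _ => mul_comm ((conj : ℂ →+* ℂ) (β g)) _] at h1
  rw [h1]
  congr 1
  exact Finset.sum_congr rfl fun g _ => by ring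

variable {Γ : Type u} [Group Γ] [Fintype Γ]

/-- The descent: `S` lifts `Γ` with a representation extending `ρ` and scalar on the kernel. -/
theorem exists_invariant_of_lifting (G N : Subgroup Γ) [hG : G.Normal] [hN : N.Normal] [Fintype G]
    [Fintype N] (hNG : N ≤ G) (hcop : (G.index).Coprime (N.relIndex G))
    (hsolv : Group.IsSolvable (Γ ⧸ G)) (θ : IrrCharacter N) {d : ℕ}
    (ρ : Representation ℂ N (Fin d → ℂ)) [ρ.IsIrreducible] (hθ : ρ.character = (θ : N → ℂ))
    {S : Type u} [Group S] [Finite S] (p : S →* Γ) (hp : Function.Surjective p) (nL : N →* S)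
    (hpn : ∀ n : N, p (nL n) = n) [hNb : nL.range.Normal]
    (σ : Representation ℂ S (Fin d → ℂ)) (hσ : ∀ n : N, σ (nL n) = ρ n)
    (hcomm : ∀ k ∈ p.ker, ∀ t : S, k * t = t * k) (c : p.ker →* ℂˣ)
    (hc : ∀ k : p.ker, σ (k : S) = ((c k : ℂˣ) : ℂ) • (1 : End ℂ (Fin d → ℂ))) :
    ∃ χ : IrrCharacter G, classInner (fun n : N => (χ : G → ℂ) ⟨n, hNG n.2⟩) (θ : N → ℂ) ≠ 0 ∧
      ∀ (x : Γ) (g g' : G), (g' : Γ) = x * g * x⁻¹ → (χ : G → ℂ) g' = (χ : G → ℂ) g := by
  classical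
  haveI := Fintype.ofFinite S
  let Nb : Subgroup S := nL.range
  let mk : S →* S ⧸ Nb := QuotientGroup.mk' Nb
  let SG : Subgroup S := G.comap p
  haveI : SG.Normal := hG.comap p
  have hNbG : Nb ≤ SG := by
    rintro _ ⟨n, rfl⟩
    show p (nL n) ∈ G
    rw [hpn]; exact hNG n.2
  have hkerG : p.ker ≤ SG := fun s hs => by
    show p s ∈ G
    rw [MonoidHom.mem_ker.1 hs]; exact G.one_mem
  let QG : Subgroup (S ⧸ Nb) := SG.map mk
  haveI : QG.Normal := Subgroup.Normal.map ‹SG.Normal› _ (QuotientGroup.mk'_surjective _)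
  haveI := Fintype.ofFinite QG
  let Z : Subgroup (S ⧸ Nb) := p.ker.map mk
  have hZG : Z ≤ QG := Subgroup.map_mono hkerG
  have hZc : ∀ z ∈ Z, ∀ q : S ⧸ Nb, z * q = q * z := by
    rintro _ ⟨s, hs, rfl⟩ q
    obtain ⟨t, rfl⟩ := QuotientGroup.mk_surjective q
    show mk s * mk t = mk t * mk s
    rw [← map_mul, ← map_mul]
    exact congrArg mk (hcomm s hs t)
  have hQGidx : QG.index = G.index := by
    rw [Subgroup.index_map_eq SG (QuotientGroup.mk'_surjective _) (by
      rw [QuotientGroup.ker_mk']; exact hNbG), Subgroup.index_comap_of_surjective _ hp]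
  have hcopQ : (Z.relIndex QG).Coprime QG.index := by
    have hsup : p.ker ⊔ Nb = N.comap p := by
      refine le_antisymm (sup_le (fun s hs => ?_) ?_) fun s hs => ?_
      · show p s ∈ N
        rw [MonoidHom.mem_ker.1 hs]; exact N.one_mem
      · rintro _ ⟨n, rfl⟩
        show p (nL n) ∈ N
        rw [hpn]; exact n.2
      · rw [show s = s * (nL ⟨p s, hs⟩)⁻¹ * nL ⟨p s, hs⟩ by group]
        refine Subgroup.mul_mem _ (Subgroup.mem_sup_left ?_) (Subgroup.mem_sup_right ⟨_, rfl⟩)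
        rw [MonoidHom.mem_ker, map_mul, map_inv, hpn, mul_inv_cancel]
    rw [hQGidx, Subgroup.relIndex_map_map, QuotientGroup.ker_mk', hsup,
      sup_eq_left.2 hNbG, Subgroup.relIndex_comap, Subgroup.map_comap_eq_self_of_surjective hp]
    exact hcop.symm
  have hsolvQ : Group.IsSolvable ((S ⧸ Nb) ⧸ QG) := by
    haveI := hsolv
    have hφ1 : Nb ≤ ((QuotientGroup.mk' G).comp p).ker := fun x hx => by
      rw [MonoidHom.mem_ker]
      exact (QuotientGroup.eq_one_iff (p x)).2 (hNbG hx)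
    let φ : S ⧸ Nb →* Γ ⧸ G := QuotientGroup.lift Nb ((QuotientGroup.mk' G).comp p) hφ1
    have hφ2 : QG ≤ φ.ker := by
      rintro _ ⟨x, hx, rfl⟩
      rw [MonoidHom.mem_ker]
      exact (QuotientGroup.eq_one_iff (p x)).2 hx
    refine Group.isSolvable_of_isSolvable_injective (f := QuotientGroup.lift QG φ hφ2)
      ((injective_iff_map_eq_one _).2 fun q hq => ?_)
    obtain ⟨y, rfl⟩ := QuotientGroup.mk_surjective q
    obtain ⟨x, rfl⟩ := QuotientGroup.mk_surjective y
    refine (QuotientGroup.eq_one_iff _).2 ⟨x, ?_, rfl⟩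
    exact (QuotientGroup.eq_one_iff (p x)).1 hq
  -- the inverse of the scalar as a linear character of `Z`
  let e : p.ker →* Z := mk.subgroupMap p.ker
  have he : Function.Bijective e := by
    refine ⟨(injective_iff_map_eq_one e).2 fun a ha => ?_, MonoidHom.subgroupMap_surjective _ _⟩
    obtain ⟨n, hn⟩ := (QuotientGroup.eq_one_iff a.1).1 (congrArg Subtype.val ha)
    have h1 : (n : Γ) = 1 := by
      rw [← hpn n, hn]; exact MonoidHom.mem_ker.1 a.2
    exact Subtype.ext (by rw [← hn, show n = 1 from Subtype.ext h1, map_one]; rfl)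
  let lam : Z →* ℂˣ := (c⁻¹).comp (MulEquiv.ofBijective e he).symm.toMonoidHom
  have hlam : ∀ a : p.ker, lam (e a) = (c a)⁻¹ := fun a => by
    show (c ((MulEquiv.ofBijective e he).symm (e a)))⁻¹ = _
    rw [show e a = MulEquiv.ofBijective e he a from rfl, MulEquiv.symm_apply_apply]
  obtain ⟨ψ, hψinv, hψZ⟩ := exists_invariant_central QG Z hZG hZc hcopQ hsolvQ lam
  -- the two factors on `SG`
  haveI := Fintype.ofFinite SG
  let fQ : SG →* QG := mk.subgroupMap SG
  let τ : Representation ℂ SG (Fin d → ℂ) := σ.comp SG.subtype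
  have hσirr : τ.IsIrreducible := by
    have hi := (isIrreducible_iff_forall ρ).mp inferInstance
    exact (isIrreducible_iff_forall τ).mpr ⟨hi.1, fun W hW => hi.2 W fun n x hx => by
      rw [← hσ n]
      exact hW ⟨nL n, hNbG ⟨n, rfl⟩⟩ x hx⟩
  let χσ : SG → ℂ := fun x => LinearMap.trace ℂ _ (σ x)
  have hχσ : IsIrrCharacter SG χσ :=
    haveI := hσirr
    isIrrCharacter_of_rep τ
  let N₁ : Subgroup SG := Nb.subgroupOf SG
  haveI := Fintype.ofFinite N₁
  let g₁ : N₁ →* N := (p.comp (SG.subtype.comp N₁.subtype)).codRestrict N fun x => by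
    obtain ⟨n, hn⟩ := x.2
    show p ((x : SG) : S) ∈ N
    rw [show ((x : SG) : S) = nL n from hn.symm, hpn]
    exact n.2
  have hg₁ : Function.Surjective g₁ := fun n =>
    ⟨⟨⟨nL n, hNbG ⟨n, rfl⟩⟩, n, rfl⟩, Subtype.ext (hpn n)⟩
  have hresσ : ∀ x : N₁, χσ x = (θ : N → ℂ) (g₁ x) := fun x => by
    obtain ⟨n, hn⟩ := x.2
    have h1 : g₁ x = n := Subtype.ext (by
      show p ((x : SG) : S) = n
      rw [show ((x : SG) : S) = nL n from hn.symm, hpn])
    simp only [h1, χσ, show ((x : SG) : S) = nL n from hn.symm, hσ, ← hθ]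
    rfl
  have hχσN : IsIrrCharacter N₁ (fun x : N₁ => χσ x) := by
    rw [show (fun x : N₁ => χσ x) = (θ : N → ℂ) ∘ g₁ from funext hresσ]
    exact IsIrrCharacter.comp_surjective θ.2 g₁ hg₁
  have hψ' := IsIrrCharacter.comp_surjective ψ.2 fQ (MonoidHom.subgroupMap_surjective _ _)
  have hconst : ∀ (n : N₁) (x : SG),
      ((ψ : QG → ℂ) ∘ fQ) ((n : SG) * x) = ((ψ : QG → ℂ) ∘ fQ) x := fun n x => by
    have h1 : fQ (n : SG) = 1 := Subtype.ext ((QuotientGroup.eq_one_iff _).2 n.2)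
    simp only [Function.comp_apply, map_mul, h1, one_mul]
  have hprod := isIrr_mul_of_const N₁ hψ' hχσ hχσN hconst
  -- descent to `G`
  let pG : SG →* G := (p.comp SG.subtype).codRestrict G fun x => x.2
  have hpG : Function.Surjective pG := fun g => by
    obtain ⟨s, hs⟩ := hp g
    exact ⟨⟨s, show p s ∈ G by rw [hs]; exact g.2⟩, Subtype.ext hs⟩
  have hscal : ∀ (k : SG), k ∈ pG.ker → ∀ x : SG,
      (ψ : QG → ℂ) (fQ (k * x)) * χσ (k * x) = (ψ : QG → ℂ) (fQ x) * χσ x := by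
    intro k hk x
    have hk' : (k : S) ∈ p.ker := congrArg Subtype.val hk
    have h1 := hψZ (e ⟨(k : S), hk'⟩) (fQ x)
    rw [hlam] at h1
    have h2 : fQ (k * x) = ⟨((e ⟨(k : S), hk'⟩ : Z) : S ⧸ Nb), hZG (e ⟨(k : S), hk'⟩).2⟩ * fQ x := by
      rw [map_mul]; rfl
    have h3 : σ (k : S) = ((c ⟨(k : S), hk'⟩ : ℂˣ) : ℂ) • (1 : End ℂ (Fin d → ℂ)) :=
      hc ⟨(k : S), hk'⟩
    rw [h2, h1]
    show _ * LinearMap.trace ℂ _ (σ ((k : S) * (x : S))) = _
    rw [map_mul, h3, smul_mul_assoc, one_mul, map_smul, smul_eq_mul]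
    simp only [χσ, Units.val_inv_eq_inv_val]
    field_simp
  obtain ⟨χq, hχq, hfq⟩ := IsIrrCharacter.exists_quotient hprod pG.ker (fun k hk => by
    have h := hscal k hk 1
    rwa [mul_one] at h)
  let eq : SG ⧸ pG.ker ≃* G := QuotientGroup.quotientKerEquivOfSurjective pG hpG
  refine ⟨⟨χq ∘ eq.symm, IsIrrCharacter.comp_equiv hχq eq.symm⟩, ?_, ?_⟩
  · have hval : ∀ n : N, (χq ∘ eq.symm) ⟨n, hNG n.2⟩ = (ψ : QG → ℂ) 1 * (θ : N → ℂ) n := by
      intro n
      have h1 := congrFun hfq ⟨nL n, hNbG ⟨n, rfl⟩⟩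
      have h2 : eq.symm ⟨n, hNG n.2⟩ = ((⟨nL n, hNbG ⟨n, rfl⟩⟩ : SG) : SG ⧸ pG.ker) := by
        rw [MulEquiv.symm_apply_eq]
        exact Subtype.ext (hpn n).symm
      show χq (eq.symm ⟨n, hNG n.2⟩) = _
      rw [h2]
      refine Eq.trans h1.symm ?_
      show (ψ : QG → ℂ) (fQ _) * χσ _ = _
      rw [show fQ (⟨nL n, hNbG ⟨n, rfl⟩⟩ : SG) = 1 from
          Subtype.ext ((QuotientGroup.eq_one_iff _).2 ⟨n, rfl⟩)]
      congr 1
      show LinearMap.trace ℂ _ (σ (nL n)) = _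
      rw [hσ, ← hθ]
      rfl
    have h1 : (fun n : N => (χq ∘ eq.symm) ⟨n, hNG n.2⟩) = (ψ : QG → ℂ) 1 • (θ : N → ℂ) :=
      funext hval
    show classInner (fun n : N => (χq ∘ eq.symm) ⟨n, hNG n.2⟩) _ ≠ 0
    rw [h1, classInner_smul_left, IsIrrCharacter.classInner_self θ.2, mul_one]
    exact IsIrrCharacter.apply_one_ne_zero ψ.2
  · intro x g g' hg
    obtain ⟨s, hs⟩ := hp x
    obtain ⟨y, hy⟩ := hpG g
    let y' : SG := ⟨s * y * s⁻¹, ‹SG.Normal›.conj_mem _ y.2 s⟩
    have hy' : pG y' = g' := Subtype.ext (by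
      show p (s * y * s⁻¹) = g'
      rw [map_mul, map_mul, map_inv, hs, hg, ← hy]
      rfl)
    have hev : ∀ z : SG, (χq ∘ eq.symm) (pG z) = (ψ : QG → ℂ) (fQ z) * χσ z := fun z => by
      rw [show pG z = eq (z : SG ⧸ pG.ker) from rfl, Function.comp_apply, eq.symm_apply_apply]
      exact (congrFun hfq z).symm
    show (χq ∘ eq.symm) g' = (χq ∘ eq.symm) g
    rw [← hy', ← hy, hev, hev]
    congr 1
    · refine hψinv (mk s) (fQ y) (fQ y') ?_
      show mk (s * y * s⁻¹) = _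
      rw [map_mul, map_mul, map_inv]
      rfl
    · show LinearMap.trace ℂ _ (σ (s * y * s⁻¹)) = LinearMap.trace ℂ _ (σ y)
      exact σ.char_conj (y : S) s


theorem exists_invariant_layer_of_solvable_quotient (G N : Subgroup Γ) [hG : G.Normal]
    [hN : N.Normal] [Fintype G] [Fintype N] (hNG : N ≤ G)
    (hcop : (G.index).Coprime (N.relIndex G)) (hsolv : Group.IsSolvable (Γ ⧸ G))
    (θ : IrrCharacter N)
    (hinv : ∀ (x : Γ) (n : N),
      (θ : N → ℂ) ⟨x * n * x⁻¹, hN.conj_mem n n.2 x⟩ = (θ : N → ℂ) n) :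
    ∃ χ : IrrCharacter G, classInner (fun n : N => (χ : G → ℂ) ⟨n, hNG n.2⟩) (θ : N → ℂ) ≠ 0 ∧
      ∀ (x : Γ) (g g' : G), (g' : Γ) = x * g * x⁻¹ → (χ : G → ℂ) g' = (χ : G → ℂ) g := by
  classical
  obtain ⟨d, ρ, hρ, hθ⟩ := θ.2
  haveI := nontrivial_of_isIrreducible ρ
  have hinv' : ∀ (g : Γ) (n : N),
      ρ.character (MulAut.conjNormal g n) = ρ.character n := fun g n => by
    have h := conjNormal_invariant (N := N) (θ := (θ : N → ℂ)) hinv g n
    simpa only [← hθ] using h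
  -- a finite group of intertwiners
  let o := Nat.card N
  let S : Subgroup (intertwiners N ρ) := ((powMonoidHom o).comp (detLift N ρ)).ker
  have hNS : ∀ n, nLift N ρ n ∈ S := fun n => by
    show detLift N ρ (nLift N ρ n) ^ o = 1
    rw [detLift_nLift, ← map_pow, pow_card_eq_one', map_one]
  let p : S →* Γ := (projLift N ρ).comp S.subtype
  have hp : Function.Surjective p := fun g => by
    obtain ⟨m, h1, h2⟩ := exists_lift_det N ρ hinv' g 1
    exact ⟨⟨m, show detLift N ρ m ^ o = 1 by rw [h2, one_pow]⟩, h1⟩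
  have hker : ∀ s : S, p s = 1 → ∃ c : ℂˣ, c ^ (finrank ℂ (Fin d → ℂ) * o) = 1 ∧
      scalarLift N ρ c = s.1 := fun s hs => by
    obtain ⟨c, hc⟩ := exists_scalar_of_proj_eq_one N ρ (m := s.1) hs
    refine ⟨c, ?_, hc⟩
    have h1 : detLift N ρ s.1 ^ o = 1 := s.2
    rwa [← hc, detLift_scalarLift, ← pow_mul] at h1
  haveI : NeZero (finrank ℂ (Fin d → ℂ) * o) :=
    ⟨mul_ne_zero (finrank_pos_of_isIrreducible ρ).ne' Nat.card_pos.ne'⟩
  haveI : Finite p.ker := by
    choose c hc1 hc2 using fun s : p.ker => hker s.1 (MonoidHom.mem_ker.1 s.2)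
    exact Finite.of_injective
      (fun s => (⟨c s, (mem_rootsOfUnity _ _).2 (hc1 s)⟩ :
        rootsOfUnity (finrank ℂ (Fin d → ℂ) * o) ℂ)) fun s t h => by
      have h1 := congrArg (fun x : rootsOfUnity (finrank ℂ (Fin d → ℂ) * o) ℂ => x.1) h
      exact Subtype.ext (Subtype.ext ((hc2 s).symm.trans ((congrArg _ h1).trans (hc2 t))))
  haveI : Finite (S ⧸ p.ker) :=
    Finite.of_equiv _ (QuotientGroup.quotientKerEquivOfSurjective p hp).symm.toEquiv
  haveI : Finite S := Finite.of_equiv _ (Subgroup.groupEquivQuotientProdSubgroup (s := p.ker)).symm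
  let nL : N →* S := (nLift N ρ).codRestrict S hNS
  haveI : nL.range.Normal := ⟨by
    rintro _ ⟨n, rfl⟩ s
    exact ⟨MulAut.conjNormal (p s) n, Subtype.ext (conj_nLift N ρ s.1 n).symm⟩⟩
  choose c hc using fun s : p.ker => hker s.1 (MonoidHom.mem_ker.1 s.2)
  let cz : p.ker →* ℂˣ :=
    { toFun := c
      map_one' := scalarLift_injective N ρ (by rw [(hc 1).2, map_one]; rfl)
      map_mul' := fun a b => scalarLift_injective N ρ (by
        rw [map_mul, (hc _).2, (hc a).2, (hc b).2]; rfl) }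
  let σ : Representation ℂ S (Fin d → ℂ) := (Units.coeHom _).comp
    ((MonoidHom.snd Γ _).comp ((intertwiners N ρ).subtype.comp S.subtype))
  refine exists_invariant_of_lifting G N hNG hcop hsolv θ ρ hθ p hp nL (fun n => rfl) σ
    (fun n => rfl) (fun k hk t => Subtype.ext ?_) cz fun k => ?_
  · obtain ⟨z, -, hz⟩ := hker k hk
    show k.1 * t.1 = t.1 * k.1
    rw [← hz, scalarLift_comm]
  · show ((k : S).1.1.2 : End ℂ (Fin d → ℂ)) = _
    rw [← (hc k).2, scalarLift_coe_snd, Algebra.algebraMap_eq_smul_one]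
    rfl

end Cfsg.Agent.Lib.Glauberman
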