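import Cfsg.Agent.Lib.Glauberman.Equivariance
import Cfsg.Agent.Lib.Glauberman.AboveAbelian
import Cfsg.Agent.Lib.Glauberman.CoprimeDegree
import Cfsg.Agent.Lib.Glauberman.InvariantLayer

/-!
# The correspondence over an invariant character of a normal `p`-subgroup: the inertial case
-/

set_option autoImplicit false
set_option linter.unusedSectionVars false
set_option linter.style.haveILetI false

namespace Cfsg.Agent.Lib.Glauberman

open Cfsg Cfsg.Agent.Lib.Blocks Cfsg.Agent.Lib.Characters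
open Cfsg.Agent.Lib.BrauerPairs (transIrr transIrr_apply LinOver)
open Cfsg.Agent.Lib.BlockHeights (twistIrr twistIrr_apply exists_twist_of_restrict_eq)
open scoped ComplexConjugate

universe u v

variable {A : Type v} [Group A] {T : Type u} [Group T] (φ : A →* MulAut T) (Q : Subgroup T)
  [hQn : Q.Normal] (hQ : ∀ a, ∀ q ∈ Q, φ a q ∈ Q)

/-- The action on the quotient. -/
def quotAct : A →* MulAut (T ⧸ Q) where
  toFun a := QuotientGroup.congr Q Q (φ a) (le_antisymm
    (by rintro _ ⟨q, hq, rfl⟩; exact hQ a q hq)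
    fun q hq => ⟨φ a⁻¹ q, hQ a⁻¹ q hq, by
      show φ a (φ a⁻¹ q) = q
      rw [map_inv]; exact (φ a).apply_symm_apply q⟩)
  map_one' := MulEquiv.ext fun x => by
    obtain ⟨t, rfl⟩ := QuotientGroup.mk_surjective x
    show ((φ 1 t : T) : T ⧸ Q) = t
    rw [map_one]; rfl
  map_mul' a b := MulEquiv.ext fun x => by
    obtain ⟨t, rfl⟩ := QuotientGroup.mk_surjective x
    show ((φ (a * b) t : T) : T ⧸ Q) = ((φ a (φ b t) : T) : T ⧸ Q)
    rw [map_mul]; rfl

theorem quotAct_mk (a : A) (t : T) : quotAct φ Q hQ a (t : T ⧸ Q) = ((φ a t : T) : T ⧸ Q) := rfl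

/-- The elements fixed modulo `Q`. -/
def preFixed : Subgroup T := (fixedSub (quotAct φ Q hQ)).comap (QuotientGroup.mk' Q)

theorem mem_preFixed {t : T} : t ∈ preFixed φ Q hQ ↔ ∀ a, φ a t * t⁻¹ ∈ Q := by
  refine forall_congr' fun a => ?_
  show ((φ a t : T) : T ⧸ Q) = (t : T ⧸ Q) ↔ _
  rw [← QuotientGroup.eq_one_iff, QuotientGroup.mk_mul, QuotientGroup.mk_inv, mul_inv_eq_one]

theorem le_preFixed : Q ≤ preFixed φ Q hQ := fun q hq =>
  (mem_preFixed φ Q hQ).2 fun a => Q.mul_mem (hQ a q hq) (Q.inv_mem hq)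

theorem map_preFixed_mem (a : A) (t : T) (ht : t ∈ preFixed φ Q hQ) :
    φ a t ∈ preFixed φ Q hQ := by
  have h := (mem_preFixed φ Q hQ).1 ht a
  rw [show φ a t = (φ a t * t⁻¹) * t by group]
  exact Subgroup.mul_mem _ (le_preFixed φ Q hQ h) ht

/-- The projection of the elements fixed modulo `Q`. -/
def preFixedProj : preFixed φ Q hQ →* fixedSub (quotAct φ Q hQ) :=
  ((QuotientGroup.mk' Q).comp (preFixed φ Q hQ).subtype).codRestrict _ fun x => x.2

theorem preFixedProj_surjective : Function.Surjective (preFixedProj φ Q hQ) := by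
  rintro ⟨y, hy⟩
  obtain ⟨t, rfl⟩ := QuotientGroup.mk_surjective y
  exact ⟨⟨t, hy⟩, rfl⟩

/-- Inner products on a subgroup, seen inside a larger one. -/
theorem classInner_subgroupOf {G : Type u} [Group G] (N D : Subgroup G) [Fintype N]
    [Fintype (N.subgroupOf D)] (hND : N ≤ D) (f : D → ℂ) (g : N → ℂ) :
    classInner (fun x : N.subgroupOf D => f x)
        (fun x : N.subgroupOf D => g (Subgroup.subgroupOfEquivOfLe hND x)) =
      classInner (fun n : N => f ⟨n, hND n.2⟩) g := by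
  rw [classInner, classInner, Nat.card_congr (Subgroup.subgroupOfEquivOfLe hND).toEquiv]
  congr 1
  exact Fintype.sum_equiv (Subgroup.subgroupOfEquivOfLe hND).toEquiv _ _ fun x => rfl

/-- Inner products of functions pulled back along a surjection. -/
theorem classInner_comp_surjective {G H : Type u} [Group G] [Fintype G] [Group H] [Fintype H]
    (f : G →* H) (hf : Function.Surjective f) (α β : H → ℂ) :
    classInner (α ∘ f) (β ∘ f) = classInner α β := by
  classical
  haveI := Fintype.ofFinite f.ker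
  have hcard : Nat.card G = Nat.card H * Nat.card f.ker := by
    rw [Subgroup.card_eq_card_quotient_mul_card_subgroup f.ker,
      Nat.card_congr (QuotientGroup.quotientKerEquivOfSurjective f hf).toEquiv]
  have hfib : ∀ h : H, (Finset.univ.filter fun g => f g = h).card = Nat.card f.ker := fun h => by
    obtain ⟨g₀, rfl⟩ := hf h
    rw [Nat.card_eq_fintype_card, ← Finset.card_univ]
    refine Finset.card_bij (fun g hg => ⟨g * g₀⁻¹, by
      rw [MonoidHom.mem_ker, map_mul, map_inv, (Finset.mem_filter.1 hg).2, mul_inv_cancel]⟩)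
      (fun _ _ => Finset.mem_univ _) (fun a _ b _ h => mul_right_cancel (congrArg Subtype.val h))
      fun k _ => ⟨k * g₀, Finset.mem_filter.2 ⟨Finset.mem_univ _, by
        rw [map_mul, MonoidHom.mem_ker.1 k.2, one_mul]⟩, Subtype.ext (mul_inv_cancel_right _ _)⟩
  rw [classInner, classInner, ← Finset.sum_fiberwise Finset.univ f, hcard, Nat.cast_mul, mul_inv,
    mul_assoc, Finset.mul_sum (a := ((Nat.card f.ker : ℕ) : ℂ)⁻¹)]
  congr 1
  refine Finset.sum_congr rfl fun h _ => ?_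
  rw [Finset.sum_congr rfl fun g hg => show (α ∘ f) g * conj ((β ∘ f) g) = α h * conj (β h) by
    simp only [Function.comp_apply, (Finset.mem_filter.1 hg).2], Finset.sum_const, hfib,
    nsmul_eq_mul, inv_mul_cancel_left₀ natCard_ne_zero_complex]

/-- The characters over an extendible character, as products. -/
theorem exists_eq_mul_of_over {G : Type u} [Group G] [Fintype G] (N : Subgroup G) [N.Normal]
    [Fintype N] (θe : IrrCharacter G) (hθe : IsIrrCharacter N (fun n : N => (θe : G → ℂ) n))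
    (ψ : IrrCharacter G)
    (h : classInner (fun n : N => (ψ : G → ℂ) n) (fun n : N => (θe : G → ℂ) n) ≠ 0) :
    ∃ α : IrrCharacter (G ⧸ N), (ψ : G → ℂ) =
      fun g : G => (α : G ⧸ N → ℂ) (g : G ⧸ N) * (θe : G → ℂ) g := by
  obtain ⟨hη, hψ⟩ := (gallagher_avg N θe.2 hθe ψ.2).1 h
  obtain ⟨α, hα, hαe⟩ := IsIrrCharacter.exists_quotient hη N fun n hn =>
    avgN_apply_coe N _ ⟨n, hn⟩
  refine ⟨⟨α, hα⟩, ?_⟩
  conv_lhs => rw [hψ, hαe]
  rfl

theorem classInner_mul_extension {G : Type u} [Group G] [Fintype G] (N : Subgroup G) [N.Normal]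
    [Fintype N] {θe : G → ℂ} (hθe : IsIrrCharacter G θe)
    (hres : IsIrrCharacter N (fun n : N => θe n)) {a b : G → ℂ}
    (ha : ∀ (n : N) (g : G), a ((n : G) * g) = a g)
    (hb : ∀ (n : N) (g : G), b ((n : G) * g) = b g) :
    classInner (fun g => a g * θe g) (fun g => b g * θe g) = classInner a b := by
  have h1 := classInner_avgN_of_const N (θe * fun g => conj (θe g))
    (φ := fun g => conj (a g) * b g) fun n g => by simp only [ha, hb]
  rw [avgN_mul_conj_self N hθe hres] at h1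
  simp only [classInner, Pi.mul_apply, map_mul, Complex.conj_conj, one_mul] at h1 ⊢
  rw [h1]
  congr 1
  exact Finset.sum_congr rfl fun g _ => by ring

variable [Finite A] [Fintype T] [Fintype Q] {p : ℕ} [hp : Fact p.Prime] (hA : IsPGroup p A)
  (hQp : IsPGroup p Q) (hidx : ¬ p ∣ Q.index) (θ : IrrCharacter Q)
  (hθT : ∀ g : T, conjFun Q g (θ : Q → ℂ) = (θ : Q → ℂ))
  (hθA : IsInv (restrictAct φ Q hQ) (θ : Q → ℂ))

include hA hQp hidx hθT hθA in
/-- An invariant extension. -/
theorem exists_invariant_extension :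
    ∃ θe : IrrCharacter T, IsInv φ (θe : T → ℂ) ∧
      ∀ q : Q, (θe : T → ℂ) q = (θ : Q → ℂ) q := by
  classical
  haveI := Fintype.ofFinite A
  have hcopQ : (Nat.card Q).Coprime Q.index := by
    obtain ⟨k, hk⟩ := IsPGroup.iff_card.1 hQp
    rw [hk]
    exact ((hp.out.coprime_iff_not_dvd).2 hidx).pow_left k
  have hcopA : Q.index.Coprime (Fintype.card A) := by
    obtain ⟨k, hk⟩ := IsPGroup.iff_card.1 hA
    rw [← Nat.card_eq_fintype_card, hk]
    exact ((hp.out.coprime_iff_not_dvd).2 hidx).symm.pow_right k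
  obtain ⟨θ₀, hθ₀⟩ := exists_extension_of_coprime Q hcopQ θ hθT
  let Lam : Subgroup (T →* ℂˣ) :=
    { carrier := {l | ∀ m ∈ Q, l m = 1}
      one_mem' := fun _ _ => rfl
      mul_mem' := fun {a b} ha hb m hm => by rw [MonoidHom.mul_apply, ha m hm, hb m hm, one_mul]
      inv_mem' := fun {a} ha m hm => by rw [MonoidHom.inv_apply, ha m hm, inv_one] }
  letI : MulAction Lam (IrrCharacter T) :=
    { smul := fun l χ => twistIrr χ l.1
      one_smul := fun χ => Subtype.ext (funext fun g => by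
        show (χ : T → ℂ) g * (((1 : T →* ℂˣ) g : ℂˣ) : ℂ) = _
        simp)
      mul_smul := fun a b χ => Subtype.ext (funext fun g => by
        show (χ : T → ℂ) g * (((a.1 * b.1) g : ℂˣ) : ℂ) =
          (χ : T → ℂ) g * ((b.1 g : ℂˣ) : ℂ) * ((a.1 g : ℂˣ) : ℂ)
        rw [MonoidHom.mul_apply, Units.val_mul]; ring) }
  letI : MulAction A (IrrCharacter T) :=
    { smul := fun a χ => transIrr (φ a) χ
      one_smul := fun χ => Subtype.ext (funext fun g => by
        show (χ : T → ℂ) ((φ 1).symm g) = _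
        rw [map_one]; rfl)
      mul_smul := fun a b χ => Subtype.ext (funext fun g => by
        show (χ : T → ℂ) ((φ (a * b)).symm g) = (χ : T → ℂ) ((φ b).symm ((φ a).symm g))
        rw [map_mul]; rfl) }
  have hsymm : ∀ (a : A) (q : T), q ∈ Q → (φ a).symm q ∈ Q := fun a q hq => by
    have := hQ a⁻¹ q hq
    rwa [map_inv] at this
  let α : A → Lam →* Lam := fun a =>
    { toFun := fun l => ⟨l.1.comp (φ a).symm.toMonoidHom, fun m hm => l.2 _ (hsymm a m hm)⟩
      map_one' := rfl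
      map_mul' := fun _ _ => rfl }
  obtain ⟨l, hl⟩ := exists_fixed_of_abelian (n := Q.index)
    (fun l : Lam => Subtype.ext (MonoidHom.ext fun g => by
      show ((l.1 ^ Q.index : T →* ℂˣ)) g = 1
      rw [MonoidHom.pow_apply]
      exact pow_index_eq_one_of_trivial l.1 (fun m : Q => l.2 m m.2) g))
    hcopA α (fun a l χ => Subtype.ext (funext fun g => rfl)) θ₀ (fun a => by
      obtain ⟨l, hl, hlθ⟩ := exists_twist_of_restrict_eq Q (η := θ₀) (η' := transIrr (φ a) θ₀)
        θ.2 hθ₀ (fun n => by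
          refine Eq.trans (hθ₀ ⟨(φ a).symm n, hsymm a n n.2⟩) ?_
          refine (hθA a ⟨(φ a).symm n, hsymm a n n.2⟩).symm.trans
            (congrArg (θ : Q → ℂ) (Subtype.ext ?_))
          exact (φ a).apply_symm_apply _)
      exact ⟨⟨l, hl⟩, hlθ.symm⟩)
  refine ⟨l • θ₀, fun a g => (transIrr_eq_self_iff _ _).1 (hl a) g, fun q => ?_⟩
  show (θ₀ : T → ℂ) q * ((l.1 q : ℂˣ) : ℂ) = _
  rw [l.2 q q.2, Units.val_one, mul_one, hθ₀]

include hA hQp hidx hθT hθA in
/-- The correspondence between the invariant characters of `T` over `θ` and the characters of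
the elements fixed modulo `Q` over `θ`. -/
theorem inertial_correspondence [Fintype (preFixed φ Q hQ)] :
    ∃ F : IrrCharacter (preFixed φ Q hQ) → IrrCharacter T,
      (∀ η : IrrCharacter (preFixed φ Q hQ),
        classInner (fun n : Q => (η : preFixed φ Q hQ → ℂ) ⟨n, le_preFixed φ Q hQ n.2⟩)
          (θ : Q → ℂ) ≠ 0 →
        IsInv (restrictAct φ (preFixed φ Q hQ) (map_preFixed_mem φ Q hQ))
          (η : preFixed φ Q hQ → ℂ) ∧
        IsInv φ (F η : T → ℂ) ∧
        classInner (fun n : Q => (F η : T → ℂ) n) (θ : Q → ℂ) ≠ 0 ∧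
        ∃ m : ℕ, classInner (fun d : preFixed φ Q hQ => (F η : T → ℂ) d)
            (η : preFixed φ Q hQ → ℂ) = (m : ℂ) ∧
          ((m : ZMod p) = 1 ∨ (m : ZMod p) = -1) ∧
          (charDegree (F η : T → ℂ) : ZMod p) * (m : ZMod p) =
            (charDegree (η : preFixed φ Q hQ → ℂ) : ZMod p)) ∧
      ∀ ψ : IrrCharacter T, IsInv φ (ψ : T → ℂ) →
        classInner (fun n : Q => (ψ : T → ℂ) n) (θ : Q → ℂ) ≠ 0 →
        ∃ η : IrrCharacter (preFixed φ Q hQ),
          classInner (fun n : Q => (η : preFixed φ Q hQ → ℂ) ⟨n, le_preFixed φ Q hQ n.2⟩)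
            (θ : Q → ℂ) ≠ 0 ∧ F η = ψ ∧
          ∀ η' : IrrCharacter (preFixed φ Q hQ),
            classInner (fun n : Q => (η' : preFixed φ Q hQ → ℂ) ⟨n, le_preFixed φ Q hQ n.2⟩)
              (θ : Q → ℂ) ≠ 0 → η' ≠ η →
            ∃ m : ℕ, classInner (fun d : preFixed φ Q hQ => (ψ : T → ℂ) d)
              (η' : preFixed φ Q hQ → ℂ) = (m : ℂ) ∧ p ∣ m := by
  classical
  have hQD : Q ≤ (preFixed φ Q hQ) := le_preFixed φ Q hQ
  obtain ⟨θe, hθeA, hθe⟩ := exists_invariant_extension φ Q hQ hA hQp hidx θ hθT hθA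
  have hQirr : IsIrrCharacter Q (fun q : Q => (θe : T → ℂ) q) := by
    rw [show (fun q : Q => (θe : T → ℂ) q) = (θ : Q → ℂ) from funext hθe]; exact θ.2
  haveI := Fintype.ofFinite (Q.subgroupOf (preFixed φ Q hQ))
  haveI := Fintype.ofFinite (T ⧸ Q)
  haveI : Fintype (fixedSub (quotAct φ Q hQ)) := Fintype.ofFinite _
  let θD : (preFixed φ Q hQ) → ℂ := fun d => (θe : T → ℂ) d
  have hiso : IsIrrCharacter (Q.subgroupOf (preFixed φ Q hQ)) (fun x : Q.subgroupOf (preFixed φ Q hQ) => θD x) := by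
    rw [show (fun x : Q.subgroupOf (preFixed φ Q hQ) => θD x) =
      (fun q : Q => (θe : T → ℂ) q) ∘ (Subgroup.subgroupOfEquivOfLe hQD) from funext fun x => rfl]
    exact IsIrrCharacter.comp_equiv hQirr _
  have hθD : IsIrrCharacter (preFixed φ Q hQ) θD := by
    have hc : IsCharacter (preFixed φ Q hQ) θD := IsCharacter.comp (irr_isCharacter θe) (preFixed φ Q hQ).subtype
    obtain ⟨ξ, hξ⟩ := IsCharacter.exists_constituent hc
      fun h => IsIrrCharacter.apply_one_ne_zero θe.2 (congrFun h 1)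
    obtain ⟨ζ, hζ, hdec⟩ := IsCharacter.exists_add_of_classInner_ne_zero hc ξ.2 hξ
    have hsum : (fun x : Q.subgroupOf (preFixed φ Q hQ) => θD x) =
        (fun x : Q.subgroupOf (preFixed φ Q hQ) => (ξ : (preFixed φ Q hQ) → ℂ) x) + fun x : Q.subgroupOf (preFixed φ Q hQ) => ζ x :=
      funext fun x => congrFun hdec x
    obtain ⟨a, ha⟩ := IsCharacter.exists_constituent
      (IsCharacter.restrict (irr_isCharacter ξ) (Q.subgroupOf (preFixed φ Q hQ)))
      fun h => IsIrrCharacter.apply_one_ne_zero ξ.2 (congrFun h 1)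
    have ha' : classInner (fun x : Q.subgroupOf (preFixed φ Q hQ) => θD x) (a : Q.subgroupOf (preFixed φ Q hQ) → ℂ) ≠ 0 := by
      rw [hsum]
      exact IsCharacter.classInner_ne_zero_of_add (IsCharacter.restrict (irr_isCharacter ξ) _)
        (IsCharacter.restrict hζ _) (irr_isCharacter a) ha
    have haθ : (fun x : Q.subgroupOf (preFixed φ Q hQ) => θD x) = (a : Q.subgroupOf (preFixed φ Q hQ) → ℂ) := by
      by_contra hne
      exact ha' (IsIrrCharacter.classInner_ne hiso a.2 hne)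
    obtain ⟨k, hk⟩ := IsCharacter.exists_apply_one hζ
    obtain ⟨dξ, hdξ, hdξ'⟩ := IsIrrCharacter.exists_apply_one ξ.2
    obtain ⟨ζ', hζ', hdec'⟩ := IsCharacter.exists_add_of_classInner_ne_zero
      (IsCharacter.restrict (irr_isCharacter ξ) (Q.subgroupOf (preFixed φ Q hQ))) a.2 ha
    obtain ⟨k', hk'⟩ := IsCharacter.exists_apply_one hζ'
    obtain ⟨da, hda, hda'⟩ := IsIrrCharacter.exists_apply_one a.2
    have e1 := congrFun hdec 1
    have e2 := congrFun hdec' 1
    have e3 := congrFun haθ 1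
    simp only [Pi.add_apply, OneMemClass.coe_one, hk, hdξ', hk', hda'] at e1 e2 e3
    rw [e3] at e1
    have e1' : da = dξ + k := by exact_mod_cast e1
    have e2' : dξ = da + k' := by exact_mod_cast e2
    have hk0 : k = 0 := by omega
    have : ζ = 0 := by
      obtain ⟨n, ρ, rfl⟩ := hζ
      rw [ρ.char_one, hk0, Nat.cast_zero, Nat.cast_eq_zero] at hk
      haveI : Subsingleton (Fin n → ℂ) := Module.finrank_zero_iff.mp hk
      funext g
      simp [Representation.character, Subsingleton.elim (ρ g) 0]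
    rw [hdec, this, add_zero]
    exact ξ.2
  -- the two families of products
  have hconstD : ∀ β : IrrCharacter (fixedSub (quotAct φ Q hQ)),
      ∀ (n : Q.subgroupOf (preFixed φ Q hQ)) (d : (preFixed φ Q hQ)),
        ((β : fixedSub (quotAct φ Q hQ) → ℂ) ∘ preFixedProj φ Q hQ) ((n : (preFixed φ Q hQ)) * d) =
          ((β : fixedSub (quotAct φ Q hQ) → ℂ) ∘ preFixedProj φ Q hQ) d := fun β n d => by
    have h1 : preFixedProj φ Q hQ (n : (preFixed φ Q hQ)) = 1 := Subtype.ext ((QuotientGroup.eq_one_iff _).2 n.2)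
    simp only [Function.comp_apply, map_mul, h1, one_mul]
  have hconstT : ∀ α : IrrCharacter (T ⧸ Q), ∀ (n : Q) (t : T),
      ((α : T ⧸ Q → ℂ) ∘ QuotientGroup.mk' Q) ((n : T) * t) =
        ((α : T ⧸ Q → ℂ) ∘ QuotientGroup.mk' Q) t := fun α n t => by
    simp [(QuotientGroup.eq_one_iff (n : T)).2 n.2]
  let mkT : IrrCharacter (T ⧸ Q) → IrrCharacter T := fun α =>
    ⟨((α : T ⧸ Q → ℂ) ∘ QuotientGroup.mk' Q) * (θe : T → ℂ), isIrr_mul_of_const Q
      (IsIrrCharacter.comp_surjective α.2 _ (QuotientGroup.mk'_surjective Q)) θe.2 hQirr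
      (hconstT α)⟩
  let mkD : IrrCharacter (fixedSub (quotAct φ Q hQ)) → IrrCharacter (preFixed φ Q hQ) := fun β =>
    ⟨((β : fixedSub (quotAct φ Q hQ) → ℂ) ∘ preFixedProj φ Q hQ) * θD,
      isIrr_mul_of_const (Q.subgroupOf (preFixed φ Q hQ))
      (IsIrrCharacter.comp_surjective β.2 _ (preFixedProj_surjective φ Q hQ)) hθD hiso
      (hconstD β)⟩
  have hmult : ∀ (α : IrrCharacter (T ⧸ Q)) (β : IrrCharacter (fixedSub (quotAct φ Q hQ))),
      classInner (fun d : (preFixed φ Q hQ) => (mkT α : T → ℂ) d) (mkD β : (preFixed φ Q hQ) → ℂ) =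
        (mult (quotAct φ Q hQ) α β : ℂ) := fun α β => by
    rw [← classInner_eq_mult]
    refine Eq.trans (classInner_mul_extension (Q.subgroupOf (preFixed φ Q hQ)) hθD hiso
      (a := fun d : (preFixed φ Q hQ) => ((α : T ⧸ Q → ℂ) ∘ QuotientGroup.mk' Q) (d : T))
      (b := (β : fixedSub (quotAct φ Q hQ) → ℂ) ∘ preFixedProj φ Q hQ)
      (fun n d => hconstT α ⟨((n : (preFixed φ Q hQ)) : T), n.2⟩ d) (hconstD β)) ?_
    exact classInner_comp_surjective (preFixedProj φ Q hQ) (preFixedProj_surjective φ Q hQ)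
      (fun c : fixedSub (quotAct φ Q hQ) => (α : T ⧸ Q → ℂ) c)
      (β : fixedSub (quotAct φ Q hQ) → ℂ)
  have hoverT : ∀ α : IrrCharacter (T ⧸ Q),
      classInner (fun n : Q => (mkT α : T → ℂ) n) (θ : Q → ℂ) ≠ 0 := fun α => by
    rw [show (fun n : Q => (mkT α : T → ℂ) n) = (α : T ⧸ Q → ℂ) 1 • (θ : Q → ℂ) from
      funext fun n => by
        show ((α : T ⧸ Q → ℂ) ∘ QuotientGroup.mk' Q) (n : T) * (θe : T → ℂ) n = _
        rw [hθe]
        simp [(QuotientGroup.eq_one_iff (n : T)).2 n.2],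
      classInner_smul_left, IsIrrCharacter.classInner_self θ.2, mul_one]
    exact IsIrrCharacter.apply_one_ne_zero α.2
  have hidx' : ¬ p ∣ Nat.card (T ⧸ Q) := by rwa [← Subgroup.index_eq_card]
  obtain ⟨π, hπ, hπ'⟩ := exists_glauberman (quotAct φ Q hQ) hA hidx'
  have hsur : ∀ η : IrrCharacter (preFixed φ Q hQ),
      classInner (fun n : Q => (η : (preFixed φ Q hQ) → ℂ) ⟨n, hQD n.2⟩) (θ : Q → ℂ) ≠ 0 →
      ∃ β, mkD β = η := fun η hη => by
    obtain ⟨β₀, hβ₀⟩ := exists_eq_mul_of_over (Q.subgroupOf (preFixed φ Q hQ)) ⟨θD, hθD⟩ hiso η (by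
      rw [show (fun x : Q.subgroupOf (preFixed φ Q hQ) => θD x) =
        (fun x : Q.subgroupOf (preFixed φ Q hQ) => (θ : Q → ℂ) (Subgroup.subgroupOfEquivOfLe hQD x)) from
        funext fun x => hθe (Subgroup.subgroupOfEquivOfLe hQD x),
        classInner_subgroupOf Q (preFixed φ Q hQ) hQD (η : (preFixed φ Q hQ) → ℂ) (θ : Q → ℂ)]
      exact hη)
    have hker : Q.subgroupOf (preFixed φ Q hQ) = (preFixedProj φ Q hQ).ker := by
      ext x
      show ((x : T) ∈ Q) ↔ preFixedProj φ Q hQ x = 1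
      rw [← QuotientGroup.eq_one_iff, Subtype.ext_iff]
      rfl
    let e : (preFixed φ Q hQ) ⧸ Q.subgroupOf (preFixed φ Q hQ) ≃* fixedSub (quotAct φ Q hQ) :=
      (QuotientGroup.quotientMulEquivOfEq hker).trans
        (QuotientGroup.quotientKerEquivOfSurjective _ (preFixedProj_surjective φ Q hQ))
    refine ⟨transIrr e β₀, Subtype.ext (funext fun d => ?_)⟩
    show (transIrr e β₀ : fixedSub (quotAct φ Q hQ) → ℂ) (preFixedProj φ Q hQ d) * θD d = _
    rw [show preFixedProj φ Q hQ d = e (d : (preFixed φ Q hQ) ⧸ Q.subgroupOf (preFixed φ Q hQ)) from rfl, transIrr_apply]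
    exact (congrFun hβ₀ d).symm
  have hinj : Function.Injective mkD := fun β β' h => Subtype.ext (funext fun c => by
    have h0 := congrArg (fun χ : IrrCharacter (preFixed φ Q hQ) => (χ : (preFixed φ Q hQ) → ℂ)) h
    have h1 : ∀ γ : IrrCharacter (fixedSub (quotAct φ Q hQ)),
        Characters.avgN (Q.subgroupOf (preFixed φ Q hQ)) ((mkD γ : (preFixed φ Q hQ) → ℂ) * fun d => conj (θD d)) =
          (γ : fixedSub (quotAct φ Q hQ) → ℂ) ∘ preFixedProj φ Q hQ := fun γ => by
      funext d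
      have h := congrFun (avgN_mul_conj_self (Q.subgroupOf (preFixed φ Q hQ)) hθD hiso) d
      simp only [Characters.avgN, Pi.mul_apply] at h ⊢
      rw [Finset.sum_congr rfl fun (n : Q.subgroupOf (preFixed φ Q hQ)) _ =>
        show (mkD γ : (preFixed φ Q hQ) → ℂ) ((n : (preFixed φ Q hQ)) * d) * conj (θD ((n : (preFixed φ Q hQ)) * d)) =
          ((γ : fixedSub (quotAct φ Q hQ) → ℂ) ∘ preFixedProj φ Q hQ) d *
            (θD ((n : (preFixed φ Q hQ)) * d) * conj (θD ((n : (preFixed φ Q hQ)) * d))) by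
          rw [← hconstD γ n d]
          exact mul_assoc _ _ _, ← Finset.mul_sum, mul_left_comm, h, mul_one]
    obtain ⟨d, rfl⟩ := preFixedProj_surjective φ Q hQ c
    have h2 := congrFun (h1 β) d
    rw [h0, h1 β'] at h2
    exact h2.symm)
  have hmkT : ∀ α : IrrCharacter (T ⧸ Q), IsInv (quotAct φ Q hQ) (α : T ⧸ Q → ℂ) →
      IsInv φ (mkT α : T → ℂ) := fun α hα a t => by
    show ((α : T ⧸ Q → ℂ) ∘ QuotientGroup.mk' Q) (φ a t) * (θe : T → ℂ) (φ a t) = _
    rw [hθeA a t]
    congr 1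
    exact hα a (t : T ⧸ Q)
  let F : IrrCharacter (preFixed φ Q hQ) → IrrCharacter T := fun η =>
    if h : ∃ β, mkD β = η then mkT (π.symm h.choose).1 else θe
  have hF : ∀ β, F (mkD β) = mkT (π.symm β).1 := fun β => by
    have hh : ∃ γ, mkD γ = mkD β := ⟨β, rfl⟩
    simp only [F, dif_pos hh, hinj hh.choose_spec]
  refine ⟨F, fun η hη => ?_, fun ψ hψ hover => ?_⟩
  · obtain ⟨β, rfl⟩ := hsur η hη
    rw [hF]
    refine ⟨fun a d => ?_, hmkT _ (π.symm β).2, hoverT _,
      mult (quotAct φ Q hQ) (π.symm β).1 β, hmult _ _, ?_⟩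
    · show ((β : fixedSub (quotAct φ Q hQ) → ℂ) ∘ preFixedProj φ Q hQ) _ *
          (θe : T → ℂ) (φ a (d : T)) = _
      rw [hθeA a (d : T)]
      congr 1
      exact congrArg (β : fixedSub (quotAct φ Q hQ) → ℂ) (Subtype.ext (d.2 a))
    · have h := hπ' (π.symm β)
      rw [Equiv.apply_symm_apply] at h
      refine ⟨h.1, ?_⟩
      have e1 : charDegree (mkT (π.symm β).1 : T → ℂ) =
          charDegree ((π.symm β).1 : T ⧸ Q → ℂ) * charDegree (θ : Q → ℂ) := by
        have h2 : (mkT (π.symm β).1 : T → ℂ) 1 =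
            ((π.symm β).1 : T ⧸ Q → ℂ) 1 * (θ : Q → ℂ) 1 := by
          rw [← hθe 1]; rfl
        rw [← charDegree_eq, ← charDegree_eq, ← charDegree_eq] at h2
        exact_mod_cast h2
      have e2 : charDegree (mkD β : (preFixed φ Q hQ) → ℂ) =
          charDegree (β : fixedSub (quotAct φ Q hQ) → ℂ) * charDegree (θ : Q → ℂ) := by
        have h2 : (mkD β : (preFixed φ Q hQ) → ℂ) 1 =
            (β : fixedSub (quotAct φ Q hQ) → ℂ) 1 * (θ : Q → ℂ) 1 := by
          rw [← hθe 1]; rfl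
        rw [← charDegree_eq, ← charDegree_eq, ← charDegree_eq] at h2
        exact_mod_cast h2
      rw [e1, e2]
      push_cast
      rw [← h.2]
      ring
  · obtain ⟨α, hα⟩ := exists_eq_mul_of_over Q θe hQirr ψ (by
      rwa [show (fun q : Q => (θe : T → ℂ) q) = (θ : Q → ℂ) from funext hθe])
    have hψα : ψ = mkT α := Subtype.ext hα
    have hαinv : IsInv (quotAct φ Q hQ) (α : T ⧸ Q → ℂ) := by
      intro a x
      obtain ⟨t, rfl⟩ := QuotientGroup.mk_surjective x
      have h1 : ∀ s : T, (α : T ⧸ Q → ℂ) (s : T ⧸ Q) =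
          Characters.avgN Q ((ψ : T → ℂ) * fun g => conj ((θe : T → ℂ) g)) s := fun s => by
        have h := congrFun (avgN_mul_conj_self Q θe.2 hQirr) s
        simp only [Characters.avgN, Pi.mul_apply] at h ⊢
        rw [Finset.sum_congr rfl fun (n : Q) _ =>
          show (ψ : T → ℂ) ((n : T) * s) * conj ((θe : T → ℂ) ((n : T) * s)) =
            (α : T ⧸ Q → ℂ) (s : T ⧸ Q) *
              ((θe : T → ℂ) ((n : T) * s) * conj ((θe : T → ℂ) ((n : T) * s))) by
            rw [← mul_assoc, congrFun hα]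
            congr 2
            exact hconstT α n s, ← Finset.mul_sum, mul_left_comm, h, mul_one]
      rw [quotAct_mk, h1, h1]
      simp only [Characters.avgN, Pi.mul_apply]
      congr 1
      refine (Fintype.sum_equiv (restrictAct φ Q hQ a).toEquiv _ _ fun n => ?_).symm
      show _ = (ψ : T → ℂ) (φ a (n : T) * φ a t) * conj ((θe : T → ℂ) (φ a (n : T) * φ a t))
      rw [← map_mul, hψ, hθeA]
    refine ⟨mkD (π ⟨α, hαinv⟩), ?_, ?_, fun η' hη' hne => ?_⟩
    · rw [show (fun n : Q => (mkD (π ⟨α, hαinv⟩) : (preFixed φ Q hQ) → ℂ) ⟨n, hQD n.2⟩) =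
          (π ⟨α, hαinv⟩ : fixedSub (quotAct φ Q hQ) → ℂ) 1 • (θ : Q → ℂ) from funext fun n => by
        show ((π ⟨α, hαinv⟩ : fixedSub (quotAct φ Q hQ) → ℂ) ∘ preFixedProj φ Q hQ) ⟨n, hQD n.2⟩ *
          (θe : T → ℂ) n = _
        rw [hθe, Function.comp_apply, show preFixedProj φ Q hQ ⟨(n : T), hQD n.2⟩ = 1 from
          Subtype.ext ((QuotientGroup.eq_one_iff _).2 n.2)]
        rfl,
        classInner_smul_left, IsIrrCharacter.classInner_self θ.2, mul_one]
      exact IsIrrCharacter.apply_one_ne_zero (π ⟨α, hαinv⟩).2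
    · rw [hF, Equiv.symm_apply_apply, hψα]
    · obtain ⟨β, rfl⟩ := hsur η' hη'
      refine ⟨mult (quotAct φ Q hQ) α β, by rw [hψα]; exact hmult α β, ?_⟩
      by_contra hd
      exact hne (congrArg mkD ((hπ ⟨α, hαinv⟩ β).1 hd).symm)

end Cfsg.Agent.Lib.Glauberman
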