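import Cfsg.Agent.Lib.Glauberman.Relative

/-!
# The correspondence for a normal Sylow subgroup and a `p`-group of operators
-/

set_option autoImplicit false
set_option linter.unusedSectionVars false
set_option linter.style.haveILetI false

namespace Cfsg.Agent.Lib.Glauberman

open Cfsg Cfsg.Agent.Lib.Blocks Cfsg.Agent.Lib.Characters
open Cfsg.Agent.Lib.BrauerPairs (transIrr transIrr_apply)
open scoped ComplexConjugate

universe u v

variable {A : Type v} [Group A] [Finite A] {K : Type u} [Group K] [Fintype K] (φ : A →* MulAut K)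
  (Q : Subgroup K) [hQn : Q.Normal] [Fintype Q] (hQ : ∀ a, ∀ q ∈ Q, φ a q ∈ Q) {p : ℕ}
  [hp : Fact p.Prime] (hA : IsPGroup p A) (hQp : IsPGroup p Q) (hidx : ¬ p ∣ Q.index)
  [Fintype (preFixed φ Q hQ)]

include hA hidx in
theorem exists_fixed_constituent_fixed (ξ : IrrCharacter (preFixed φ Q hQ))
    (hξ : IsInv (restrictAct φ (preFixed φ Q hQ) (map_preFixed_mem φ Q hQ))
      (ξ : preFixed φ Q hQ → ℂ)) :
    ∃ θ : IrrCharacter Q, IsInv (restrictAct φ Q hQ) (θ : Q → ℂ) ∧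
      classInner (fun n : Q => (ξ : preFixed φ Q hQ → ℂ) ⟨n, le_preFixed φ Q hQ n.2⟩)
        (θ : Q → ℂ) ≠ 0 := by
  classical
  haveI := Fintype.ofFinite (Q.subgroupOf (preFixed φ Q hQ))
  have hQC := le_preFixed φ Q hQ
  obtain ⟨θC, hinv, hover⟩ := exists_fixed_constituent
    (restrictAct φ (preFixed φ Q hQ) (map_preFixed_mem φ Q hQ)) (Q.subgroupOf (preFixed φ Q hQ))
    (fun a q hq => hQ a q hq) hA
    (fun hd => hidx (hd.trans (Subgroup.relIndex_dvd_index_of_normal Q (preFixed φ Q hQ)))) ξ hξ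
  let i := Subgroup.subgroupOfEquivOfLe hQC
  refine ⟨transIrr i θC, fun a n => ?_, ?_⟩
  · obtain ⟨x, rfl⟩ := i.surjective n
    rw [transIrr_apply, show restrictAct φ Q hQ a (i x) = i (restrictAct
      (restrictAct φ (preFixed φ Q hQ) (map_preFixed_mem φ Q hQ))
      (Q.subgroupOf (preFixed φ Q hQ)) (fun a q hq => hQ a q hq) a x) from rfl, transIrr_apply]
    exact hinv a x
  · rw [← classInner_subgroupOf Q (preFixed φ Q hQ) hQC (ξ : preFixed φ Q hQ → ℂ)]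
    show classInner _ (fun x => (transIrr i θC : Q → ℂ) (i x)) ≠ 0
    simp only [transIrr_apply]
    exact hover

include hA hQp hidx in
/-- The relative correspondence. -/
theorem exists_relative_glauberman :
    ∃ f : InvIrr φ → InvIrr (restrictAct φ (preFixed φ Q hQ) (map_preFixed_mem φ Q hQ)),
      Function.Bijective f ∧ ∀ χ : InvIrr φ,
        (∀ ξ : InvIrr (restrictAct φ (preFixed φ Q hQ) (map_preFixed_mem φ Q hQ)), ∃ m : ℕ,
          classInner (fun d : preFixed φ Q hQ => (χ.1 : K → ℂ) d)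
            (ξ.1 : preFixed φ Q hQ → ℂ) = (m : ℂ) ∧
          (ξ = f χ → (m : ZMod p) = 1 ∨ (m : ZMod p) = -1) ∧ (ξ ≠ f χ → p ∣ m)) ∧
        ((charDegree ((f χ).1 : preFixed φ Q hQ → ℂ) : ZMod p) =
            (charDegree (χ.1 : K → ℂ) : ZMod p) ∨
          (charDegree ((f χ).1 : preFixed φ Q hQ → ℂ) : ZMod p) =
            -(charDegree (χ.1 : K → ℂ) : ZMod p)) := by
  classical
  have hQC := le_preFixed φ Q hQ
  have hnd : ∀ {m : ℕ}, ((m : ZMod p) = 1 ∨ (m : ZMod p) = -1) → ¬ p ∣ m := fun {m} h hd => by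
    rw [(ZMod.natCast_eq_zero_iff m p).2 hd] at h
    rcases h with h | h
    · exact zero_ne_one h
    · exact one_ne_zero (neg_eq_zero.1 h.symm)
  -- invariant characters with nonzero multiplicity modulo `p` lie over the same fixed character
  have hsame : ∀ (χ : IrrCharacter K) (θ : IrrCharacter Q),
      IsInv (restrictAct φ Q hQ) (θ : Q → ℂ) →
      classInner (fun n : Q => (χ : K → ℂ) n) (θ : Q → ℂ) ≠ 0 →
      ∀ ξ : IrrCharacter (preFixed φ Q hQ),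
        IsInv (restrictAct φ (preFixed φ Q hQ) (map_preFixed_mem φ Q hQ))
          (ξ : preFixed φ Q hQ → ℂ) →
        classInner (fun d : preFixed φ Q hQ => (χ : K → ℂ) d) (ξ : preFixed φ Q hQ → ℂ) ≠ 0 →
        classInner (fun n : Q => (ξ : preFixed φ Q hQ → ℂ) ⟨n, hQC n.2⟩) (θ : Q → ℂ) ≠ 0 := by
    intro χ θ hθ hχθ ξ hξ hmult
    obtain ⟨θ', hθ', hξθ'⟩ := exists_fixed_constituent_fixed φ Q hQ hA hidx ξ hξ
    haveI := Fintype.ofFinite (Q.subgroupOf (preFixed φ Q hQ))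
    have h1 := classInner_ne_zero_trans (Q.subgroupOf (preFixed φ Q hQ))
      (IsCharacter.restrict (irr_isCharacter χ) (preFixed φ Q hQ)) ξ
      (θ := fun x : Q.subgroupOf (preFixed φ Q hQ) =>
        (θ' : Q → ℂ) (Subgroup.subgroupOfEquivOfLe hQC x))
      (IsCharacter.comp (irr_isCharacter θ') (Subgroup.subgroupOfEquivOfLe hQC).toMonoidHom)
      hmult (by rw [classInner_subgroupOf Q (preFixed φ Q hQ) hQC]; exact hξθ')
    rw [classInner_subgroupOf Q (preFixed φ Q hQ) hQC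
      (fun d : preFixed φ Q hQ => (χ : K → ℂ) d)] at h1
    obtain ⟨g, hg⟩ := exists_conjFun_eq Q χ.2 θ.2 θ'.2 hχθ h1
    obtain ⟨c, hc, hcθ⟩ := exists_preFixed_conj φ Q hQ hA hidx θ θ' hθ hθ' hg
    intro h0
    refine hξθ' ?_
    rw [← h0]
    have h2 := classInner_conjFun Q c
      (fun n : Q => (ξ : preFixed φ Q hQ → ℂ) ⟨n, hQC n.2⟩) (θ : Q → ℂ)
    rw [hcθ] at h2
    refine Eq.trans ?_ h2
    congr 1
    funext n
    exact ((irr_isClassFunction ξ ⟨n, hQC n.2⟩ ⟨c, hc⟩).symm.trans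
      (congrArg (ξ : preFixed φ Q hQ → ℂ) (Subtype.ext rfl)))
  have hmain : ∀ χ : InvIrr φ,
      ∃ ξ : InvIrr (restrictAct φ (preFixed φ Q hQ) (map_preFixed_mem φ Q hQ)),
        (∃ m : ℕ, classInner (fun d : preFixed φ Q hQ => (χ.1 : K → ℂ) d)
            (ξ.1 : preFixed φ Q hQ → ℂ) = (m : ℂ) ∧ ((m : ZMod p) = 1 ∨ (m : ZMod p) = -1) ∧
          (charDegree (χ.1 : K → ℂ) : ZMod p) * (m : ZMod p) =
            (charDegree (ξ.1 : preFixed φ Q hQ → ℂ) : ZMod p)) ∧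
        ∀ ξ' : InvIrr (restrictAct φ (preFixed φ Q hQ) (map_preFixed_mem φ Q hQ)), ξ' ≠ ξ →
          ∃ m : ℕ, classInner (fun d : preFixed φ Q hQ => (χ.1 : K → ℂ) d)
            (ξ'.1 : preFixed φ Q hQ → ℂ) = (m : ℂ) ∧ p ∣ m := by
    intro χ
    obtain ⟨θ, hθ, hχθ⟩ := exists_fixed_constituent φ Q hQ hA hidx χ.1 χ.2
    obtain ⟨F, hF, hB⟩ := local_correspondence φ Q hQ hA hQp hidx θ hθ
    obtain ⟨ξ, hξ, hFξ, hall⟩ := hB χ.1 χ.2 hχθ
    obtain ⟨hξA, -, -, m, hm, hm1, hdeg⟩ := hF ξ hξ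
    rw [hFξ] at hm hdeg
    refine ⟨⟨ξ, hξA⟩, ⟨m, hm, hm1, hdeg⟩, fun ξ' hne => ?_⟩
    obtain ⟨m', hm'⟩ := IsCharacter.exists_classInner_nat
      (IsCharacter.restrict (irr_isCharacter χ.1) (preFixed φ Q hQ)) (irr_isCharacter ξ'.1)
    by_cases h0 : m' = 0
    · exact ⟨m', hm', h0 ▸ dvd_zero p⟩
    exact hall ξ'.1 (hsame χ.1 θ hθ hχθ ξ'.1 ξ'.2 (by rw [hm', Nat.cast_ne_zero]; exact h0))
      fun e => hne (Subtype.ext e)
  choose f hf hother using hmain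
  have hnat : ∀ {z : ℂ} {a b : ℕ}, z = (a : ℂ) → z = (b : ℂ) → a = b := fun h h' => by
    exact_mod_cast h.symm.trans h'
  have huniq : ∀ (χ : InvIrr φ)
      (ξ : InvIrr (restrictAct φ (preFixed φ Q hQ) (map_preFixed_mem φ Q hQ))) (m : ℕ),
      classInner (fun d : preFixed φ Q hQ => (χ.1 : K → ℂ) d)
        (ξ.1 : preFixed φ Q hQ → ℂ) = (m : ℂ) → ¬ p ∣ m → f χ = ξ := by
    intro χ ξ m hm hd
    by_contra hne
    obtain ⟨m', hm', hd'⟩ := hother χ ξ (fun e => hne e.symm)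
    exact hd (hnat hm hm' ▸ hd')
  refine ⟨f, ⟨fun χ χ' h => ?_, fun ξ => ?_⟩, fun χ => ⟨fun ξ => ?_, ?_⟩⟩
  · obtain ⟨θ, hθ, hξθ⟩ := exists_fixed_constituent_fixed φ Q hQ hA hidx (f χ).1 (f χ).2
    obtain ⟨F, hF, hB⟩ := local_correspondence φ Q hQ hA hQp hidx θ hθ
    have key : ∀ ψ : InvIrr φ, f ψ = f χ → ψ.1 = F (f χ).1 := by
      intro ψ hψ
      obtain ⟨m, hm, hm1, -⟩ := hf ψ
      rw [hψ] at hm
      haveI := Fintype.ofFinite (Q.subgroupOf (preFixed φ Q hQ))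
      have h1 := classInner_ne_zero_trans (Q.subgroupOf (preFixed φ Q hQ))
        (IsCharacter.restrict (irr_isCharacter ψ.1) (preFixed φ Q hQ)) (f χ).1
        (θ := fun x : Q.subgroupOf (preFixed φ Q hQ) =>
          (θ : Q → ℂ) (Subgroup.subgroupOfEquivOfLe hQC x))
        (IsCharacter.comp (irr_isCharacter θ) (Subgroup.subgroupOfEquivOfLe hQC).toMonoidHom)
        (by rw [hm, Nat.cast_ne_zero]; exact fun h0 => hnd hm1 (h0 ▸ dvd_zero p))
        (by rw [classInner_subgroupOf Q (preFixed φ Q hQ) hQC]; exact hξθ)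
      rw [classInner_subgroupOf Q (preFixed φ Q hQ) hQC
        (fun d : preFixed φ Q hQ => (ψ.1 : K → ℂ) d)] at h1
      obtain ⟨ξ, -, hFξ, hall⟩ := hB ψ.1 ψ.2 h1
      by_cases he : (f χ).1 = ξ
      · rw [he, hFξ]
      · obtain ⟨m', hm', hd'⟩ := hall _ hξθ he
        exact absurd (hnat hm hm' ▸ hd') (hnd hm1)
    exact Subtype.ext ((key χ rfl).trans (key χ' h.symm).symm)
  · obtain ⟨θ, hθ, hξθ⟩ := exists_fixed_constituent_fixed φ Q hQ hA hidx ξ.1 ξ.2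
    obtain ⟨F, hF, -⟩ := local_correspondence φ Q hQ hA hQp hidx θ hθ
    obtain ⟨-, hinv, -, m, hm, hm1, -⟩ := hF ξ.1 hξθ
    exact ⟨⟨F ξ.1, hinv⟩, huniq _ ξ m hm (hnd hm1)⟩
  · by_cases he : ξ = f χ
    · obtain ⟨m, hm, hm1, -⟩ := hf χ
      exact ⟨m, he ▸ hm, fun _ => hm1, fun h => absurd he h⟩
    · obtain ⟨m, hm, hd⟩ := hother χ ξ he
      exact ⟨m, hm, fun h => absurd h he, fun _ => hd⟩
  · obtain ⟨m, -, hm1, hdeg⟩ := hf χ
    rcases hm1 with h | h <;> rw [h] at hdeg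
    · exact Or.inl (by rw [← hdeg, mul_one])
    · exact Or.inr (by rw [← hdeg, mul_neg, mul_one])

end Cfsg.Agent.Lib.Glauberman
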