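import Cfsg.Agent.Lib.Glauberman.PGroup

/-!
# The correspondence commutes with automorphisms and complex conjugation
-/

set_option autoImplicit false
set_option linter.unusedSectionVars false
set_option linter.style.haveILetI false

namespace Cfsg.Agent.Lib.Glauberman

open Cfsg Cfsg.Agent.Lib.Blocks Cfsg.Agent.Lib.Characters
open Cfsg.Agent.Lib.BrauerPairs (transIrr transIrr_apply transIrr_symm)
open scoped ComplexConjugate

universe u v

variable {A : Type v} [Group A] {G : Type u} [Group G] [Fintype G] (φ : A →* MulAut G)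
  [Fintype (fixedSub φ)]

/-- The complex conjugate character. -/
noncomputable def starIrr {H : Type u} [Group H] [Finite H] (χ : IrrCharacter H) : IrrCharacter H :=
  ⟨fun g => conj ((χ : H → ℂ) g), IsIrrCharacter.conjugate χ.2⟩

theorem starIrr_apply {H : Type u} [Group H] [Finite H] (χ : IrrCharacter H) (h : H) :
    (starIrr χ : H → ℂ) h = conj ((χ : H → ℂ) h) := rfl

theorem starIrr_eq_self_iff {H : Type u} [Group H] [Finite H] (χ : IrrCharacter H) :
    starIrr χ = χ ↔ ∀ h, ((χ : H → ℂ) h).im = 0 := by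
  rw [Subtype.ext_iff, funext_iff]
  exact forall_congr' fun h => Complex.conj_eq_iff_im

theorem mult_starIrr (χ : IrrCharacter G) (β : IrrCharacter (fixedSub φ)) :
    mult φ (starIrr χ) (starIrr β) = mult φ χ β := by
  refine mult_eq_of_classInner φ _ _ ?_
  have h := congrArg conj (classInner_eq_mult φ χ β)
  rw [map_natCast] at h
  rw [← h, classInner, classInner, map_mul, map_inv₀, map_natCast, map_sum]
  simp only [map_mul, starIrr_apply]

theorem mult_transIrr (σ : G ≃* G) (σ₀ : fixedSub φ ≃* fixedSub φ)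
    (h₀ : ∀ c, ((σ₀ c : fixedSub φ) : G) = σ c) (χ : IrrCharacter G)
    (β : IrrCharacter (fixedSub φ)) :
    mult φ (transIrr σ χ) (transIrr σ₀ β) = mult φ χ β := by
  refine mult_eq_of_classInner φ _ _ ?_
  rw [← classInner_eq_mult φ χ β, classInner, classInner]
  congr 1
  refine (Fintype.sum_equiv σ₀.toEquiv _ _ fun c => ?_).symm
  show (χ : G → ℂ) c * conj ((β : fixedSub φ → ℂ) c) =
    (transIrr σ χ : G → ℂ) ((σ₀ c : fixedSub φ) : G) *
      conj ((transIrr σ₀ β : fixedSub φ → ℂ) (σ₀ c))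
  rw [h₀ c, transIrr_apply, transIrr_apply]

variable {p : ℕ} (π : InvIrr φ ≃ IrrCharacter (fixedSub φ))
  (hπ : ∀ χ β, ¬ p ∣ mult φ χ.1 β ↔ π χ = β)

include hπ

theorem apply_starIrr (χ χ' : InvIrr φ) (h : χ'.1 = starIrr χ.1) : π χ' = starIrr (π χ) := by
  rw [← hπ, h, mult_starIrr]
  exact (hπ χ _).2 rfl

theorem apply_transIrr (σ : G ≃* G) (σ₀ : fixedSub φ ≃* fixedSub φ)
    (h₀ : ∀ c, ((σ₀ c : fixedSub φ) : G) = σ c) (χ χ' : InvIrr φ) (h : χ'.1 = transIrr σ χ.1) :
    π χ' = transIrr σ₀ (π χ) := by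
  rw [← hπ, h, mult_transIrr φ σ σ₀ h₀]
  exact (hπ χ _).2 rfl

theorem real_iff (χ : InvIrr φ) :
    (∀ g, ((χ.1 : G → ℂ) g).im = 0) ↔ ∀ c, ((π χ : fixedSub φ → ℂ) c).im = 0 := by
  rw [← starIrr_eq_self_iff, ← starIrr_eq_self_iff]
  have hi : IsInv φ (starIrr χ.1 : G → ℂ) := fun a g => by
    rw [starIrr_apply, starIrr_apply, χ.2 a g]
  rw [← apply_starIrr φ π hπ χ ⟨_, hi⟩ rfl, π.injective.eq_iff]
  exact ⟨fun h => Subtype.ext h, fun h => congrArg Subtype.val h⟩

end Cfsg.Agent.Lib.Glauberman
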