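import Cfsg.Agent.Lib.Glauberman.Solvable
import Cfsg.Agent.Lib.Blocks.Covering

/-!
# Invariant characters above invariant characters of a normal subgroup
-/

set_option autoImplicit false
set_option linter.unusedSectionVars false
set_option linter.style.haveILetI false

namespace Cfsg.Agent.Lib.Glauberman

open Cfsg Cfsg.Agent.Lib.Blocks Cfsg.Agent.Lib.Characters
open Cfsg.Agent.Lib.BrauerPairs (transIrr transIrr_apply transIrr_symm transIrr_injective)
open scoped ComplexConjugate

universe u v

/-- The action on an invariant subgroup. -/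
def restrictAct {A : Type v} [Group A] {G : Type u} [Group G] (φ : A →* MulAut G) (N : Subgroup G)
    (hN : ∀ a, ∀ n ∈ N, φ a n ∈ N) : A →* MulAut N where
  toFun a :=
    { toFun := fun c => ⟨φ a c, hN a c c.2⟩
      invFun := fun c => ⟨φ a⁻¹ c, hN a⁻¹ c c.2⟩
      left_inv := fun c => Subtype.ext (by
        show φ a⁻¹ (φ a c) = c
        rw [map_inv]; exact (φ a).symm_apply_apply c)
      right_inv := fun c => Subtype.ext (by
        show φ a (φ a⁻¹ c) = c
        rw [map_inv]; exact (φ a).apply_symm_apply c)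
      map_mul' := fun c d => Subtype.ext (map_mul (φ a) (c : G) d) }
  map_one' := MulEquiv.ext fun c => Subtype.ext (by
    show φ 1 (c : G) = c
    rw [map_one]; rfl)
  map_mul' a b := MulEquiv.ext fun c => Subtype.ext (by
    show φ (a * b) (c : G) = φ a (φ b c)
    rw [map_mul]; rfl)

theorem restrictAct_apply {A : Type v} [Group A] {G : Type u} [Group G] (φ : A →* MulAut G)
    (N : Subgroup G) (hN : ∀ a, ∀ n ∈ N, φ a n ∈ N) (a : A) (n : N) :
    ((restrictAct φ N hN a n : N) : G) = φ a n := rfl

theorem fixed_maps {A : Type v} [Group A] {G : Type u} [Group G] (φ : A →* MulAut G)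
    (B : Subgroup A) [hB : B.Normal] (a : A) (c : G) (hc : c ∈ fixedSub (φ.comp B.subtype)) :
    φ a c ∈ fixedSub (φ.comp B.subtype) := fun b => by
  have hb : a⁻¹ * (b : A) * a ∈ B := by simpa using hB.conj_mem (b : A) b.2 a⁻¹
  show φ (b : A) (φ a c) = φ a c
  rw [show φ (b : A) (φ a c) = φ ((b : A) * a) c by rw [map_mul]; rfl,
    show (b : A) * a = a * (a⁻¹ * (b : A) * a) by group, map_mul]
  exact congrArg (φ a) (hc ⟨_, hb⟩)

/-- A constituent decomposition of inner products on a subgroup. -/
theorem classInner_sub_eq_sum {G : Type u} [Group G] [Fintype G] [Fintype (IrrCharacter G)]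
    (H : Subgroup G) [Fintype H] {f : G → ℂ} (hf : IsClassFunction G f) (ψ : H → ℂ) :
    classInner (fun h : H => f h) ψ =
      ∑ χ : IrrCharacter G,
        classInner f (χ : G → ℂ) * classInner (fun h : H => (χ : G → ℂ) h) ψ := by
  have h1 : (fun h : H => f h) =
      ∑ χ : IrrCharacter G, classInner f (χ : G → ℂ) • fun h : H => (χ : G → ℂ) h := by
    funext h
    conv_lhs => rw [eq_sum_classInner hf]
    simp [Finset.sum_apply]
  rw [h1, classInner_sum_left]
  simp only [classInner_smul_left]

theorem dvd_sum_of_fixed {p : ℕ} (hp : p.Prime) {A : Type v} [Group A] (hA : IsPGroup p A)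
    {X : Type u} [Fintype X] [MulAction A X] (F : X → ℕ)
    (hF : ∀ (a : A) (x : X), F (a • x) = F x)
    (h : ∀ x : X, (∀ a : A, a • x = x) → p ∣ F x) : p ∣ ∑ x, F x := by
  classical
  obtain ⟨M, hM⟩ := exists_isPModular hp
  haveI := hM.2.1.isPrime
  have h1 := memLocalIdeal_sum_sub_fixed hM hA (fun x => (F x : ℂ))
    (fun x => memLocalRing_natCast _) fun a x => by simp only [hF a x]
  have h2 : MemLocalIdeal M (∑ x : X, if ∀ a : A, a • x = x then (F x : ℂ) else 0) :=
    memLocalIdeal_sum _ fun x _ => by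
      split_ifs with hx
      · exact (memLocalIdeal_natCast_iff hM _).2 (h x hx)
      · exact memLocalIdeal_zero
  have h3 := memLocalIdeal_add h1 h2
  rw [sub_add_cancel, ← Nat.cast_sum] at h3
  exact (memLocalIdeal_natCast_iff hM _).1 h3

/-- The fixed points of `N`, as a subgroup of the fixed points of `G`. -/
def subFixedEquiv {A : Type v} [Group A] {G : Type u} [Group G] (φ : A →* MulAut G)
    (N : Subgroup G) (hN : ∀ a, ∀ n ∈ N, φ a n ∈ N) :
    N.subgroupOf (fixedSub φ) ≃* fixedSub (restrictAct φ N hN) where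
  toFun x := ⟨⟨((x : fixedSub φ) : G), x.2⟩, fun a => Subtype.ext ((x : fixedSub φ).2 a)⟩
  invFun y := ⟨⟨((y : N) : G), fun a => congrArg Subtype.val (y.2 a)⟩, (y : N).2⟩
  left_inv _ := rfl
  right_inv _ := rfl
  map_mul' _ _ := rfl

theorem above_step {p : ℕ} [Fact p.Prime] {B : Type v} [Group B] (hB : IsPGroup p B) {G : Type u}
    [Group G] [Fintype G] (φ : B →* MulAut G) (hG : ¬ p ∣ Nat.card G) [Fintype (fixedSub φ)]
    (N : Subgroup G) [N.Normal] [Fintype N] (hN : ∀ a, ∀ n ∈ N, φ a n ∈ N)
    [Fintype (fixedSub (restrictAct φ N hN))] [Fintype (N.subgroupOf (fixedSub φ))]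
    (χ : InvIrr φ) (θ : InvIrr (restrictAct φ N hN)) (η : IrrCharacter (fixedSub φ))
    (β : IrrCharacter (fixedSub (restrictAct φ N hN)))
    (hη : ¬ p ∣ mult φ χ.1 η) (hβ : ¬ p ∣ mult (restrictAct φ N hN) θ.1 β)
    (hover : classInner (fun x : N.subgroupOf (fixedSub φ) => (η : fixedSub φ → ℂ) x)
      (transIrr (subFixedEquiv φ N hN).symm β : N.subgroupOf (fixedSub φ) → ℂ) ≠ 0) :
    classInner (fun n : N => (χ.1 : G → ℂ) n) (θ.1 : N → ℂ) ≠ 0 := by
  classical
  have hp : p.Prime := Fact.out
  obtain ⟨M, hM⟩ := exists_isPModular hp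
  haveI := hM.2.1.isPrime
  haveI := Fintype.ofFinite (IrrCharacter (fixedSub φ))
  haveI := Fintype.ofFinite (IrrCharacter N)
  set i := subFixedEquiv φ N hN with hi
  set β' := transIrr i.symm β with hβ'
  intro h0
  -- multiplicities
  have he : ∀ γ : IrrCharacter (fixedSub φ), ∃ e : ℕ,
      classInner (fun x : N.subgroupOf (fixedSub φ) => (γ : fixedSub φ → ℂ) x)
        (β' : N.subgroupOf (fixedSub φ) → ℂ) = (e : ℂ) := fun γ =>
    IsCharacter.exists_classInner_nat (IsCharacter.restrict (irr_isCharacter γ) _)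
      (irr_isCharacter β')
  choose e he using he
  have hk : ∀ ξ : IrrCharacter N, ∃ k : ℕ,
      classInner (fun n : N => (χ.1 : G → ℂ) n) (ξ : N → ℂ) = (k : ℂ) := fun ξ =>
    IsCharacter.exists_classInner_nat (IsCharacter.restrict (irr_isCharacter χ.1) _)
      (irr_isCharacter ξ)
  choose k hk using hk
  -- the two computations
  have hleft : classInner (fun x : N.subgroupOf (fixedSub φ) => (χ.1 : G → ℂ) (x : fixedSub φ))
      (β' : N.subgroupOf (fixedSub φ) → ℂ) = ((∑ γ, mult φ χ.1 γ * e γ : ℕ) : ℂ) := by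
    rw [classInner_sub_eq_sum (N.subgroupOf (fixedSub φ))
      (f := fun c : fixedSub φ => (χ.1 : G → ℂ) c)
      (IsCharacter.isClassFunction (IsCharacter.restrict (irr_isCharacter χ.1) _)),
      Nat.cast_sum]
    exact Finset.sum_congr rfl fun γ _ => by rw [classInner_eq_mult, he, Nat.cast_mul]
  have hright : classInner (fun x : N.subgroupOf (fixedSub φ) => (χ.1 : G → ℂ) (x : fixedSub φ))
      (β' : N.subgroupOf (fixedSub φ) → ℂ) =
      ((∑ ξ, k ξ * mult (restrictAct φ N hN) ξ β : ℕ) : ℂ) := by
    have h1 : classInner (fun x : N.subgroupOf (fixedSub φ) => (χ.1 : G → ℂ) (x : fixedSub φ))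
        (β' : N.subgroupOf (fixedSub φ) → ℂ) =
        classInner (fun y : fixedSub (restrictAct φ N hN) => (χ.1 : G → ℂ) (y : N))
          (β : fixedSub (restrictAct φ N hN) → ℂ) := by
      rw [classInner, classInner, Nat.card_congr i.toEquiv]
      congr 1
      exact Fintype.sum_equiv i.toEquiv _ _ fun x => rfl
    rw [h1, classInner_sub_eq_sum (fixedSub (restrictAct φ N hN))
      (f := fun n : N => (χ.1 : G → ℂ) n)
      (IsCharacter.isClassFunction (IsCharacter.restrict (irr_isCharacter χ.1) _)),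
      Nat.cast_sum]
    exact Finset.sum_congr rfl fun ξ _ => by rw [classInner_eq_mult, hk, Nat.cast_mul]
  have heq : ∑ γ, mult φ χ.1 γ * e γ = ∑ ξ, k ξ * mult (restrictAct φ N hN) ξ β := by
    exact_mod_cast hleft.symm.trans hright
  -- the right side is divisible by `p`
  letI : MulAction B (IrrCharacter N) :=
    { smul := fun a ξ => transIrr (restrictAct φ N hN a) ξ
      one_smul := fun ξ => Subtype.ext (funext fun n => by
        show (ξ : N → ℂ) ((restrictAct φ N hN 1).symm n) = _
        rw [map_one]; rfl)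
      mul_smul := fun a b ξ => Subtype.ext (funext fun n => by
        show (ξ : N → ℂ) ((restrictAct φ N hN (a * b)).symm n) =
          (ξ : N → ℂ) ((restrictAct φ N hN b).symm ((restrictAct φ N hN a).symm n))
        rw [map_mul]; rfl) }
  have hdvd : p ∣ ∑ ξ, k ξ * mult (restrictAct φ N hN) ξ β := by
    refine dvd_sum_of_fixed hp hB _ (fun a ξ => ?_) fun ξ hξ => ?_
    · show k (transIrr (restrictAct φ N hN a) ξ) * _ = _
      congr 1
      · have h1 : classInner (fun n : N => (χ.1 : G → ℂ) n)
            (transIrr (restrictAct φ N hN a) ξ : N → ℂ) =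
            classInner (fun n : N => (χ.1 : G → ℂ) n) (ξ : N → ℂ) := by
          rw [classInner, classInner]
          congr 1
          refine (Fintype.sum_equiv (restrictAct φ N hN a).toEquiv _ _ fun n => ?_).symm
          show (χ.1 : G → ℂ) n * conj ((ξ : N → ℂ) n) =
            (χ.1 : G → ℂ) ((restrictAct φ N hN a n : N) : G) *
              conj ((transIrr (restrictAct φ N hN a) ξ : N → ℂ) (restrictAct φ N hN a n))
          rw [transIrr_apply, restrictAct_apply, χ.2 a (n : G)]
        rw [hk, hk] at h1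
        exact_mod_cast h1
      · have h2 := mult_transIrr (restrictAct φ N hN) (restrictAct φ N hN a)
          (MulEquiv.refl _) (fun c => (c.2 a).symm) ξ β
        rwa [show transIrr (MulEquiv.refl _) β = β from Subtype.ext rfl] at h2
    · by_cases hξθ : ξ = θ.1
      · have h1 : k ξ = 0 := by
          have h2 := hk ξ
          rw [hξθ, h0] at h2
          exact_mod_cast (hξθ ▸ h2.symm)
        rw [h1, zero_mul]; exact dvd_zero p
      · refine dvd_mul_of_dvd_right ?_ _
        by_contra hd
        exact hξθ (good_injective (restrictAct φ N hN) hM hB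
          (fun hd' => hG (hd'.trans (Subgroup.card_subgroup_dvd_card _)))
          (fun a n => (transIrr_eq_self_iff (restrictAct φ N hN a) ξ).1 (hξ a) n) θ.2 hd hβ)
  -- but the left side is not
  rw [← heq, ← Finset.add_sum_erase _ _ (Finset.mem_univ η)] at hdvd
  have hrest : p ∣ ∑ γ ∈ Finset.univ.erase η, mult φ χ.1 γ * e γ :=
    Finset.dvd_sum fun γ hγ => dvd_mul_of_dvd_left (by
      by_contra hd
      exact Finset.ne_of_mem_erase hγ (good_unique φ hM hB hG χ.2 hη hd)) _
  have hkey := (Nat.dvd_add_left hrest).1 hdvd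
  have hdeg : e η ∣ charDegree (η : fixedSub φ → ℂ) := by
    have h1 := degree_eq (N.subgroupOf (fixedSub φ)) η.2 β'.2 hover
    rw [he, ← charDegree_eq η, ← charDegree_eq β'] at h1
    exact ⟨_, by rw [← mul_assoc]; exact_mod_cast h1⟩
  exact ((Nat.Prime.dvd_mul hp).1 hkey).elim hη fun h =>
    not_dvd_charDegree (not_dvd_card_fixed φ hG) η (h.trans hdeg)

theorem exists_invariant_above_aux : ∀ (n : ℕ) {A : Type v} [Group A] [Finite A]
    [Group.IsSolvable A] {G : Type u} [Group G] [Fintype G] (φ : A →* MulAut G) (N : Subgroup G)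
    [N.Normal] [Fintype N] (hN : ∀ a, ∀ m ∈ N, φ a m ∈ N) (θ : IrrCharacter N), Nat.card A ≤ n →
    (Nat.card A).Coprime (Nat.card G) → IsInv (restrictAct φ N hN) (θ : N → ℂ) →
    ∃ χ : InvIrr φ, classInner (fun m : N => (χ.1 : G → ℂ) m) (θ : N → ℂ) ≠ 0 := by
  intro n
  induction n with
  | zero =>
    intro A _ _ _ G _ _ φ N _ _ hN θ hA
    exact absurd hA (Nat.not_le.2 Nat.card_pos)
  | succ n ih =>
    intro A _ _ _ G _ _ φ N _ _ hN θ hA hcop hθ
    classical
    cases subsingleton_or_nontrivial A with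
    | inl hsub =>
      obtain ⟨χ, hχ⟩ := exists_over N θ
      refine ⟨⟨χ, fun a g => ?_⟩, hχ⟩
      rw [Subsingleton.elim a 1, map_one]; rfl
    | inr hnt =>
      obtain ⟨p, B, hp, hBn, hB0, -, hB, -⟩ :=
        Coprime.exists_normal_isPGroup_isMulCommutative A
      haveI := Fact.mk hp
      let φB : B →* MulAut G := φ.comp B.subtype
      have hpG : ¬ p ∣ Nat.card G := fun hd => by
        obtain ⟨k, hk⟩ := IsPGroup.iff_card.1 hB
        have hk0 : k ≠ 0 := fun h0 => hB0 (Subgroup.eq_bot_of_card_eq B (by rw [hk, h0, pow_zero]))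
        exact hp.one_lt.ne' (Nat.eq_one_of_dvd_one (hcop ▸ Nat.dvd_gcd
          ((dvd_pow_self p hk0).trans (hk ▸ Subgroup.card_subgroup_dvd_card B)) hd))
      have hpN : ¬ p ∣ Nat.card N := fun hd => hpG (hd.trans (Subgroup.card_subgroup_dvd_card _))
      have hNB : ∀ (b : B), ∀ m ∈ N, φB b m ∈ N := fun b => hN b
      let φN := restrictAct φB N hNB
      haveI : Fintype (fixedSub φB) := Fintype.ofFinite _
      haveI : Fintype (fixedSub φN) := Fintype.ofFinite _
      haveI : Fintype (N.subgroupOf (fixedSub φB)) := Fintype.ofFinite _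
      obtain ⟨π, hπ, -⟩ := exists_glauberman φB hB hpG
      obtain ⟨πN, hπN, -⟩ := exists_glauberman φN hB hpN
      let σ := restrictAct φ (fixedSub φB) (fixed_maps φ B)
      have hker : B ≤ σ.ker := fun b hb =>
        MonoidHom.mem_ker.2 (MulEquiv.ext fun c => Subtype.ext (c.2 ⟨b, hb⟩))
      let ψ : A ⧸ B →* MulAut (fixedSub φB) := QuotientGroup.lift B σ hker
      let θB : InvIrr φN := ⟨θ, fun b m => hθ b m⟩
      let i := subFixedEquiv φB N hNB
      let β := transIrr i.symm (πN θB)
      have hψN : ∀ q, ∀ x ∈ N.subgroupOf (fixedSub φB), ψ q x ∈ N.subgroupOf (fixedSub φB) := by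
        intro q x hx
        obtain ⟨a, rfl⟩ := QuotientGroup.mk_surjective q
        exact hN a x hx
      have hβ : IsInv (restrictAct ψ (N.subgroupOf (fixedSub φB)) hψN)
          (β : N.subgroupOf (fixedSub φB) → ℂ) := by
        intro q x
        obtain ⟨a, rfl⟩ := QuotientGroup.mk_surjective q
        have hmaps : ∀ y : N, y ∈ fixedSub φN → restrictAct φ N hN a y ∈ fixedSub φN :=
          fun y hy b => Subtype.ext
            (fixed_maps φ B a (y : G) (fun b => congrArg Subtype.val (hy b)) b)
        have hmaps' : ∀ y : N, y ∈ fixedSub φN → restrictAct φ N hN a⁻¹ y ∈ fixedSub φN :=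
          fun y hy b => Subtype.ext
            (fixed_maps φ B a⁻¹ (y : G) (fun b => congrArg Subtype.val (hy b)) b)
        let σN : fixedSub φN ≃* fixedSub φN :=
          { toFun := fun y => ⟨restrictAct φ N hN a y, hmaps y y.2⟩
            invFun := fun y => ⟨restrictAct φ N hN a⁻¹ y, hmaps' y y.2⟩
            left_inv := fun y => Subtype.ext (by
              show restrictAct φ N hN a⁻¹ (restrictAct φ N hN a y) = y
              rw [map_inv]; exact (restrictAct φ N hN a).symm_apply_apply _)
            right_inv := fun y => Subtype.ext (by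
              show restrictAct φ N hN a (restrictAct φ N hN a⁻¹ y) = y
              rw [map_inv]; exact (restrictAct φ N hN a).apply_symm_apply _)
            map_mul' := fun y z => Subtype.ext (map_mul (restrictAct φ N hN a) (y : N) z) }
        have h1 := apply_transIrr φN πN hπN (restrictAct φ N hN a) σN (fun _ => rfl) θB θB
          ((transIrr_eq_self_iff _ θ).2 (hθ a)).symm
        exact (transIrr_eq_self_iff σN (πN θB)).1 h1.symm (i x)
      have hcardA : Nat.card A = Nat.card (A ⧸ B) * Nat.card B :=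
        Subgroup.card_eq_card_quotient_mul_card_subgroup B
      have hq : Nat.card (A ⧸ B) ≤ n := by
        haveI := (Subgroup.nontrivial_iff_ne_bot B).2 hB0
        have h1 : 0 < Nat.card (A ⧸ B) := Nat.card_pos
        have h2 : 1 < Nat.card B := Finite.one_lt_card
        nlinarith
      obtain ⟨η, hη⟩ := ih ψ (N.subgroupOf (fixedSub φB)) hψN β hq
        ((hcop.coprime_dvd_left (hcardA ▸ Dvd.intro _ rfl)).coprime_dvd_right
          (Subgroup.card_subgroup_dvd_card _)) hβ
      obtain ⟨χ, hχ⟩ := π.surjective η.1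
      have hχinv : IsInv φ (χ.1 : G → ℂ) := by
        intro a
        refine (transIrr_eq_self_iff (φ a) χ.1).1 ?_
        have hinv : IsInv φB (transIrr (φ a) χ.1 : G → ℂ) := fun b g => by
          obtain ⟨x, rfl⟩ := (φ a).surjective g
          have hb : a⁻¹ * (b : A) * a ∈ B := by simpa using hBn.conj_mem (b : A) b.2 a⁻¹
          show (transIrr (φ a) χ.1 : G → ℂ) (φ (b : A) (φ a x)) = _
          rw [show φ (b : A) (φ a x) = φ a (φ (a⁻¹ * (b : A) * a) x) by
            rw [show φ (b : A) (φ a x) = φ ((b : A) * a) x by rw [map_mul]; rfl,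
              show (b : A) * a = a * (a⁻¹ * (b : A) * a) by group, map_mul]; rfl,
            transIrr_apply, transIrr_apply]
          exact χ.2 ⟨_, hb⟩ x
        have h1 := apply_transIrr φB π hπ (φ a) (σ a) (fun _ => rfl) χ ⟨_, hinv⟩ rfl
        rw [hχ, (transIrr_eq_self_iff (σ a) η.1).2 (η.2 (a : A ⧸ B))] at h1
        exact congrArg Subtype.val (π.injective (h1.trans hχ.symm))
      exact ⟨⟨χ.1, hχinv⟩, above_step hB φB hpG N hNB χ θB η.1 (πN θB)
        ((hπ χ η.1).2 hχ) ((hπN θB _).2 rfl) hη⟩

theorem exists_invariant_above {A : Type v} [Group A] [Finite A] [Group.IsSolvable A] {G : Type u}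
    [Group G] [Fintype G] (φ : A →* MulAut G) (N : Subgroup G) [N.Normal] [Fintype N]
    (hN : ∀ a, ∀ m ∈ N, φ a m ∈ N) (θ : IrrCharacter N) (hcop : (Nat.card A).Coprime (Nat.card G))
    (hθ : IsInv (restrictAct φ N hN) (θ : N → ℂ)) :
    ∃ χ : InvIrr φ, classInner (fun m : N => (χ.1 : G → ℂ) m) (θ : N → ℂ) ≠ 0 :=
  exists_invariant_above_aux _ φ N hN θ le_rfl hcop hθ

end Cfsg.Agent.Lib.Glauberman
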