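import Cfsg.Agent.Lib.Glauberman.AboveAbelian

/-!
# Invariant characters over a solvable quotient
-/

set_option autoImplicit false
set_option linter.unusedSectionVars false
set_option linter.style.haveILetI false

namespace Cfsg.Agent.Lib.Glauberman

open Cfsg Cfsg.Agent.Lib.Blocks Cfsg.Agent.Lib.Characters
open Cfsg.Agent.Lib.BrauerPairs (transIrr transIrr_apply)

universe u

variable {Γ : Type u} [Group Γ] [Fintype Γ]

/-- Conjugation by `T` preserves the product of the derived subgroup and an invariant subgroup. -/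
theorem le_normalizer_derived_sup {G N T : Subgroup Γ}
    (hTG : T ≤ Subgroup.normalizer (G : Set Γ)) (hTN : T ≤ Subgroup.normalizer (N : Set Γ)) :
    T ≤ Subgroup.normalizer ((⁅G, G⁆ ⊔ N : Subgroup Γ) : Set Γ) := by
  have key : ∀ t ∈ T, (⁅G, G⁆ ⊔ N).map (MulAut.conj t).toMonoidHom = ⁅G, G⁆ ⊔ N := by
    intro t ht
    have hmap : ∀ H : Subgroup Γ, T ≤ Subgroup.normalizer (H : Set Γ) →
        H.map (MulAut.conj t).toMonoidHom = H := fun H hH => by
      ext x
      simp only [Subgroup.mem_map, MulEquiv.coe_toMonoidHom, MulAut.conj_apply]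
      refine ⟨?_, fun hx => ⟨t⁻¹ * x * t,
        by simpa using conj_mem_of_le_normalizer hH (T.inv_mem ht) hx, by group⟩⟩
      rintro ⟨h, hh, rfl⟩
      exact conj_mem_of_le_normalizer hH ht hh
    rw [Subgroup.map_sup, Subgroup.map_commutator, hmap G hTG, hmap N hTN]
  intro t ht
  refine Subgroup.mem_normalizer_iff.2 fun x => ⟨fun hx => ?_, fun hx => ?_⟩
  · rw [← key t ht]
    exact ⟨x, hx, rfl⟩
  · rw [← key t ht] at hx
    obtain ⟨y, hy, hyx⟩ := hx
    rwa [show x = y from ((MulAut.conj t).injective hyx).symm]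

theorem exists_invariant_above_solvable_aux : ∀ (n : ℕ) (G N T : Subgroup Γ) [Fintype G]
    [Fintype N] (hNG : N ≤ G) [(N.subgroupOf G).Normal],
    T ≤ Subgroup.normalizer (G : Set Γ) → T ≤ Subgroup.normalizer (N : Set Γ) →
    N.relIndex G ≤ n → T ⊓ G ≤ N → (N.relIndex G).Coprime (N.relIndex T) →
    Group.IsSolvable (G ⧸ N.subgroupOf G) → ∀ θ : IrrCharacter N, InvUnder T (θ : N → ℂ) →
    ∃ χ : IrrCharacter G, classInner (fun m : N => (χ : G → ℂ) ⟨m, hNG m.2⟩) (θ : N → ℂ) ≠ 0 ∧
      InvUnder T (χ : G → ℂ) := by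
  intro n
  induction n with
  | zero =>
    intro G N T _ _ hNG _ _ _ hn
    exact absurd (Nat.le_zero.1 hn)
      (Subgroup.index_ne_zero_of_finite (H := N.subgroupOf G))
  | succ n ih =>
    intro G N T _ _ hNG _ hTG hTN hn hTGN hcop hsolv θ hθ
    classical
    set M := ⁅G, G⁆ ⊔ N with hMdef
    have hMG : M ≤ G := sup_le (Subgroup.commutator_le_self G) hNG
    have hab : ∀ a ∈ G, ∀ b ∈ G, a * b * a⁻¹ * b⁻¹ ∈ M := fun a ha b hb =>
      Subgroup.mem_sup_left (by
        simpa [commutatorElement_def] using Subgroup.commutator_mem_commutator ha hb)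
    haveI : (M.subgroupOf G).Normal := by
      refine ⟨fun x hx g => ?_⟩
      show (g : Γ) * x * (g : Γ)⁻¹ ∈ M
      have h1 : (g : Γ) * x * (g : Γ)⁻¹ * (x : Γ)⁻¹ ∈ M := hab g g.2 x x.2
      simpa using M.mul_mem h1 hx
    have hTM : T ≤ Subgroup.normalizer (M : Set Γ) := le_normalizer_derived_sup hTG hTN
    haveI : Fintype M := Fintype.ofFinite _
    haveI : (N.subgroupOf M).Normal := ⟨fun x hx g => by
      have h1 := ‹(N.subgroupOf G).Normal›.conj_mem ⟨(x : Γ), hMG x.2⟩ hx ⟨(g : Γ), hMG g.2⟩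
      exact h1⟩
    have hrelT : M.relIndex T = N.relIndex T := by
      rw [← Subgroup.inf_relIndex_right M T, ← Subgroup.inf_relIndex_right N T]
      congr 1
      exact le_antisymm (le_inf ((le_inf inf_le_right (inf_le_left.trans hMG)).trans hTGN)
        inf_le_right) (inf_le_inf_right T le_sup_right)
    have hmul : N.relIndex M * M.relIndex G = N.relIndex G :=
      Subgroup.relIndex_mul_relIndex _ _ _ le_sup_right hMG
    by_cases hMN : M = N
    · have hab' : ∀ a ∈ G, ∀ b ∈ G, a * b * a⁻¹ * b⁻¹ ∈ N := fun a ha b hb => hMN ▸ hab a ha b hb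
      exact exists_invariant_above_of_abelian G N T hNG hTG hTN hab' hcop θ hθ
    have hne : M ≠ G := by
      intro hMeq
      have h1 : 1 < (N.subgroupOf G).index := by
        refine Nat.one_lt_iff_ne_zero_and_ne_one.2 ⟨Subgroup.index_ne_zero_of_finite, fun h => ?_⟩
        have h2 : G ≤ N := Subgroup.relIndex_eq_one.1 h
        exact hMN (le_antisymm (hMG.trans h2) le_sup_right)
      haveI : Nontrivial (G ⧸ N.subgroupOf G) := by
        rw [← Finite.one_lt_card_iff_nontrivial, ← Subgroup.index_eq_card]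
        exact h1
      haveI := hsolv
      refine (Group.IsSolvable.commutator_lt_top_of_nontrivial (G ⧸ N.subgroupOf G)).ne ?_
      have hmap : (⊤ : Subgroup (G ⧸ N.subgroupOf G)) =
          (commutator G).map (QuotientGroup.mk' (N.subgroupOf G)) := by
        refine (top_unique fun q _ => ?_).symm
        obtain ⟨g, rfl⟩ := QuotientGroup.mk_surjective q
        have hg : (g : Γ) ∈ M := by rw [hMeq]; exact g.2
        have hg' : (g : Γ) ∈ ((⁅G, G⁆ ⊔ N : Subgroup Γ) : Set Γ) := hg
        rw [Subgroup.coe_mul_of_left_le_normalizer_right _ _ ((Subgroup.commutator_le_self G).trans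
          ((Subgroup.normal_subgroupOf_iff_le_normalizer hNG).1 inferInstance))] at hg'
        obtain ⟨c, hc, m, hm, hcm⟩ := Set.mem_mul.1 hg'
        have hcG : c ∈ G := Subgroup.commutator_le_self G hc
        refine ⟨⟨c, hcG⟩, ?_, ?_⟩
        · rw [← Subgroup.map_subtype_commutator] at hc
          obtain ⟨y, hy, hyc⟩ := hc
          rwa [show (⟨c, hcG⟩ : G) = y from Subtype.ext hyc.symm]
        · refine QuotientGroup.eq.2 ?_
          show ((⟨c, hcG⟩ : G)⁻¹ * g : G).1 ∈ N
          rw [Subgroup.coe_mul, Subgroup.coe_inv, ← hcm]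
          simpa using hm
      refine top_unique ?_
      rw [hmap]
      exact (Subgroup.map_commutator _ _ _).le.trans
        (Subgroup.commutator_mono le_top le_top)
    have hlt : N.relIndex M ≤ n := by
      have h1 : 1 < M.relIndex G := Nat.one_lt_iff_ne_zero_and_ne_one.2
        ⟨Subgroup.index_ne_zero_of_finite (H := M.subgroupOf G),
          fun h => hne (le_antisymm hMG (Subgroup.relIndex_eq_one.1 h))⟩
      have h2 : 0 < N.relIndex M :=
        Nat.pos_of_ne_zero (Subgroup.index_ne_zero_of_finite (H := N.subgroupOf M))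
      nlinarith
    have hsolvM : Group.IsSolvable (M ⧸ N.subgroupOf M) := by
      haveI := hsolv
      refine Group.isSolvable_of_isSolvable_injective
        (f := QuotientGroup.map (N.subgroupOf M) (N.subgroupOf G) (Subgroup.inclusion hMG)
          fun x hx => hx) ((injective_iff_map_eq_one _).2 fun q hq => ?_)
      obtain ⟨x, rfl⟩ := QuotientGroup.mk_surjective q
      change ((Subgroup.inclusion hMG x : G) : G ⧸ N.subgroupOf G) = 1 at hq
      rw [QuotientGroup.eq_one_iff] at hq
      exact (QuotientGroup.eq_one_iff x).2 hq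
    obtain ⟨ψ, hψ, hψT⟩ := ih M N T le_sup_right hTM hTN hlt
      ((inf_le_inf_left T hMG).trans hTGN)
      (hcop.coprime_dvd_left (hmul ▸ Dvd.intro _ rfl)) hsolvM θ hθ
    obtain ⟨χ, hχ, hχT⟩ := exists_invariant_above_of_abelian G M T hMG hTG hTM hab
      (by rw [hrelT]; exact hcop.coprime_dvd_left (hmul ▸ Dvd.intro_left _ rfl)) ψ hψT
    refine ⟨χ, ?_, hχT⟩
    haveI := Fintype.ofFinite (N.subgroupOf M)
    let j : N.subgroupOf M ≃* N := Subgroup.subgroupOfEquivOfLe le_sup_right
    have h1 := classInner_ne_zero_trans (N.subgroupOf M)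
      (χ := fun m : M => (χ : G → ℂ) ⟨m, hMG m.2⟩)
      (IsCharacter.comp (irr_isCharacter χ) (Subgroup.inclusion hMG)) ψ
      (θ := (transIrr j.symm θ : N.subgroupOf M → ℂ)) (irr_isCharacter _) hχ
      (fun h => hψ (by
        rw [← h, classInner, classInner, Nat.card_congr j.toEquiv]
        congr 1
        exact (Fintype.sum_equiv j.toEquiv _ _ fun x => rfl).symm))
    intro h
    refine h1 ?_
    rw [← h, classInner, classInner, Nat.card_congr j.toEquiv]
    congr 1
    exact Fintype.sum_equiv j.toEquiv _ _ fun x => rfl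

theorem exists_invariant_above_solvable (G N T : Subgroup Γ) [Fintype G] [Fintype N] (hNG : N ≤ G)
    [(N.subgroupOf G).Normal] (hTG : T ≤ Subgroup.normalizer (G : Set Γ))
    (hTN : T ≤ Subgroup.normalizer (N : Set Γ)) (hTGN : T ⊓ G ≤ N)
    (hcop : (N.relIndex G).Coprime (N.relIndex T)) (hsolv : Group.IsSolvable (G ⧸ N.subgroupOf G))
    (θ : IrrCharacter N) (hθ : InvUnder T (θ : N → ℂ)) :
    ∃ χ : IrrCharacter G, classInner (fun m : N => (χ : G → ℂ) ⟨m, hNG m.2⟩) (θ : N → ℂ) ≠ 0 ∧
      InvUnder T (χ : G → ℂ) :=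
  exists_invariant_above_solvable_aux _ G N T hNG hTG hTN le_rfl hTGN hcop hsolv θ hθ

end Cfsg.Agent.Lib.Glauberman
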