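import Cfsg.Agent.Lib.Blocks.SecondMain
import Cfsg.Agent.Lib.Blocks.Exists
import Cfsg.Agent.Lib.BrauerPairs.Inertial
import Cfsg.Agent.Lib.Characters.Kernel

/-!
# Coprime actions of `p`-groups: fixed point congruences and classes
-/

set_option autoImplicit false
set_option linter.unusedSectionVars false
set_option linter.style.haveILetI false

namespace Cfsg.Agent.Lib.Glauberman

open Cfsg Cfsg.Agent.Lib.Blocks Cfsg.Agent.Lib.Characters

universe u v w

variable {A : Type v} [Group A] {G : Type u} [Group G]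

/-- The fixed points of an action by automorphisms. -/
def fixedSub (φ : A →* MulAut G) : Subgroup G where
  carrier := {g | ∀ a, φ a g = g}
  one_mem' := fun a => map_one _
  mul_mem' := fun {x y} hx hy a => by rw [map_mul, hx a, hy a]
  inv_mem' := fun {x} hx a => by rw [map_inv, hx a]

theorem mem_fixedSub {φ : A →* MulAut G} {g : G} : g ∈ fixedSub φ ↔ ∀ a, φ a g = g := Iff.rfl

/-- Invariance of a function. -/
def IsInv (φ : A →* MulAut G) (f : G → ℂ) : Prop := ∀ a g, f (φ a g) = f g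

/-- The invariant irreducible characters. -/
abbrev InvIrr (φ : A →* MulAut G) : Type u := {χ : IrrCharacter G // IsInv φ (χ : G → ℂ)}

/-- The classes mapped to themselves. -/
abbrev InvClass (φ : A →* MulAut G) : Type u :=
  {K : ConjClasses G // ∀ (a : A) (g : G), ConjClasses.mk g = K → ConjClasses.mk (φ a g) = K}

variable {M : Ideal AlgInt} [hMp : M.IsPrime] {p : ℕ}

/-- The congruence of a sum over a set with an action of a `p`-group and the sum over fixed
points. -/
theorem memLocalIdeal_sum_sub_fixed (hM : IsPModular p M) (hA : IsPGroup p A) {X : Type w}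
    [Fintype X] [MulAction A X] [DecidablePred (fun x : X => ∀ a : A, a • x = x)] (F : X → ℂ)
    (hR : ∀ x, MemLocalRing M (F x)) (hF : ∀ (a : A) (x : X), F (a • x) = F x) :
    MemLocalIdeal M (∑ x, F x - ∑ x, if ∀ a : A, a • x = x then F x else 0) := by
  classical
  haveI := Fact.mk hM.1
  rw [← Finset.sum_sub_distrib, ← Finset.sum_fiberwise_of_maps_to (s := Finset.univ)
    (t := Finset.univ.image F) (g := F) fun x hx => Finset.mem_image_of_mem F hx]
  refine memLocalIdeal_sum _ fun c hc => ?_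
  obtain ⟨x₀, -, rfl⟩ := Finset.mem_image.1 hc
  have hterm : ∀ x ∈ Finset.univ.filter (fun x : X => F x = F x₀),
      (F x - if ∀ a : A, a • x = x then F x else 0) =
        if ∀ a : A, a • x = x then (0 : ℂ) else F x₀ := by
    intro x hx
    rw [(Finset.mem_filter.1 hx).2]
    split_ifs <;> simp
  rw [Finset.sum_congr rfl hterm, Finset.sum_ite, Finset.sum_const_zero, zero_add,
    Finset.sum_const, nsmul_eq_mul]
  refine memLocalIdeal_mul_right ((memLocalIdeal_natCast_iff hM _).2 ?_) (hR x₀)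
  letI : MulAction A {x : X // F x = F x₀ ∧ ¬ ∀ a : A, a • x = x} :=
    { smul := fun a x => ⟨a • x.1, (hF a x.1).trans x.2.1, fun h => x.2.2 fun b => by
        have h1 := h (a * b * a⁻¹)
        rw [mul_smul, mul_smul, inv_smul_smul] at h1
        exact smul_left_cancel a h1⟩
      one_smul := fun x => Subtype.ext (one_smul A x.1)
      mul_smul := fun a b x => Subtype.ext (mul_smul a b x.1) }
  have hmod := hA.card_modEq_card_fixedPoints {x : X // F x = F x₀ ∧ ¬ ∀ a : A, a • x = x}
  have h0 : Nat.card (MulAction.fixedPoints A {x : X // F x = F x₀ ∧ ¬ ∀ a : A, a • x = x}) = 0 :=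
    Nat.card_eq_zero.2 (Or.inl ⟨fun x => x.1.2.2 fun a => congrArg Subtype.val (x.2 a)⟩)
  rw [h0, Nat.modEq_zero_iff_dvd, Nat.card_eq_fintype_card, Fintype.card_subtype] at hmod
  rwa [Finset.filter_filter]

/-- A `p`-group acting on a set of size prime to `p` has a fixed point. -/
theorem exists_fixed_of_card [hp : Fact p.Prime] (hA : IsPGroup p A) (X : Type w) [Finite X]
    [MulAction A X] (h : ¬ p ∣ Nat.card X) : ∃ x : X, ∀ a : A, a • x = x := by
  obtain ⟨x, hx⟩ := hA.nonempty_fixed_point_of_prime_not_dvd_card X h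
  exact ⟨x, hx⟩

variable [Fintype G] (φ : A →* MulAut G)

theorem sum_congr_fixed (hM : IsPModular p M) (hA : IsPGroup p A) [Fintype (fixedSub φ)]
    (F : G → ℂ) (hR : ∀ x, MemLocalRing M (F x)) (hF : IsInv φ F) :
    MemLocalIdeal M (∑ x, F x - ∑ c : fixedSub φ, F c) := by
  classical
  letI : MulAction A G := MulAction.compHom G φ
  have h := memLocalIdeal_sum_sub_fixed hM hA F hR fun a x => hF a x
  rw [← Finset.sum_filter] at h
  rw [← Finset.sum_subtype (p := fun g => g ∈ fixedSub φ)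
    (Finset.univ.filter fun x : G => ∀ a : A, a • x = x)
    (fun x => ⟨fun hx => (Finset.mem_filter.1 hx).2, fun hx => Finset.mem_filter.2
      ⟨Finset.mem_univ x, hx⟩⟩) F]
  exact h

theorem card_congr_fixed (hM : IsPModular p M) (hA : IsPGroup p A) :
    MemLocalIdeal M ((Nat.card G : ℂ) - (Nat.card (fixedSub φ) : ℂ)) := by
  classical
  haveI := Fintype.ofFinite (fixedSub φ)
  have h := sum_congr_fixed φ hM hA (fun _ => 1) (fun _ => memLocalRing_one) (fun _ _ => rfl)
  simpa [Nat.card_eq_fintype_card] using h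

/-- The Brauer homomorphism. -/
theorem conv_congr_fixed (hM : IsPModular p M) (hA : IsPGroup p A) [Fintype (fixedSub φ)]
    {f f' : G → ℂ} (hf : ∀ x, MemLocalRing M (f x)) (hf' : ∀ x, MemLocalRing M (f' x))
    (hfi : IsInv φ f) (hfi' : IsInv φ f') (c : fixedSub φ) :
    MemLocalIdeal M (conv f f' (c : G) -
      conv (resFun (fixedSub φ) f) (resFun (fixedSub φ) f') c) :=
  sum_congr_fixed φ hM hA (fun x => f x * f' (x⁻¹ * (c : G)))
    (fun x => memLocalRing_mul (hf x) (hf' _)) fun a x => by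
      have hc : φ a (c : G) = (c : G) := c.2 a
      show f (φ a x) * f' ((φ a x)⁻¹ * (c : G)) = f x * f' (x⁻¹ * (c : G))
      rw [hfi a x, show (φ a x)⁻¹ * (c : G) = φ a (x⁻¹ * (c : G)) by rw [map_mul, map_inv, hc],
        hfi' a]

section Classes

variable [hp : Fact p.Prime]

/-- An invariant class contains a fixed point. -/
theorem exists_fixed_of_invClass (hA : IsPGroup p A) (hG : ¬ p ∣ Nat.card G) {g : G}
    (h : ∀ a, IsConj g (φ a g)) : ∃ c ∈ fixedSub φ, IsConj g c := by
  letI : MulAction A {x : G // IsConj g x} :=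
    { smul := fun a x => ⟨φ a x.1, (h a).trans (by
        obtain ⟨t, ht⟩ := isConj_iff.1 x.2
        exact isConj_iff.2 ⟨φ a t, by rw [← ht, map_mul, map_mul, map_inv]⟩)⟩
      one_smul := fun x => Subtype.ext (by
        show φ 1 x.1 = x.1
        rw [map_one]; rfl)
      mul_smul := fun a b x => Subtype.ext (by
        show φ (a * b) x.1 = φ a (φ b x.1)
        rw [map_mul]; rfl) }
  obtain ⟨x, hx⟩ := exists_fixed_of_card hA {x : G // IsConj g x} (fun hd => hG (hd.trans (by
    rw [card_conj_eq_index]; exact Subgroup.index_dvd_card _)))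
  exact ⟨x.1, fun a => congrArg Subtype.val (hx a), x.2⟩

/-- Fixed points conjugate in `G` are conjugate in the fixed subgroup. -/
theorem isConj_of_isConj (hA : IsPGroup p A) (hG : ¬ p ∣ Nat.card G) {c c' : fixedSub φ}
    (h : IsConj (c : G) (c' : G)) : IsConj c c' := by
  letI : MulAction A {t : G // t * (c : G) * t⁻¹ = (c' : G)} :=
    { smul := fun a t => ⟨φ a t.1, by
        have h1 := congrArg (φ a) t.2
        rw [map_mul, map_mul, map_inv, c.2 a, c'.2 a] at h1
        exact h1⟩
      one_smul := fun t => Subtype.ext (by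
        show φ 1 t.1 = t.1
        rw [map_one]; rfl)
      mul_smul := fun a b t => Subtype.ext (by
        show φ (a * b) t.1 = φ a (φ b t.1)
        rw [map_mul]; rfl) }
  obtain ⟨t₀, ht₀⟩ := isConj_iff.1 h
  have e : Subgroup.centralizer ({(c : G)} : Set G) ≃ {t : G // t * (c : G) * t⁻¹ = (c' : G)} :=
    { toFun := fun z => ⟨t₀ * z.1, by
        have hz := Subgroup.mem_centralizer_singleton_iff.1 z.2
        calc t₀ * z.1 * (c : G) * (t₀ * z.1)⁻¹ = t₀ * (z.1 * (c : G)) * z.1⁻¹ * t₀⁻¹ := by group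
          _ = t₀ * ((c : G) * z.1) * z.1⁻¹ * t₀⁻¹ := by rw [hz]
          _ = (c' : G) := by rw [← ht₀]; group⟩
      invFun := fun t => ⟨t₀⁻¹ * t.1, by
        rw [Subgroup.mem_centralizer_singleton_iff]
        calc t₀⁻¹ * t.1 * (c : G) = t₀⁻¹ * (t.1 * (c : G) * t.1⁻¹) * t.1 := by group
          _ = t₀⁻¹ * (t₀ * (c : G) * t₀⁻¹) * t.1 := by rw [t.2, ht₀]
          _ = (c : G) * (t₀⁻¹ * t.1) := by group⟩
      left_inv := fun z => Subtype.ext (by simp)
      right_inv := fun t => Subtype.ext (by simp) }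
  obtain ⟨t, ht⟩ := exists_fixed_of_card hA {t : G // t * (c : G) * t⁻¹ = (c' : G)} (by
    rw [← Nat.card_congr e]
    exact fun hd => hG (hd.trans (Subgroup.card_subgroup_dvd_card _)))
  exact isConj_iff.2 ⟨⟨t.1, fun a => congrArg Subtype.val (ht a)⟩, Subtype.ext t.2⟩

theorem exists_classExtension (hA : IsPGroup p A) (hG : ¬ p ∣ Nat.card G)
    {h : fixedSub φ → ℂ} (hR : ∀ c, MemLocalRing M (h c)) (hcl : IsClassFunction (fixedSub φ) h) :
    ∃ F : G → ℂ, IsRCentral M F ∧ IsInv φ F ∧ resFun (fixedSub φ) F = h := by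
  classical
  let F : G → ℂ := fun g =>
    if hg : ∃ c : fixedSub φ, IsConj g (c : G) then h hg.choose else 0
  have key : ∀ (g : G) (c : fixedSub φ), IsConj g (c : G) → F g = h c := by
    intro g c hc
    have hg : ∃ c : fixedSub φ, IsConj g (c : G) := ⟨c, hc⟩
    simp only [F, dif_pos hg]
    exact (IsClassFunction.eq_of_isConj hcl
      (isConj_of_isConj φ hA hG (hg.choose_spec.symm.trans hc))).symm ▸ rfl
  have hzero : ∀ g : G, (¬ ∃ c : fixedSub φ, IsConj g (c : G)) → F g = 0 := fun g hg => by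
    simp only [F, dif_neg hg]
  refine ⟨F, ⟨fun g t => ?_, fun g => ?_⟩, fun a g => ?_,
    funext fun c => key _ c (IsConj.refl _)⟩
  · have hgt : IsConj g (t * g * t⁻¹) := isConj_iff.2 ⟨t, rfl⟩
    by_cases hg : ∃ c : fixedSub φ, IsConj g (c : G)
    · obtain ⟨c, hc⟩ := hg
      rw [key g c hc, key _ c (hgt.symm.trans hc)]
    · rw [hzero g hg, hzero _ fun ⟨c, hc⟩ => hg ⟨c, hgt.trans hc⟩]
  · by_cases hg : ∃ c : fixedSub φ, IsConj g (c : G)
    · obtain ⟨c, hc⟩ := hg
      rw [key g c hc]; exact hR c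
    · rw [hzero g hg]; exact memLocalRing_zero
  · have hmap : ∀ (b : A) (x y : G), IsConj x y → IsConj (φ b x) (φ b y) := fun b x y hxy => by
      obtain ⟨t, rfl⟩ := isConj_iff.1 hxy
      exact isConj_iff.2 ⟨φ b t, by rw [map_mul, map_mul, map_inv]⟩
    by_cases hg : ∃ c : fixedSub φ, IsConj g (c : G)
    · obtain ⟨c, hc⟩ := hg
      rw [key g c hc, key _ c (by simpa [c.2 a] using hmap a _ _ hc)]
    · rw [hzero g hg, hzero _ fun ⟨c, hc⟩ => hg ⟨c, by
        have h1 := hmap a⁻¹ _ _ hc
        rw [c.2 a⁻¹, map_inv] at h1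
        simpa using h1⟩]

/-- Classes of the fixed subgroup and invariant classes. -/
theorem nonempty_classEquiv (hA : IsPGroup p A) (hG : ¬ p ∣ Nat.card G) :
    ∃ e : ConjClasses (fixedSub φ) ≃ InvClass φ,
      ∀ c : fixedSub φ, (e (ConjClasses.mk c)).1 = ConjClasses.mk (c : G) := by
  classical
  let f : ConjClasses (fixedSub φ) → InvClass φ := fun K =>
    ⟨ConjClasses.map (fixedSub φ).subtype K, by
      intro a g hg
      obtain ⟨c, rfl⟩ := ConjClasses.mk_surjective K
      have h1 : IsConj g (c : G) := ConjClasses.mk_eq_mk_iff_isConj.1 hg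
      obtain ⟨t, ht⟩ := isConj_iff.1 h1
      refine ConjClasses.mk_eq_mk_iff_isConj.2 (isConj_iff.2 ⟨φ a t, ?_⟩)
      rw [← map_inv, ← map_mul, ← map_mul, ht]
      exact c.2 a⟩
  refine ⟨Equiv.ofBijective f ⟨fun K K' h => ?_, fun K => ?_⟩, fun c => rfl⟩
  · obtain ⟨c, rfl⟩ := ConjClasses.mk_surjective K
    obtain ⟨c', rfl⟩ := ConjClasses.mk_surjective K'
    exact ConjClasses.mk_eq_mk_iff_isConj.2
      (isConj_of_isConj φ hA hG (ConjClasses.mk_eq_mk_iff_isConj.1 (congrArg Subtype.val h)))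
  · obtain ⟨K, hK⟩ := K
    obtain ⟨g, rfl⟩ := ConjClasses.mk_surjective K
    obtain ⟨c, hc, hgc⟩ := exists_fixed_of_invClass φ hA hG
      fun a => (ConjClasses.mk_eq_mk_iff_isConj.1 (hK a g rfl)).symm
    exact ⟨ConjClasses.mk ⟨c, hc⟩, Subtype.ext (ConjClasses.mk_eq_mk_iff_isConj.2 hgc.symm)⟩

end Classes

end Cfsg.Agent.Lib.Glauberman
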