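import Cfsg.Agent.Lib.Glauberman.AboveAbelian
import Cfsg.Agent.Lib.Coprime.Action

/-!
# Invariant constituents on a normal subgroup
-/

set_option autoImplicit false
set_option linter.unusedSectionVars false
set_option linter.style.haveILetI false

namespace Cfsg.Agent.Lib.Glauberman

open Cfsg Cfsg.Agent.Lib.Blocks Cfsg.Agent.Lib.Characters
open Cfsg.Agent.Lib.BrauerPairs (transIrr transIrr_apply)
open scoped ComplexConjugate

universe u

variable {Γ : Type u} [Group Γ] [Fintype Γ]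

theorem exists_invariant_below (G N T : Subgroup Γ) [Fintype G] [Fintype N] (hNG : N ≤ G)
    [(N.subgroupOf G).Normal] (hTG : T ≤ Subgroup.normalizer (G : Set Γ))
    (hTN : T ≤ Subgroup.normalizer (N : Set Γ))
    (hcop : (N.relIndex G).Coprime (Nat.card T))
    (hsolv : Group.IsSolvable T ∨ Group.IsSolvable (G ⧸ N.subgroupOf G))
    (χ : IrrCharacter G) (hinv : InvUnder T (χ : G → ℂ)) :
    ∃ θ : IrrCharacter N, classInner (fun n : N => (χ : G → ℂ) ⟨n, hNG n.2⟩) (θ : N → ℂ) ≠ 0 ∧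
      InvUnder T (θ : N → ℂ) := by
  classical
  -- the normaliser acts on the characters of `N` through `L ⧸ N`
  let L : Subgroup Γ := Subgroup.normalizer (N : Set Γ)
  have hNL : N ≤ L := Subgroup.le_normalizer
  have hGL : G ≤ L := (Subgroup.normal_subgroupOf_iff_le_normalizer hNG).1 inferInstance
  have hc : ∀ t ∈ L, ∀ n ∈ N, t * n * t⁻¹ ∈ N := fun t ht n hn =>
    conj_mem_of_le_normalizer le_rfl ht hn
  let ρ : L →* Equiv.Perm (IrrCharacter N) :=
    { toFun := fun t => irrEquiv (conjHom N L hc t)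
      map_one' := Equiv.ext fun θ => Subtype.ext (funext fun g => by
        show (θ : N → ℂ) ((conjHom N L hc 1).symm g) = (θ : N → ℂ) g
        rw [map_one]; rfl)
      map_mul' := fun s t => Equiv.ext fun θ => Subtype.ext (funext fun g => by
        show (θ : N → ℂ) ((conjHom N L hc (s * t)).symm g) =
          (θ : N → ℂ) ((conjHom N L hc t).symm ((conjHom N L hc s).symm g))
        rw [map_mul]; rfl) }
  haveI : (N.subgroupOf L).Normal := Subgroup.normal_subgroupOf_of_le_normalizer le_rfl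
  have hker : N.subgroupOf L ≤ ρ.ker := fun t ht => MonoidHom.mem_ker.2 (Equiv.ext fun θ => by
    refine (transIrr_eq_self_iff (conjHom N L hc t) θ).2 fun g => ?_
    exact Eq.trans (congrArg (θ : N → ℂ) (Subtype.ext rfl))
      (irr_isClassFunction θ g ⟨(t : Γ), ht⟩))
  letI : MulAction (L ⧸ N.subgroupOf L) (IrrCharacter N) :=
    MulAction.compHom (IrrCharacter N) (QuotientGroup.lift _ ρ hker)
  let q : L →* L ⧸ N.subgroupOf L := QuotientGroup.mk' _
  set A := (T.subgroupOf L).map q with hA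
  set K := (G.subgroupOf L).map q with hK
  have hTL : T ≤ L := hTN
  haveI := Fintype.ofFinite L
  let fG : G →* L ⧸ N.subgroupOf L := q.comp (Subgroup.inclusion hGL)
  have hfK : fG.range = K := by
    ext x
    constructor
    · rintro ⟨g, rfl⟩
      exact ⟨Subgroup.inclusion hGL g, g.2, rfl⟩
    · rintro ⟨y, hy, rfl⟩
      exact ⟨⟨(y : Γ), hy⟩, rfl⟩
  have hkerG : N.subgroupOf G = fG.ker := by
    ext g
    show ((g : Γ) ∈ N) ↔ ((Subgroup.inclusion hGL g : L) : L ⧸ N.subgroupOf L) = 1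
    rw [QuotientGroup.eq_one_iff]
    rfl
  let eK : G ⧸ N.subgroupOf G ≃* K :=
    (QuotientGroup.quotientMulEquivOfEq hkerG).trans
      ((QuotientGroup.quotientKerEquivRange fG).trans (MulEquiv.subgroupCongr hfK))
  have hcardK : Nat.card K = N.relIndex G := (Nat.card_congr eK.toEquiv).symm
  have hcopA : (Nat.card A).Coprime (Nat.card K) := by
    rw [hcardK]
    refine hcop.symm.coprime_dvd_left ?_
    rw [← Nat.card_congr (Subgroup.subgroupOfEquivOfLe hTL).toEquiv]
    exact Subgroup.card_map_dvd _ _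
  have hAK : A ≤ Subgroup.normalizer (K : Set _) := by
    refine le_trans ?_ (Subgroup.le_normalizer_map q)
    refine Subgroup.map_mono fun t ht => Subgroup.mem_normalizer_iff.2 fun x => ?_
    exact (Subgroup.mem_normalizer_iff.1 (hTG ht)) (x : Γ)
  have hsolv' : Group.IsSolvable A ∨ Group.IsSolvable K := by
    refine hsolv.imp (fun h => ?_) fun h => ?_
    · haveI := h
      haveI : Group.IsSolvable (T.subgroupOf L) := Group.isSolvable_of_isSolvable_injective
        (f := (Subgroup.subgroupOfEquivOfLe hTL).toMonoidHom) (MulEquiv.injective _)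
      exact Group.isSolvable_of_surjective (f := q.subgroupMap (T.subgroupOf L))
        (MonoidHom.subgroupMap_surjective _ _)
    · haveI := h
      exact Group.isSolvable_of_surjective (f := eK.toMonoidHom) eK.surjective
  -- a constituent and its orbit
  set N' := N.subgroupOf G
  haveI := Fintype.ofFinite N'
  let i : N' ≃* N := Subgroup.subgroupOfEquivOfLe hNG
  have htr : ∀ θ : IrrCharacter N,
      classInner (fun n : N' => (χ : G → ℂ) n) (transIrr i.symm θ : N' → ℂ) =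
        classInner (fun n : N => (χ : G → ℂ) ⟨n, hNG n.2⟩) (θ : N → ℂ) := fun θ => by
    rw [classInner, classInner, Nat.card_congr i.toEquiv]
    congr 1
    exact Fintype.sum_equiv i.toEquiv _ _ fun x => rfl
  have hsmul : ∀ (t : L) (θ : IrrCharacter N) (n : N),
      (((t : L ⧸ N.subgroupOf L) • θ : IrrCharacter N) : N → ℂ) (conjHom N L hc t n) =
        (θ : N → ℂ) n := fun t θ n => transIrr_apply (conjHom N L hc t) θ n
  obtain ⟨θ₁, hθ₁⟩ := IsCharacter.exists_constituent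
    (χ := fun n : N => (χ : G → ℂ) ⟨n, hNG n.2⟩)
    (IsCharacter.comp (irr_isCharacter χ) (Subgroup.inclusion hNG))
    fun h => IsIrrCharacter.apply_one_ne_zero χ.2 (congrFun h 1)
  have horb : ∀ (t : L) (θ : IrrCharacter N),
      (∀ g : G, ∀ g' : G, (g' : Γ) = (t : Γ) * g * (t : Γ)⁻¹ → (χ : G → ℂ) g' = (χ : G → ℂ) g) →
      classInner (fun n : N => (χ : G → ℂ) ⟨n, hNG n.2⟩)
        (((t : L ⧸ N.subgroupOf L) • θ : IrrCharacter N) : N → ℂ) =
      classInner (fun n : N => (χ : G → ℂ) ⟨n, hNG n.2⟩) (θ : N → ℂ) := by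
    intro t θ ht
    rw [classInner, classInner]
    congr 1
    refine (Fintype.sum_equiv (conjHom N L hc t).toEquiv _ _ fun n => ?_).symm
    show (χ : G → ℂ) ⟨n, hNG n.2⟩ * conj ((θ : N → ℂ) n) =
      (χ : G → ℂ) ⟨(conjHom N L hc t n : N), hNG (conjHom N L hc t n).2⟩ *
        conj ((((t : L ⧸ N.subgroupOf L) • θ : IrrCharacter N) : N → ℂ) (conjHom N L hc t n))
    rw [hsmul, ht ⟨n, hNG n.2⟩ ⟨(conjHom N L hc t n : N), hNG (conjHom N L hc t n).2⟩ rfl]
  have hGinv : ∀ (x : G) (g g' : G), (g' : Γ) = (x : Γ) * g * (x : Γ)⁻¹ →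
      (χ : G → ℂ) g' = (χ : G → ℂ) g := fun x g g' hg => by
    rw [show g' = x * g * x⁻¹ from Subtype.ext hg]
    exact irr_isClassFunction χ g x
  have hex : ∀ a ∈ A, ∃ k ∈ K, a • θ₁ = k • θ₁ := by
    rintro _ ⟨t, ht, rfl⟩
    have h2 : classInner (fun n : N => (χ : G → ℂ) ⟨n, hNG n.2⟩)
        (((t : L ⧸ N.subgroupOf L) • θ₁ : IrrCharacter N) : N → ℂ) ≠ 0 := by
      rw [horb t θ₁ fun g g' hg => hinv (t : Γ) ht g g' hg]
      exact hθ₁
    obtain ⟨g, hg⟩ := exists_conjFun_eq N' χ.2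
      (θ := (transIrr i.symm θ₁ : N' → ℂ))
      (φ := (transIrr i.symm ((t : L ⧸ N.subgroupOf L) • θ₁) : N' → ℂ))
      (transIrr i.symm θ₁).2 (transIrr i.symm ((t : L ⧸ N.subgroupOf L) • θ₁)).2
      (by rw [htr]; exact hθ₁) (by rw [htr]; exact h2)
    refine ⟨q (Subgroup.inclusion hGL g⁻¹), ⟨_, (g⁻¹ : G).2, rfl⟩, Subtype.ext (funext fun n => ?_)⟩
    show (((t : L ⧸ N.subgroupOf L) • θ₁ : IrrCharacter N) : N → ℂ) n =
      (transIrr (conjHom N L hc (Subgroup.inclusion hGL g⁻¹)) θ₁ : N → ℂ) n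
    have h3 := congrFun hg (i.symm n)
    refine Eq.trans h3.symm (congrArg (θ₁ : N → ℂ) (Subtype.ext ?_))
    show (g : Γ) * n * (g : Γ)⁻¹ = ((g⁻¹ : G) : Γ)⁻¹ * n * ((g⁻¹ : G) : Γ)
    simp
  obtain ⟨k, hk, hfix⟩ := Coprime.exists_fixed_smul hAK hcopA hsolv' θ₁ hex
  obtain ⟨x, hx, rfl⟩ := hk
  refine ⟨q x • θ₁, ?_, fun t ht g g' hg => ?_⟩
  · show classInner _ (((x : L ⧸ N.subgroupOf L) • θ₁ : IrrCharacter N) : N → ℂ) ≠ 0
    rw [horb x θ₁ fun g g' hg => hGinv ⟨(x : Γ), hx⟩ g g' hg]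
    exact hθ₁
  · have h1 := hfix _ ⟨⟨t, hTL ht⟩, ht, rfl⟩
    have h2 : transIrr (conjHom N L hc ⟨t, hTL ht⟩) (q x • θ₁) = q x • θ₁ := h1
    rw [show g' = conjHom N L hc ⟨t, hTL ht⟩ g from Subtype.ext hg]
    exact (transIrr_eq_self_iff _ _).1 h2 g

end Cfsg.Agent.Lib.Glauberman
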