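import Cfsg.Agent.Lib.Glauberman.Above
import Cfsg.Agent.Lib.Glauberman.Conj
import Mathlib.GroupTheory.SchurZassenhaus

/-!
# Invariant characters over a linear character of a central subgroup
-/

set_option autoImplicit false
set_option linter.unusedSectionVars false
set_option linter.style.haveILetI false

namespace Cfsg.Agent.Lib.Glauberman

open Cfsg Cfsg.Agent.Lib.Blocks Cfsg.Agent.Lib.Characters
open scoped ComplexConjugate

universe u

/-- A central element acts by the scalar attached to a constituent on a central subgroup. -/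
theorem apply_mul_central {G : Type u} [Group G] [Fintype G] (Z : Subgroup G) [Fintype Z]
    (hZc : ∀ z ∈ Z, ∀ g : G, z * g = g * z) (χ : IrrCharacter G) (l : Z →* ℂˣ)
    (h : classInner (fun z : Z => (χ : G → ℂ) z) (fun z : Z => (l z : ℂ)) ≠ 0) (z : Z) (g : G) :
    (χ : G → ℂ) ((z : G) * g) = (l z : ℂ) * (χ : G → ℂ) g := by
  haveI : Z.Normal := ⟨fun n hn t => by rwa [← hZc n hn t, mul_inv_cancel_right]⟩
  obtain ⟨n, ρ, hρ, hχ⟩ := χ.2
  have hirr := isIrrCharacter_unitsHom l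
  have hinv : ∀ t : G, conjFun Z t (fun z : Z => (l z : ℂ)) = fun z : Z => (l z : ℂ) := fun t =>
    funext fun x => congrArg (fun y : Z => (l y : ℂ)) (Subtype.ext (by
      show t * (x : G) * t⁻¹ = x
      rw [← hZc x x.2 t, mul_inv_cancel_right]))
  have hres := restrict_eq_smul_of_invariant Z χ.2 hirr hinv h
  obtain ⟨c, hc⟩ := exists_smul_of_commute ρ (ρ (z : G)) fun t => by
    rw [← map_mul, ← map_mul, hZc z z.2 t]
  have key : ∀ t : G, (χ : G → ℂ) ((z : G) * t) = c * (χ : G → ℂ) t := fun t => by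
    simp only [← hχ]
    show LinearMap.trace ℂ _ (ρ ((z : G) * t)) = c * LinearMap.trace ℂ _ (ρ t)
    rw [map_mul, hc, ← Module.End.one_eq_id, smul_mul_assoc, one_mul, map_smul, smul_eq_mul]
  have h1 := congrFun hres z
  have h2 := congrFun hres 1
  simp only [Pi.smul_apply, smul_eq_mul, OneMemClass.coe_one, map_one, Units.val_one,
    mul_one] at h1 h2
  have h3 := key 1
  rw [mul_one, h1, h2, mul_comm] at h3
  rw [key g, mul_right_cancel₀ h h3]

theorem coprime_div_gcd_pow {z m : ℕ} (hz : z ≠ 0) (hm : m ≠ 0) :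
    (z / z.gcd (m ^ z)).Coprime m := by
  rw [Nat.coprime_comm]
  refine Nat.coprime_of_dvd fun p hp hpm hpd => ?_
  have h1 : p * z.gcd (m ^ z) ∣ z :=
    Nat.mul_dvd_of_dvd_div (Nat.gcd_dvd_left _ _) hpd |> fun h => by rwa [mul_comm]
  have hg : z.gcd (m ^ z) ≠ 0 := Nat.gcd_ne_zero_left hz
  have h2 := (Nat.factorization_le_iff_dvd (mul_ne_zero hp.ne_zero hg) hz).2 h1 p
  rw [Nat.factorization_mul hp.ne_zero hg, Nat.factorization_gcd hz (pow_ne_zero _ hm),
    Nat.factorization_pow, hp.factorization] at h2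
  simp only [Finsupp.add_apply, Finsupp.single_eq_same, Finsupp.inf_apply, Finsupp.smul_apply,
    smul_eq_mul] at h2
  have h3 : 1 ≤ m.factorization p := hp.factorization_pos_of_dvd hm hpm
  have h4 : z.factorization p < z := Nat.factorization_lt _ hz
  have h5 : z * 1 ≤ z * m.factorization p := Nat.mul_le_mul_left _ h3
  rw [inf_of_le_left (by omega)] at h2
  omega

theorem exists_invariant_central {Q : Type u} [Group Q] [Finite Q] (QG : Subgroup Q) [QG.Normal]
    [Fintype QG] (Z : Subgroup Q) (hZG : Z ≤ QG) (hZc : ∀ z ∈ Z, ∀ q : Q, z * q = q * z)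
    (hcop : (Z.relIndex QG).Coprime QG.index) (hsolv : Group.IsSolvable (Q ⧸ QG))
    (lam : Z →* ℂˣ) :
    ∃ ψ : IrrCharacter QG,
      (∀ (q : Q) (x x' : QG), (x' : Q) = q * x * q⁻¹ → (ψ : QG → ℂ) x' = (ψ : QG → ℂ) x) ∧
      ∀ (z : Z) (x : QG),
        (ψ : QG → ℂ) (⟨(z : Q), hZG z.2⟩ * x) = (lam z : ℂ) * (ψ : QG → ℂ) x := by
  classical
  haveI := Fintype.ofFinite Q
  set r := Z.relIndex QG with hr
  set m := QG.index with hm
  set z₀ := Nat.card Z with hz₀
  set z₁ := z₀.gcd (m ^ z₀) with hz₁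
  have hrz : r.Coprime z₁ := (hcop.pow_right z₀).coprime_dvd_right (Nat.gcd_dvd_right _ _)
  obtain ⟨k, hk0, hk1⟩ := Nat.chineseRemainder hrz 0 1
  -- the linear character from the power map
  haveI : (Z.subgroupOf QG).Normal := ⟨fun n hn t => by
    show (t : Q) * n * (t : Q)⁻¹ ∈ Z
    rwa [← hZc (n : Q) hn, mul_inv_cancel_right]⟩
  have hZcen : Z.subgroupOf QG ≤ Subgroup.center QG := fun n hn =>
    Subgroup.mem_center_iff.2 fun t => Subtype.ext (hZc _ hn t).symm
  have hpow : ∀ a b : QG, (a * b) ^ k = a ^ k * b ^ k := by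
    intro a b
    obtain ⟨j, hj⟩ := (Subgroup.index_dvd_of_le hZcen).trans (Nat.modEq_zero_iff_dvd.1 hk0)
    simp only [hj, pow_mul]
    have h1 := congrArg Subtype.val (map_mul (MonoidHom.transferCenterPow QG) a b)
    simp only [Subgroup.coe_mul, MonoidHom.transferCenterPow_apply] at h1
    rw [h1]
    refine Commute.mul_pow ?_ j
    exact (Subgroup.mem_center_iff.1 (Subgroup.pow_index_mem _ a) _).symm
  have hmemk : ∀ a : QG, ((a ^ k : QG) : Q) ∈ Z := fun a => by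
    obtain ⟨j, hj⟩ := Nat.modEq_zero_iff_dvd.1 hk0
    rw [hj, pow_mul]
    exact Subgroup.mem_subgroupOf.1 (Subgroup.pow_mem _ (Subgroup.pow_index_mem _ a) j)
  let pk : QG →* Z :=
    { toFun := fun a => ⟨((a ^ k : QG) : Q), hmemk a⟩
      map_one' := Subtype.ext (by simp)
      map_mul' := fun a b => Subtype.ext (by simp only [hpow]; rfl) }
  let μ : QG →* ℂˣ := lam.comp pk
  have hμconj : ∀ (q : Q) (x x' : QG), (x' : Q) = q * x * q⁻¹ → μ x' = μ x := fun q x x' h => by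
    refine congrArg lam (Subtype.ext ?_)
    show ((x' ^ k : QG) : Q) = ((x ^ k : QG) : Q)
    rw [SubmonoidClass.coe_pow, h, conj_pow, ← SubmonoidClass.coe_pow, ← hZc _ (hmemk x) q,
      mul_inv_cancel_right]
  -- killing the part of `Z` on which the rest is trivial
  let Z₁ : Subgroup Q :=
    { carrier := {x | x ∈ Z ∧ x ^ z₁ = 1}
      one_mem' := ⟨Z.one_mem, one_pow _⟩
      mul_mem' := fun {a b} ha hb => ⟨Z.mul_mem ha.1 hb.1, by
        rw [(show Commute a b from hZc a ha.1 b).mul_pow, ha.2, hb.2, one_mul]⟩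
      inv_mem' := fun {a} ha => ⟨Z.inv_mem ha.1, by rw [inv_pow, ha.2, inv_one]⟩ }
  haveI : Z₁.Normal := ⟨fun n hn t => by
    rw [← hZc n hn.1 t, mul_inv_cancel_right]; exact hn⟩
  let mk : Q →* Q ⧸ Z₁ := QuotientGroup.mk' Z₁
  let G' : Subgroup (Q ⧸ Z₁) := QG.map mk
  haveI : G'.Normal := Subgroup.Normal.map ‹QG.Normal› _ (QuotientGroup.mk'_surjective _)
  haveI := Fintype.ofFinite G'
  let f : QG →* G' := mk.subgroupMap QG
  have hf : Function.Surjective f := MonoidHom.subgroupMap_surjective _ _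
  let ZG := Z.subgroupOf QG
  let Z'' : Subgroup G' := ZG.map f
  haveI : Z''.Normal := Subgroup.Normal.map inferInstance _ hf
  haveI := Fintype.ofFinite Z''
  let h : ZG →* Z'' := f.subgroupMap ZG
  have hh : Function.Surjective h := MonoidHom.subgroupMap_surjective _ _
  let iZ : ZG →* Z := (Subgroup.subgroupOfEquivOfLe hZG).toMonoidHom
  let lam₀ : ZG →* ℂˣ := (lam.comp iZ) * (μ.comp ZG.subtype)⁻¹
  have hker : h.ker ≤ lam₀.ker := by
    intro x hx
    rw [MonoidHom.mem_ker] at hx ⊢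
    have hx1 : ((x : QG) : Q) ∈ Z₁ := (QuotientGroup.eq_one_iff _).1
      (congrArg (fun y : Z'' => (((y : G') : Q ⧸ Z₁))) hx)
    show lam (iZ x) * (μ (x : QG))⁻¹ = 1
    rw [mul_inv_eq_one]
    refine congrArg lam (Subtype.ext ?_)
    show ((x : QG) : Q) = (((x : QG) ^ k : QG) : Q)
    rw [SubmonoidClass.coe_pow]
    conv_lhs => rw [← pow_one ((x : QG) : Q)]
    exact (pow_eq_pow_of_modEq hk1 hx1.2).symm
  let l' : Z'' →* ℂˣ :=
    h.liftOfRightInverse (Function.surjInv hh) (Function.rightInverse_surjInv hh) ⟨lam₀, hker⟩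
  have hl' : ∀ x, l' (h x) = lam₀ x := fun x =>
    MonoidHom.liftOfRightInverse_comp_apply _ _ _ ⟨lam₀, hker⟩ x
  have hZ''c : ∀ z ∈ Z'', ∀ g : G', z * g = g * z := by
    rintro _ ⟨x, hx, rfl⟩ g
    obtain ⟨y, rfl⟩ := hf g
    rw [← map_mul, ← map_mul]
    exact congrArg f (Subtype.ext (hZc _ hx y))
  -- coprimality
  have hcopG : (Nat.card G').Coprime m := by
    rw [← Z''.card_mul_index]
    refine Nat.Coprime.mul_left ?_
      (hcop.coprime_dvd_left (Subgroup.index_map_dvd _ hf))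
    rw [Nat.coprime_comm]
    refine Nat.coprime_of_dvd fun p hp hpm hpd => ?_
    haveI := Fact.mk hp
    obtain ⟨y, hy⟩ := exists_prime_orderOf_dvd_card' p hpd
    obtain ⟨x, rfl⟩ := hh y
    have h1 : ((x : QG) : Q) ^ p ∈ Z₁ := by
      have h2 : (h x) ^ p = 1 := hy ▸ pow_orderOf_eq_one _
      rw [← map_pow] at h2
      exact (QuotientGroup.eq_one_iff _).1
        (congrArg (fun w : Z'' => (((w : G') : Q ⧸ Z₁))) h2)
    have h3 : ((x : QG) : Q) ^ z₀ = 1 := by
      rw [hz₀]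
      exact congrArg Subtype.val (pow_card_eq_one' (x := (⟨_, x.2⟩ : Z)))
    have h4 := pow_gcd_eq_one.mpr ⟨(pow_mul ((x : QG) : Q) p z₁).trans h1.2, h3⟩
    have h5 : (p * z₁).gcd z₀ = z₁ := by
      have hd : z₀ = z₁ * (z₀ / z₁) := (Nat.mul_div_cancel' (Nat.gcd_dvd_left _ _)).symm
      have hne : ¬ p ∣ z₀ / z₁ := fun hd => hp.ne_one (Nat.eq_one_of_dvd_coprimes
        (coprime_div_gcd_pow (Nat.card_pos (α := Z)).ne' Subgroup.index_ne_zero_of_finite) hd hpm)
      conv_lhs => rw [hd, mul_comm p, Nat.gcd_mul_left,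
        Nat.Coprime.gcd_eq_one ((hp.coprime_iff_not_dvd).2 hne), mul_one]
    rw [h5] at h4
    have h6 : h x = 1 := Subtype.ext (Subtype.ext ((QuotientGroup.eq_one_iff _).2 ⟨x.2, h4⟩))
    rw [h6, orderOf_one] at hy
    exact hp.ne_one hy.symm
  have hidx : G'.index = m :=
    Subgroup.index_map_eq QG (QuotientGroup.mk'_surjective _) (by
      rw [QuotientGroup.ker_mk']
      exact fun x hx => hZG hx.1)
  -- a complement acts
  obtain ⟨A, hA⟩ := Subgroup.exists_right_complement'_of_coprime (N := G') (hidx.symm ▸ hcopG)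
  haveI : Group.IsSolvable A := by
    haveI := hsolv
    haveI : Group.IsSolvable ((Q ⧸ Z₁) ⧸ G') := Group.isSolvable_of_surjective
      (f := QuotientGroup.map QG G' mk (fun x hx => ⟨x, hx, rfl⟩)) (fun y => by
        obtain ⟨y, rfl⟩ := QuotientGroup.mk_surjective y
        obtain ⟨x, rfl⟩ := QuotientGroup.mk_surjective y
        exact ⟨x, rfl⟩)
    refine Group.isSolvable_of_isSolvable_injective
      (f := (QuotientGroup.mk' G').comp A.subtype) ((injective_iff_map_eq_one _).2 fun a ha => ?_)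
    exact Subtype.ext (Subgroup.mem_bot.1 (hA.disjoint.le_bot
      ⟨(QuotientGroup.eq_one_iff _).1 ha, a.2⟩))
  have hnorm : ∀ a ∈ A, ∀ g ∈ G', a * g * a⁻¹ ∈ G' := fun a _ g hg =>
    ‹G'.Normal›.conj_mem g hg a
  have hcen : ∀ (a : Q ⧸ Z₁) (z : Z''), a * ((z : G') : Q ⧸ Z₁) * a⁻¹ = ((z : G') : Q ⧸ Z₁) := by
    rintro a ⟨_, x, hx, rfl⟩
    obtain ⟨q, rfl⟩ := QuotientGroup.mk_surjective a
    show mk q * mk x * (mk q)⁻¹ = mk x
    rw [← map_inv, ← map_mul, ← map_mul, ← hZc (x : Q) hx q, mul_inv_cancel_right]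
  obtain ⟨χ, hχ⟩ := exists_invariant_above (conjHom G' A hnorm) Z''
    (fun a z hz => by
      have h1 : conjHom G' A hnorm a z = z := Subtype.ext (hcen _ ⟨z, hz⟩)
      rwa [h1])
    ⟨_, isIrrCharacter_unitsHom l'⟩
    (by
      refine Nat.Coprime.symm ?_
      rw [← hA.symm.index_eq_card, hidx]
      exact hcopG)
    (fun a z => congrArg (fun w : Z'' => (l' w : ℂ)) (Subtype.ext (Subtype.ext (hcen _ z))))
  refine ⟨⟨fun x => (μ x : ℂ) * (χ.1 : G' → ℂ) (f x),
    isIrrCharacter_twist μ (IsIrrCharacter.comp_surjective χ.1.2 f hf)⟩, ?_, ?_⟩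
  · intro q x x' hx
    show (μ x' : ℂ) * (χ.1 : G' → ℂ) (f x') = (μ x : ℂ) * (χ.1 : G' → ℂ) (f x)
    rw [hμconj q x x' hx]
    congr 1
    obtain ⟨g, a, hga⟩ : ∃ (g : G') (a : A), (g : Q ⧸ Z₁) * a = mk q := by
      obtain ⟨⟨g, a⟩, hga⟩ := hA.2 (mk q)
      exact ⟨g, a, hga⟩
    refine Eq.trans ?_ ((irr_isClassFunction χ.1 (conjHom G' A hnorm a (f x)) g).trans
      (χ.2 a (f x)))
    refine congrArg (χ.1 : G' → ℂ) (Subtype.ext ?_)
    show mk x' = (g : Q ⧸ Z₁) * ((a : Q ⧸ Z₁) * mk x * (a : Q ⧸ Z₁)⁻¹) * (g : Q ⧸ Z₁)⁻¹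
    rw [hx, map_mul, map_mul, map_inv, ← hga]
    group
  · intro z x
    show (μ (⟨(z : Q), hZG z.2⟩ * x) : ℂ) * (χ.1 : G' → ℂ) (f (⟨(z : Q), hZG z.2⟩ * x)) =
      (lam z : ℂ) * ((μ x : ℂ) * (χ.1 : G' → ℂ) (f x))
    set zg : ZG := ⟨⟨(z : Q), hZG z.2⟩, z.2⟩
    have h2 := apply_mul_central Z'' hZ''c χ.1 l' hχ (h zg) (f x)
    rw [map_mul, Units.val_mul, map_mul,
      show f (⟨(z : Q), hZG z.2⟩ : QG) = ((h zg : Z'') : G') from rfl, h2, hl']
    show (μ _ : ℂ) * (μ x : ℂ) * (((lam (iZ zg) * (μ (zg : QG))⁻¹ : ℂˣ) : ℂ) * _) = _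
    rw [show iZ zg = z from rfl, Units.val_mul, Units.val_inv_eq_inv_val]
    have hne : (μ (zg : QG) : ℂ) ≠ 0 := Units.ne_zero _
    field_simp
    rfl

end Cfsg.Agent.Lib.Glauberman
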