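import Cfsg.Agent.Lib.Glauberman.RelativeInertial

/-!
# Characters of a group with a normal Sylow subgroup under a `p`-group of operators
-/

set_option autoImplicit false
set_option linter.unusedSectionVars false
set_option linter.style.haveILetI false

namespace Cfsg.Agent.Lib.Glauberman

open Cfsg Cfsg.Agent.Lib.Blocks Cfsg.Agent.Lib.Characters
open Cfsg.Agent.Lib.BrauerPairs (transIrr transIrr_apply transIrr_symm)
open scoped ComplexConjugate

universe u v

/-- Clifford's correspondence: uniqueness. -/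
theorem clifford_unique {G : Type u} [Group G] [Fintype G] (N : Subgroup G) [N.Normal] [Fintype N]
    (T : Subgroup G) [Fintype T] (θ : IrrCharacter N) (hT : inertia N (θ : N → ℂ) = T)
    (hNT : N ≤ T) (χ : IrrCharacter G) (ψ : IrrCharacter T)
    (hψ : classInner (fun n : N => (ψ : T → ℂ) ⟨n, hNT n.2⟩) (θ : N → ℂ) ≠ 0)
    (hχψ : classInner (fun t : T => (χ : G → ℂ) t) (ψ : T → ℂ) ≠ 0) :
    indFun T (ψ : T → ℂ) = (χ : G → ℂ) ∧
      classInner (fun n : N => (χ : G → ℂ) n) (θ : N → ℂ) ≠ 0 ∧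
      classInner (fun t : T => (χ : G → ℂ) t) (ψ : T → ℂ) = 1 ∧
      ∀ ψ' : IrrCharacter T,
        classInner (fun n : N => (ψ' : T → ℂ) ⟨n, hNT n.2⟩) (θ : N → ℂ) ≠ 0 → ψ' ≠ ψ →
        classInner (fun t : T => (χ : G → ℂ) t) (ψ' : T → ℂ) = 0 := by
  classical
  haveI := Fintype.ofFinite (IrrCharacter T)
  have hres := IsCharacter.restrict (irr_isCharacter χ) T
  choose m hm using fun φ : IrrCharacter T =>
    IsCharacter.exists_classInner_nat hres (irr_isCharacter φ)
  choose f hf using fun φ : IrrCharacter T =>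
    IsCharacter.exists_classInner_nat
      (IsCharacter.comp (irr_isCharacter φ) (Subgroup.inclusion hNT)) (irr_isCharacter θ)
  have hf' : ∀ φ : IrrCharacter T,
      classInner (fun n : N => (φ : T → ℂ) ⟨n, hNT n.2⟩) (θ : N → ℂ) = f φ := hf
  have hexp : classInner (fun n : N => (χ : G → ℂ) n) (θ : N → ℂ) =
      ((∑ φ, m φ * f φ : ℕ) : ℂ) := by
    have h1 : (fun n : N => (χ : G → ℂ) n) = ∑ φ : IrrCharacter T,
        classInner (fun t : T => (χ : G → ℂ) t) (φ : T → ℂ) •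
          fun n : N => (φ : T → ℂ) ⟨n, hNT n.2⟩ := by
      funext n
      have h := congrFun (eq_sum_classInner (IsCharacter.isClassFunction hres))
        (⟨n, hNT n.2⟩ : T)
      simpa using h
    rw [h1, classInner_sum_left, Nat.cast_sum]
    exact Finset.sum_congr rfl fun φ _ => by rw [classInner_smul_left, hm, hf', Nat.cast_mul]
  have hm0 : m ψ ≠ 0 := fun h => hχψ (by rw [hm, h, Nat.cast_zero])
  have hf0 : f ψ ≠ 0 := fun h => hψ (by rw [hf', h, Nat.cast_zero])
  have hover : classInner (fun n : N => (χ : G → ℂ) n) (θ : N → ℂ) ≠ 0 := by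
    rw [hexp, Nat.cast_ne_zero]
    exact fun h => mul_ne_zero hm0 hf0 (Finset.sum_eq_zero_iff.1 h ψ (Finset.mem_univ ψ))
  obtain ⟨ψ₀, hψ₀, hind, he⟩ := exists_clifford_correspondent N χ.2 θ.2 hover T hT hNT
  set Ψ : IrrCharacter T := ⟨ψ₀, hψ₀⟩ with hΨ
  have hm1 : m Ψ = 1 := by
    have h1 := classInner_indFun T ψ₀ (irr_isClassFunction χ)
    rw [hind, IsIrrCharacter.classInner_self χ.2] at h1
    have h2 : ((m Ψ : ℕ) : ℂ) = 1 := by
      rw [← hm Ψ, ← classInner_conj_symm, show (Ψ : T → ℂ) = ψ₀ from rfl, ← h1, map_one]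
    exact_mod_cast h2
  have hrest : ∀ φ : IrrCharacter T, φ ≠ Ψ → m φ * f φ = 0 := by
    have h1 : f Ψ = ∑ φ, m φ * f φ := by
      have h2 : ((f Ψ : ℕ) : ℂ) = ((∑ φ, m φ * f φ : ℕ) : ℂ) := by
        rw [← hexp, ← hf' Ψ]; exact he
      exact_mod_cast h2
    rw [← Finset.add_sum_erase _ _ (Finset.mem_univ Ψ), hm1, one_mul] at h1
    intro φ hφ
    exact Finset.sum_eq_zero_iff.1 (Nat.add_eq_left.1 h1.symm) φ
      (Finset.mem_erase.2 ⟨hφ, Finset.mem_univ φ⟩)
  obtain rfl : ψ = Ψ := by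
    by_contra hne
    exact mul_ne_zero hm0 hf0 (hrest ψ hne)
  refine ⟨hind, hover, by rw [hm, hm1, Nat.cast_one], fun ψ' hψ' hne => ?_⟩
  rcases mul_eq_zero.1 (hrest ψ' hne) with h | h
  · rw [hm, h, Nat.cast_zero]
  · exact absurd (by rw [hf', h, Nat.cast_zero]) hψ'

/-- An induced function commutes with an automorphism stabilising the subgroup and the function. -/
theorem indFun_apply_aut {G : Type u} [Group G] [Fintype G] (H : Subgroup G) (e : G ≃* G)
    (hH : ∀ x, x ∈ H ↔ e x ∈ H) (f : H → ℂ) (hf : ∀ z z' : H, (z' : G) = e z → f z' = f z)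
    (g : G) : indFun H f (e g) = indFun H f g := by
  rw [indFun_apply, indFun_apply]
  congr 1
  refine (Fintype.sum_equiv e.toEquiv _ _ fun x => ?_).symm
  show extendByZero H f (x⁻¹ * g * x) = extendByZero H f ((e x)⁻¹ * e g * e x)
  rw [← map_inv, ← map_mul, ← map_mul]
  by_cases hx : x⁻¹ * g * x ∈ H
  · rw [extendByZero_of_mem H f hx, extendByZero_of_mem H f ((hH _).1 hx), hf ⟨_, hx⟩ ⟨_, (hH _).1 hx⟩ rfl]
  · rw [extendByZero_of_not_mem H f hx, extendByZero_of_not_mem H f (fun h => hx ((hH _).2 h))]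

variable {A : Type v} [Group A] {K : Type u} [Group K] (φ : A →* MulAut K) (Q : Subgroup K)
  [hQn : Q.Normal] (hQ : ∀ a, ∀ q ∈ Q, φ a q ∈ Q)

theorem inertia_invariant (θ : IrrCharacter Q) (hθA : IsInv (restrictAct φ Q hQ) (θ : Q → ℂ))
    (a : A) (t : K) (ht : t ∈ inertia Q (θ : Q → ℂ)) : φ a t ∈ inertia Q (θ : Q → ℂ) := by
  rw [mem_inertia_iff] at ht ⊢
  funext x
  obtain ⟨y, rfl⟩ := (restrictAct φ Q hQ a).surjective x
  rw [hθA a y]
  refine Eq.trans ?_ (((hθA a ⟨t * y * t⁻¹, hQn.conj_mem y y.2 t⟩)).trans (congrFun ht y))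
  refine congrArg (θ : Q → ℂ) (Subtype.ext ?_)
  show φ a t * φ a y * (φ a t)⁻¹ = φ a (t * y * t⁻¹)
  rw [map_mul, map_mul, map_inv]

variable [Finite A] [Fintype K] [Fintype Q] {p : ℕ} [hp : Fact p.Prime] (hA : IsPGroup p A)
  (hQp : IsPGroup p Q) (hidx : ¬ p ∣ Q.index)

include hA hidx hQ in
/-- An invariant character has an invariant constituent on `Q`. -/
theorem exists_fixed_constituent (χ : IrrCharacter K) (hχ : IsInv φ (χ : K → ℂ)) :
    ∃ θ : IrrCharacter Q, IsInv (restrictAct φ Q hQ) (θ : Q → ℂ) ∧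
      classInner (fun n : Q => (χ : K → ℂ) n) (θ : Q → ℂ) ≠ 0 := by
  classical
  obtain ⟨θ₀, hθ₀⟩ := exists_constituent_restrict Q χ
  let X := {θ : IrrCharacter Q // classInner (fun n : Q => (χ : K → ℂ) n) (θ : Q → ℂ) ≠ 0}
  have hmove : ∀ (a : A) (θ : IrrCharacter Q),
      classInner (fun n : Q => (χ : K → ℂ) n) (transIrr (restrictAct φ Q hQ a) θ : Q → ℂ) =
        classInner (fun n : Q => (χ : K → ℂ) n) (θ : Q → ℂ) := fun a θ => by
    rw [classInner, classInner]
    congr 1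
    refine (Fintype.sum_equiv (restrictAct φ Q hQ a).toEquiv _ _ fun n => ?_).symm
    show (χ : K → ℂ) n * conj ((θ : Q → ℂ) n) = (χ : K → ℂ) ((restrictAct φ Q hQ a n : Q) : K) *
      conj ((transIrr (restrictAct φ Q hQ a) θ : Q → ℂ) (restrictAct φ Q hQ a n))
    rw [transIrr_apply, restrictAct_apply, hχ a (n : K)]
  letI : MulAction A X :=
    { smul := fun a θ => ⟨transIrr (restrictAct φ Q hQ a) θ.1, by rw [hmove]; exact θ.2⟩
      one_smul := fun θ => Subtype.ext (Subtype.ext (funext fun g => by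
        show (θ.1 : Q → ℂ) ((restrictAct φ Q hQ 1).symm g) = _
        rw [map_one]; rfl))
      mul_smul := fun a b θ => Subtype.ext (Subtype.ext (funext fun g => by
        show (θ.1 : Q → ℂ) ((restrictAct φ Q hQ (a * b)).symm g) =
          (θ.1 : Q → ℂ) ((restrictAct φ Q hQ b).symm ((restrictAct φ Q hQ a).symm g))
        rw [map_mul]; rfl)) }
  have hcard : Nat.card X = (inertia Q (θ₀ : Q → ℂ)).index := by
    rw [← card_conjugates]
    refine Nat.card_congr (Equiv.ofBijective (fun θ : X => (⟨(θ.1 : Q → ℂ), ?_⟩ :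
      Set.range fun g : K => conjFun Q g (θ₀ : Q → ℂ))) ⟨fun a b h => ?_, ?_⟩)
    · exact exists_conjFun_eq Q χ.2 θ₀.2 θ.1.2 hθ₀ θ.2
    · exact Subtype.ext (Subtype.ext (congrArg (fun z : Set.range fun g : K =>
        conjFun Q g (θ₀ : Q → ℂ) => z.1) h))
    · rintro ⟨_, g, rfl⟩
      refine ⟨⟨⟨_, IsIrrCharacter.conjFun Q θ₀.2 g⟩, ?_⟩, rfl⟩
      show classInner _ (conjFun Q g (θ₀ : Q → ℂ)) ≠ 0
      rw [classInner_restrict_conjFun Q (irr_isClassFunction χ)]
      exact hθ₀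
  obtain ⟨θ, hθ⟩ := exists_fixed_of_card hA X (by
    rw [hcard]
    exact fun hd => hidx (hd.trans (Subgroup.index_dvd_of_le
      (le_inertia Q (irr_isClassFunction θ₀)))))
  exact ⟨θ.1, fun a n =>
    (transIrr_eq_self_iff (restrictAct φ Q hQ a) θ.1).1 (congrArg Subtype.val (hθ a)) n, θ.2⟩

include hA hidx in
/-- Fixed conjugate characters of `Q` are conjugate by an element fixed modulo `Q`. -/
theorem exists_preFixed_conj (θ θ' : IrrCharacter Q)
    (hθ : IsInv (restrictAct φ Q hQ) (θ : Q → ℂ)) (hθ' : IsInv (restrictAct φ Q hQ) (θ' : Q → ℂ))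
    {g : K} (hg : conjFun Q g (θ : Q → ℂ) = (θ' : Q → ℂ)) :
    ∃ c ∈ preFixed φ Q hQ, conjFun Q c (θ : Q → ℂ) = (θ' : Q → ℂ) := by
  classical
  set T := inertia Q (θ : Q → ℂ) with hT
  have hQT : Q ≤ T := le_inertia Q (irr_isClassFunction θ)
  have hiff : ∀ k : K, conjFun Q k (θ : Q → ℂ) = (θ' : Q → ℂ) ↔
      (k : K ⧸ Q) * (g : K ⧸ Q)⁻¹ ∈ T.map (QuotientGroup.mk' Q) := by
    intro k
    rw [← hg, conjFun_eq_iff]
    rw [show (k : K ⧸ Q) * (g : K ⧸ Q)⁻¹ = QuotientGroup.mk' Q (k * g⁻¹) by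
      rw [map_mul, map_inv]; rfl]
    have hcm : QuotientGroup.mk' Q (k * g⁻¹) ∈ T.map (QuotientGroup.mk' Q) ↔ k * g⁻¹ ∈ T := by
      rw [← Subgroup.mem_comap, Subgroup.comap_map_eq, QuotientGroup.ker_mk', sup_eq_left.2 hQT]
    rw [hcm, hT]
  let X := {x : K ⧸ Q // x * (g : K ⧸ Q)⁻¹ ∈ T.map (QuotientGroup.mk' Q)}
  have hstep : ∀ (a : A) (x : X),
      quotAct φ Q hQ a x.1 * (g : K ⧸ Q)⁻¹ ∈ T.map (QuotientGroup.mk' Q) := by
    rintro a ⟨x, hx⟩
    obtain ⟨k, rfl⟩ := QuotientGroup.mk_surjective x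
    show quotAct φ Q hQ a (k : K ⧸ Q) * _ ∈ _
    rw [quotAct_mk, ← hiff]
    have hk := (hiff k).2 hx
    funext n
    obtain ⟨m, rfl⟩ := (restrictAct φ Q hQ a).surjective n
    rw [hθ' a m, ← congrFun hk m]
    refine Eq.trans (congrArg (θ : Q → ℂ) (Subtype.ext ?_))
      (hθ a ⟨k * m * k⁻¹, hQn.conj_mem m m.2 k⟩)
    show φ a k * φ a m * (φ a k)⁻¹ = φ a (k * m * k⁻¹)
    rw [map_mul, map_mul, map_inv]
  letI : MulAction A X :=
    { smul := fun a x => ⟨quotAct φ Q hQ a x.1, hstep a x⟩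
      one_smul := fun x => Subtype.ext (by
        show quotAct φ Q hQ 1 x.1 = x.1
        rw [map_one]; rfl)
      mul_smul := fun a b x => Subtype.ext (by
        show quotAct φ Q hQ (a * b) x.1 = quotAct φ Q hQ a (quotAct φ Q hQ b x.1)
        rw [map_mul]; rfl) }
  obtain ⟨⟨x, hx⟩, hfix⟩ := exists_fixed_of_card hA X (by
    rw [show Nat.card X = Nat.card (T.map (QuotientGroup.mk' Q)) from
      Nat.card_congr (Equiv.subtypeEquiv (Equiv.mulRight (g : K ⧸ Q)⁻¹) fun y => Iff.rfl)]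
    exact fun hd => hidx (hd.trans (by
      rw [Subgroup.index_eq_card]
      exact Subgroup.card_subgroup_dvd_card _)))
  obtain ⟨c, rfl⟩ := QuotientGroup.mk_surjective x
  exact ⟨c, fun a => congrArg Subtype.val (hfix a), (hiff c).2 hx⟩

/-- The inertia group of `θ` among the elements fixed modulo `Q`. -/
def inertiaFixedEquiv (T : Subgroup K) (hT : ∀ a, ∀ t ∈ T, φ a t ∈ T)
    (hQT : ∀ a, ∀ q ∈ Q.subgroupOf T, restrictAct φ T hT a q ∈ Q.subgroupOf T) :
    T.subgroupOf (preFixed φ Q hQ) ≃*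
      preFixed (restrictAct φ T hT) (Q.subgroupOf T) hQT where
  toFun x := ⟨⟨((x : preFixed φ Q hQ) : K), x.2⟩,
    (mem_preFixed _ _ _).2 fun a => (mem_preFixed φ Q hQ).1 (x : preFixed φ Q hQ).2 a⟩
  invFun y := ⟨⟨((y : T) : K),
    (mem_preFixed φ Q hQ).2 fun a => (mem_preFixed _ _ _).1 y.2 a⟩, (y : T).2⟩
  left_inv _ := rfl
  right_inv _ := rfl
  map_mul' _ _ := rfl

include hA hQp hidx in
/-- The correspondence over one fixed character of `Q`. -/
theorem local_correspondence [Fintype (preFixed φ Q hQ)] (θ : IrrCharacter Q)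
    (hθA : IsInv (restrictAct φ Q hQ) (θ : Q → ℂ)) :
    ∃ F : IrrCharacter (preFixed φ Q hQ) → IrrCharacter K,
      (∀ ξ : IrrCharacter (preFixed φ Q hQ),
        classInner (fun n : Q => (ξ : preFixed φ Q hQ → ℂ) ⟨n, le_preFixed φ Q hQ n.2⟩)
          (θ : Q → ℂ) ≠ 0 →
        IsInv (restrictAct φ (preFixed φ Q hQ) (map_preFixed_mem φ Q hQ))
          (ξ : preFixed φ Q hQ → ℂ) ∧
        IsInv φ (F ξ : K → ℂ) ∧
        classInner (fun n : Q => (F ξ : K → ℂ) n) (θ : Q → ℂ) ≠ 0 ∧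
        ∃ m : ℕ, classInner (fun d : preFixed φ Q hQ => (F ξ : K → ℂ) d)
            (ξ : preFixed φ Q hQ → ℂ) = (m : ℂ) ∧
          ((m : ZMod p) = 1 ∨ (m : ZMod p) = -1) ∧
          (charDegree (F ξ : K → ℂ) : ZMod p) * (m : ZMod p) =
            (charDegree (ξ : preFixed φ Q hQ → ℂ) : ZMod p)) ∧
      ∀ χ : IrrCharacter K, IsInv φ (χ : K → ℂ) →
        classInner (fun n : Q => (χ : K → ℂ) n) (θ : Q → ℂ) ≠ 0 →
        ∃ ξ : IrrCharacter (preFixed φ Q hQ),
          classInner (fun n : Q => (ξ : preFixed φ Q hQ → ℂ) ⟨n, le_preFixed φ Q hQ n.2⟩)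
            (θ : Q → ℂ) ≠ 0 ∧ F ξ = χ ∧
          ∀ ξ' : IrrCharacter (preFixed φ Q hQ),
            classInner (fun n : Q => (ξ' : preFixed φ Q hQ → ℂ) ⟨n, le_preFixed φ Q hQ n.2⟩)
              (θ : Q → ℂ) ≠ 0 → ξ' ≠ ξ →
            ∃ m : ℕ, classInner (fun d : preFixed φ Q hQ => (χ : K → ℂ) d)
              (ξ' : preFixed φ Q hQ → ℂ) = (m : ℂ) ∧ p ∣ m := by
  classical
  let T : Subgroup K := inertia Q (θ : Q → ℂ)
  have hQT : Q ≤ T := le_inertia Q (irr_isClassFunction θ)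
  have hT : ∀ a, ∀ t ∈ T, φ a t ∈ T := inertia_invariant φ Q hQ θ hθA
  haveI := Fintype.ofFinite T
  have hQT' : ∀ a, ∀ q ∈ Q.subgroupOf T, restrictAct φ T hT a q ∈ Q.subgroupOf T :=
    fun a q hq => hQ a q hq
  haveI := Fintype.ofFinite (Q.subgroupOf T)
  haveI : Fintype (preFixed (restrictAct φ T hT) (Q.subgroupOf T) hQT') := Fintype.ofFinite _
  let i : Q.subgroupOf T ≃* Q := Subgroup.subgroupOfEquivOfLe hQT
  let θT : IrrCharacter (Q.subgroupOf T) := transIrr i.symm θ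
  have hθTinv : ∀ g : T, conjFun (Q.subgroupOf T) g (θT : Q.subgroupOf T → ℂ) =
      (θT : Q.subgroupOf T → ℂ) := fun g => funext fun x => congrFun ((mem_inertia_iff Q).1 g.2) (i x)
  have hθTA : IsInv (restrictAct (restrictAct φ T hT) (Q.subgroupOf T) hQT')
      (θT : Q.subgroupOf T → ℂ) := fun a x => hθA a (i x)
  have hidxT : ¬ p ∣ (Q.subgroupOf T).index := fun hd =>
    hidx (hd.trans (Subgroup.relIndex_dvd_index_of_normal Q T))
  obtain ⟨F₀, hF₀, hB₀⟩ := inertial_correspondence (restrictAct φ T hT) (Q.subgroupOf T) hQT' hA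
    (IsPGroup.of_equiv hQp i.symm) hidxT θT hθTinv hθTA
  -- the side of the fixed elements
  have hQC : Q ≤ (preFixed φ Q hQ) := le_preFixed φ Q hQ
  haveI := Fintype.ofFinite (Q.subgroupOf (preFixed φ Q hQ))
  haveI := Fintype.ofFinite (T.subgroupOf (preFixed φ Q hQ))
  let iC : Q.subgroupOf (preFixed φ Q hQ) ≃* Q := Subgroup.subgroupOfEquivOfLe hQC
  let θC : IrrCharacter (Q.subgroupOf (preFixed φ Q hQ)) := transIrr iC.symm θ
  have hTC : inertia (Q.subgroupOf (preFixed φ Q hQ)) (θC : Q.subgroupOf (preFixed φ Q hQ) → ℂ) = T.subgroupOf (preFixed φ Q hQ) := by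
    ext c
    constructor
    · intro h
      refine (mem_inertia_iff Q).2 (funext fun n => ?_)
      exact congrFun ((mem_inertia_iff (Q.subgroupOf (preFixed φ Q hQ))).1 h) (iC.symm n)
    · intro h
      refine (mem_inertia_iff (Q.subgroupOf (preFixed φ Q hQ))).2 (funext fun x => ?_)
      exact congrFun ((mem_inertia_iff Q).1 h) (iC x)
  have hQTC : Q.subgroupOf (preFixed φ Q hQ) ≤ T.subgroupOf (preFixed φ Q hQ) := fun x hx => hQT hx
  let j := inertiaFixedEquiv φ Q hQ T hT hQT'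
  let DT := preFixed (restrictAct φ T hT) (Q.subgroupOf T) hQT'
  have hQDT : Q.subgroupOf T ≤ DT := le_preFixed _ _ _
  -- translation of the conditions over `θ`
  have overC : ∀ f : (preFixed φ Q hQ) → ℂ,
      classInner (fun x : Q.subgroupOf (preFixed φ Q hQ) => f x) (θC : Q.subgroupOf (preFixed φ Q hQ) → ℂ) =
        classInner (fun n : Q => f ⟨n, hQC n.2⟩) (θ : Q → ℂ) :=
    fun f => classInner_subgroupOf Q (preFixed φ Q hQ) hQC f (θ : Q → ℂ)
  have overT : ∀ f : T → ℂ,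
      classInner (fun x : Q.subgroupOf T => f x) (θT : Q.subgroupOf T → ℂ) =
        classInner (fun n : Q => f ⟨n, hQT n.2⟩) (θ : Q → ℂ) :=
    fun f => classInner_subgroupOf Q T hQT f (θ : Q → ℂ)
  have overD : ∀ η : IrrCharacter (T.subgroupOf (preFixed φ Q hQ)),
      classInner (fun x : Q.subgroupOf T => (transIrr j η : DT → ℂ) ⟨x, hQDT x.2⟩)
          (θT : Q.subgroupOf T → ℂ) =
        classInner (fun x : Q.subgroupOf (preFixed φ Q hQ) => (η : T.subgroupOf (preFixed φ Q hQ) → ℂ) ⟨x, hQTC x.2⟩)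
          (θC : Q.subgroupOf (preFixed φ Q hQ) → ℂ) := by
    intro η
    rw [classInner, classInner, Nat.card_congr (i.trans iC.symm).toEquiv]
    congr 1
    refine Fintype.sum_equiv (i.trans iC.symm).toEquiv _ _ fun x => ?_
    show (transIrr j η : DT → ℂ) ⟨x, hQDT x.2⟩ * _ = _
    rw [show (⟨(x : T), hQDT x.2⟩ : DT) =
        j ⟨(iC.symm (i x) : (preFixed φ Q hQ)), hQTC (iC.symm (i x)).2⟩ from rfl, transIrr_apply]
    rfl
  -- correspondents
  have hcorr : ∀ ξ : IrrCharacter (preFixed φ Q hQ),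
      classInner (fun n : Q => (ξ : (preFixed φ Q hQ) → ℂ) ⟨n, hQC n.2⟩) (θ : Q → ℂ) ≠ 0 →
      ∃ η : IrrCharacter (T.subgroupOf (preFixed φ Q hQ)), indFun (T.subgroupOf (preFixed φ Q hQ)) (η : T.subgroupOf (preFixed φ Q hQ) → ℂ) =
          (ξ : (preFixed φ Q hQ) → ℂ) ∧
        classInner (fun x : Q.subgroupOf T => (transIrr j η : DT → ℂ) ⟨x, hQDT x.2⟩)
          (θT : Q.subgroupOf T → ℂ) ≠ 0 := by
    intro ξ hξ
    obtain ⟨η, hη, hind, he⟩ := exists_clifford_correspondent (Q.subgroupOf (preFixed φ Q hQ)) ξ.2 θC.2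
      (by rw [overC]; exact hξ) (T.subgroupOf (preFixed φ Q hQ)) hTC hQTC
    refine ⟨⟨η, hη⟩, hind, ?_⟩
    rw [overD]
    show classInner (fun x : Q.subgroupOf (preFixed φ Q hQ) => η ⟨x, hQTC x.2⟩) _ ≠ 0
    rw [he, overC]
    exact hξ
  have hindK : ∀ ψ : IrrCharacter T,
      classInner (fun n : Q => (ψ : T → ℂ) ⟨n, hQT n.2⟩) (θ : Q → ℂ) ≠ 0 →
      ∃ χ : IrrCharacter K, indFun T (ψ : T → ℂ) = (χ : K → ℂ) ∧
        classInner (fun t : T => (χ : K → ℂ) t) (ψ : T → ℂ) ≠ 0 := by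
    intro ψ hψ
    obtain ⟨χ, hχ⟩ := IsCharacter.exists_constituent (IsCharacter.indFun T (irr_isCharacter ψ))
      fun h => by
        have h1 := congrFun h 1
        rw [indFun_one, Pi.zero_apply, mul_eq_zero] at h1
        exact h1.elim (Nat.cast_ne_zero.2 T.index_ne_zero_of_finite)
          (IsIrrCharacter.apply_one_ne_zero ψ.2)
    have hχψ : classInner (fun t : T => (χ : K → ℂ) t) (ψ : T → ℂ) ≠ 0 := fun h => hχ (by
      rw [classInner_indFun T _ (irr_isClassFunction χ), ← classInner_conj_symm, h, map_zero])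
    exact ⟨χ, (clifford_unique Q T θ rfl hQT χ ψ hψ hχψ).1, hχψ⟩
  -- the multiplicity
  have hkey : ∀ (χ : IrrCharacter K) (ξ : IrrCharacter (preFixed φ Q hQ)) (ψ : IrrCharacter T)
      (η : IrrCharacter (T.subgroupOf (preFixed φ Q hQ))),
      classInner (fun n : Q => (ψ : T → ℂ) ⟨n, hQT n.2⟩) (θ : Q → ℂ) ≠ 0 →
      classInner (fun t : T => (χ : K → ℂ) t) (ψ : T → ℂ) ≠ 0 →
      indFun (T.subgroupOf (preFixed φ Q hQ)) (η : T.subgroupOf (preFixed φ Q hQ) → ℂ) = (ξ : (preFixed φ Q hQ) → ℂ) →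
      classInner (fun x : Q.subgroupOf T => (transIrr j η : DT → ℂ) ⟨x, hQDT x.2⟩)
          (θT : Q.subgroupOf T → ℂ) ≠ 0 →
      classInner (fun d : (preFixed φ Q hQ) => (χ : K → ℂ) d) (ξ : (preFixed φ Q hQ) → ℂ) =
        classInner (fun d : DT => (ψ : T → ℂ) d) (transIrr j η : DT → ℂ) := by
    intro χ ξ ψ η hψ hχψ hξ hη
    obtain ⟨-, -, h1, h0⟩ := clifford_unique Q T θ rfl hQT χ ψ hψ hχψ
    rw [← hξ, classInner_indFun_right (T.subgroupOf (preFixed φ Q hQ)) _
      (IsCharacter.isClassFunction (IsCharacter.restrict (irr_isCharacter χ) (preFixed φ Q hQ)))]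
    have e1 : classInner (fun x : T.subgroupOf (preFixed φ Q hQ) => (χ : K → ℂ) (x : (preFixed φ Q hQ)))
        (η : T.subgroupOf (preFixed φ Q hQ) → ℂ) =
        classInner (fun d : DT => (χ : K → ℂ) (d : T)) (transIrr j η : DT → ℂ) := by
      rw [classInner, classInner, Nat.card_congr j.toEquiv]
      congr 1
      refine Fintype.sum_equiv j.toEquiv _ _ fun x => ?_
      show _ = (χ : K → ℂ) ((j x : DT) : T) * conj ((transIrr j η : DT → ℂ) (j x))
      rw [transIrr_apply]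
      rfl
    refine e1.trans ?_
    haveI := Fintype.ofFinite (IrrCharacter T)
    rw [classInner_sub_eq_sum DT (f := fun t : T => (χ : K → ℂ) t)
      (IsCharacter.isClassFunction (IsCharacter.restrict (irr_isCharacter χ) T))]
    rw [Finset.sum_eq_single ψ]
    · rw [h1, one_mul]
    · intro ψ' _ hne
      by_cases hψ' : classInner (fun d : DT => (ψ' : T → ℂ) d) (transIrr j η : DT → ℂ) = 0
      · rw [hψ', mul_zero]
      rw [h0 ψ' ?_ hne, zero_mul]
      haveI := Fintype.ofFinite ((Q.subgroupOf T).subgroupOf DT)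
      rw [← overT]
      have h2 := classInner_ne_zero_trans ((Q.subgroupOf T).subgroupOf DT)
        (IsCharacter.restrict (irr_isCharacter ψ') DT) (transIrr j η)
        (θ := fun x : (Q.subgroupOf T).subgroupOf DT =>
          (θT : Q.subgroupOf T → ℂ) (Subgroup.subgroupOfEquivOfLe hQDT x))
        (IsCharacter.comp (irr_isCharacter θT) (Subgroup.subgroupOfEquivOfLe hQDT).toMonoidHom)
        hψ' (by rw [classInner_subgroupOf (Q.subgroupOf T) DT hQDT]; exact hη)
      rw [classInner_subgroupOf (Q.subgroupOf T) DT hQDT (fun d : DT => (ψ' : T → ℂ) d)] at h2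
      exact h2
    · exact fun h => absurd (Finset.mem_univ ψ) h
  have hidxC : ((T.subgroupOf (preFixed φ Q hQ)).index : ZMod p) = (T.index : ZMod p) := by
    haveI := Fintype.ofFinite (K ⧸ Q)
    obtain ⟨M, hM⟩ := exists_isPModular hp.out
    haveI := hM.2.1.isPrime
    have hcK := card_congr_fixed (quotAct φ Q hQ) (M := M) hM hA
    haveI : Fintype (T ⧸ Q.subgroupOf T) := Fintype.ofFinite _
    have hcT := card_congr_fixed (quotAct (restrictAct φ T hT) (Q.subgroupOf T) hQT') (M := M) hM hA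
    have cast : ∀ a b : ℕ, MemLocalIdeal M ((a : ℂ) - (b : ℂ)) → (a : ZMod p) = (b : ZMod p) := by
      intro a b h
      have h' : MemLocalIdeal M (((a : ℤ) - (b : ℤ) : ℤ) : ℂ) := by push_cast; exact h
      rw [memLocalIdeal_intCast_iff hM, ← ZMod.intCast_zmod_eq_zero_iff_dvd] at h'
      push_cast at h'
      exact sub_eq_zero.1 h'
    have fixK : Nat.card (fixedSub (quotAct φ Q hQ)) = (Q.subgroupOf (preFixed φ Q hQ)).index := by
      have hker : Q.subgroupOf (preFixed φ Q hQ) = (preFixedProj φ Q hQ).ker := by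
        ext x
        show ((x : K) ∈ Q) ↔ preFixedProj φ Q hQ x = 1
        rw [← QuotientGroup.eq_one_iff, Subtype.ext_iff]
        rfl
      rw [hker, Subgroup.index_ker, MonoidHom.range_eq_top.2 (preFixedProj_surjective φ Q hQ)]
      exact (Nat.card_congr (Subgroup.topEquiv).toEquiv).symm
    have fixT : Nat.card (fixedSub (quotAct (restrictAct φ T hT) (Q.subgroupOf T) hQT')) =
        ((Q.subgroupOf (preFixed φ Q hQ)).subgroupOf (T.subgroupOf (preFixed φ Q hQ))).index := by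
      let g := (preFixedProj (restrictAct φ T hT) (Q.subgroupOf T) hQT').comp j.toMonoidHom
      have hker : (Q.subgroupOf (preFixed φ Q hQ)).subgroupOf (T.subgroupOf (preFixed φ Q hQ)) = g.ker := by
        ext x
        show (((x : (preFixed φ Q hQ)) : K) ∈ Q) ↔ preFixedProj (restrictAct φ T hT) (Q.subgroupOf T) hQT' (j x) = 1
        rw [Subtype.ext_iff]
        exact (QuotientGroup.eq_one_iff (N := Q.subgroupOf T) ((j x : DT) : T)).symm
      rw [hker, Subgroup.index_ker, (MonoidHom.range_eq_top (f := g)).2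
        ((preFixedProj_surjective (restrictAct φ T hT) (Q.subgroupOf T) hQT').comp (g := preFixedProj
          (restrictAct φ T hT) (Q.subgroupOf T) hQT') (f := j) j.surjective)]
      exact (Nat.card_congr (Subgroup.topEquiv).toEquiv).symm
    have eK := cast _ _ hcK
    have eT := cast _ _ hcT
    rw [← Subgroup.index_eq_card, fixK] at eK
    rw [← Subgroup.index_eq_card, fixT] at eT
    have e1 : ((Q.subgroupOf (preFixed φ Q hQ)).subgroupOf (T.subgroupOf (preFixed φ Q hQ))).index * (T.subgroupOf (preFixed φ Q hQ)).index =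
        (Q.subgroupOf (preFixed φ Q hQ)).index := Subgroup.relIndex_mul_index hQTC
    have e2 : (Q.subgroupOf T).index * T.index = Q.index := Subgroup.relIndex_mul_index hQT
    rw [← e1, ← e2, Nat.cast_mul, Nat.cast_mul, ← eT] at eK
    refine (mul_left_cancel₀ ?_ eK).symm
    rw [eT, Ne, ZMod.natCast_eq_zero_iff]
    intro hd
    exact hidxT (by rw [← ZMod.natCast_eq_zero_iff, eT, ZMod.natCast_eq_zero_iff]; exact hd)
  let ηf : IrrCharacter (preFixed φ Q hQ) → IrrCharacter DT := fun ξ =>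
    if h : classInner (fun n : Q => (ξ : (preFixed φ Q hQ) → ℂ) ⟨n, hQC n.2⟩) (θ : Q → ℂ) ≠ 0 then
      transIrr j (hcorr ξ h).choose else ⟨_, isIrrCharacter_one⟩
  let F : IrrCharacter (preFixed φ Q hQ) → IrrCharacter K := fun ξ =>
    if h : classInner (fun n : Q => (F₀ (ηf ξ) : T → ℂ) ⟨n, hQT n.2⟩) (θ : Q → ℂ) ≠ 0 then
      (hindK (F₀ (ηf ξ)) h).choose else ⟨_, isIrrCharacter_one⟩
  have hFspec : ∀ ξ : IrrCharacter (preFixed φ Q hQ),
      classInner (fun n : Q => (ξ : (preFixed φ Q hQ) → ℂ) ⟨n, hQC n.2⟩) (θ : Q → ℂ) ≠ 0 →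
      ∃ η : IrrCharacter (T.subgroupOf (preFixed φ Q hQ)),
        indFun (T.subgroupOf (preFixed φ Q hQ)) (η : T.subgroupOf (preFixed φ Q hQ) → ℂ) = (ξ : (preFixed φ Q hQ) → ℂ) ∧
        classInner (fun x : Q.subgroupOf T => (transIrr j η : DT → ℂ) ⟨x, hQDT x.2⟩)
          (θT : Q.subgroupOf T → ℂ) ≠ 0 ∧
        classInner (fun n : Q => (F₀ (transIrr j η) : T → ℂ) ⟨n, hQT n.2⟩) (θ : Q → ℂ) ≠ 0 ∧
        indFun T (F₀ (transIrr j η) : T → ℂ) = (F ξ : K → ℂ) ∧
        classInner (fun t : T => (F ξ : K → ℂ) t) (F₀ (transIrr j η) : T → ℂ) ≠ 0 := by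
    intro ξ hξ
    obtain ⟨h1, h2⟩ := (hcorr ξ hξ).choose_spec
    have h3 : classInner (fun n : Q => (F₀ (ηf ξ) : T → ℂ) ⟨n, hQT n.2⟩) (θ : Q → ℂ) ≠ 0 := by
      rw [← overT]
      simp only [ηf, dif_pos hξ]
      exact (hF₀ _ h2).2.2.1
    have h4 := (hindK _ h3).choose_spec
    have h5 : F ξ = (hindK _ h3).choose := by simp only [F, dif_pos h3]
    have h6 : ηf ξ = transIrr j (hcorr ξ hξ).choose := by simp only [ηf, dif_pos hξ]
    refine ⟨_, h1, h2, h6 ▸ h3, ?_, ?_⟩
    · rw [← h6, h5]; exact h4.1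
    · rw [← h6, h5]; exact h4.2
  refine ⟨F, fun ξ hξ => ?_, fun χ hχ hover => ?_⟩
  · obtain ⟨η, hind, hη, hψ, hindψ, hχψ⟩ := hFspec ξ hξ
    obtain ⟨hηA, hψA, -, m, hm, hm1, hdeg⟩ := hF₀ _ hη
    refine ⟨?_, ?_, (clifford_unique Q T θ rfl hQT _ _ hψ hχψ).2.1, m,
      (hkey _ ξ _ η hψ hχψ hind hη).trans hm, hm1, ?_⟩
    · intro a
      refine (transIrr_eq_self_iff (restrictAct φ (preFixed φ Q hQ) (map_preFixed_mem φ Q hQ) a) ξ).1 ?_
      refine Subtype.ext (funext fun x => ?_)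
      show (ξ : (preFixed φ Q hQ) → ℂ) ((restrictAct φ (preFixed φ Q hQ) (map_preFixed_mem φ Q hQ) a).symm x) = (ξ : (preFixed φ Q hQ) → ℂ) x
      rw [← hind]
      obtain ⟨y, rfl⟩ := (restrictAct φ (preFixed φ Q hQ) (map_preFixed_mem φ Q hQ) a).surjective x
      rw [MulEquiv.symm_apply_apply]
      exact (indFun_apply_aut (T.subgroupOf (preFixed φ Q hQ)) (restrictAct φ (preFixed φ Q hQ) (map_preFixed_mem φ Q hQ) a)
        (fun z => ⟨fun hz => hT a _ hz, fun hz => by
          have := hT a⁻¹ _ hz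
          have h2 : φ a⁻¹ (φ a (z : K)) = (z : K) := by
            rw [map_inv]; exact (φ a).symm_apply_apply _
          show (z : K) ∈ T
          rw [← h2]; exact this⟩) (η : T.subgroupOf (preFixed φ Q hQ) → ℂ)
        (fun z z' hz => by
          have h1 : j z' = restrictAct (restrictAct φ T hT) DT
              (map_preFixed_mem _ _ _) a (j z) :=
            Subtype.ext (Subtype.ext (congrArg Subtype.val hz :))
          rw [← transIrr_apply j η z', ← transIrr_apply j η z, h1]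
          exact hηA a (j z)) y).symm
    · intro a x
      rw [← hindψ]
      exact indFun_apply_aut T (φ a) (fun z => ⟨fun hz => hT a z hz, fun hz => by
          have := hT a⁻¹ _ hz
          rwa [show φ a⁻¹ (φ a z) = z by rw [map_inv]; exact (φ a).symm_apply_apply _] at this⟩)
        (F₀ (transIrr j η) : T → ℂ) (fun z z' hz => by
          rw [show z' = restrictAct φ T hT a z from Subtype.ext hz]
          exact hψA a z) x
    · have hdK : charDegree (F ξ : K → ℂ) =
          T.index * charDegree (F₀ (transIrr j η) : T → ℂ) := by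
        have h1 := congrFun hindψ 1
        rw [indFun_one, ← charDegree_eq, ← charDegree_eq] at h1
        exact_mod_cast h1.symm
      have hdC : charDegree (ξ : (preFixed φ Q hQ) → ℂ) =
          (T.subgroupOf (preFixed φ Q hQ)).index * charDegree (transIrr j η : DT → ℂ) := by
        have h1 := congrFun hind 1
        rw [indFun_one, show (η : T.subgroupOf (preFixed φ Q hQ) → ℂ) 1 = (transIrr j η : DT → ℂ) 1 by
          simpa using (transIrr_apply j η 1).symm, ← charDegree_eq, ← charDegree_eq] at h1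
        exact_mod_cast h1.symm
      rw [hdK, hdC, Nat.cast_mul, Nat.cast_mul, hidxC, mul_assoc, hdeg]
  · obtain ⟨ψ₀, hψ₀, hind, he⟩ := exists_clifford_correspondent Q χ.2 θ.2 hover T rfl hQT
    set ψ : IrrCharacter T := ⟨ψ₀, hψ₀⟩
    have hψ : classInner (fun n : Q => (ψ : T → ℂ) ⟨n, hQT n.2⟩) (θ : Q → ℂ) ≠ 0 :=
      fun h => hover (he.symm.trans h)
    have hχψ : classInner (fun t : T => (χ : K → ℂ) t) (ψ : T → ℂ) ≠ 0 := by
      intro h
      have h1 := classInner_indFun T ψ₀ (irr_isClassFunction χ)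
      rw [hind, IsIrrCharacter.classInner_self χ.2, ← classInner_conj_symm,
        show classInner (fun t : T => (χ : K → ℂ) t) ψ₀ = 0 from h, map_zero] at h1
      exact one_ne_zero h1
    have hψA : IsInv (restrictAct φ T hT) (ψ : T → ℂ) := by
      intro a
      refine (transIrr_eq_self_iff (restrictAct φ T hT a) ψ).1 ?_
      by_contra hne
      refine hχψ ?_
      have hmove : classInner (fun t : T => (χ : K → ℂ) t)
          (transIrr (restrictAct φ T hT a) ψ : T → ℂ) =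
          classInner (fun t : T => (χ : K → ℂ) t) (ψ : T → ℂ) := by
        rw [classInner, classInner]
        congr 1
        refine (Fintype.sum_equiv (restrictAct φ T hT a).toEquiv _ _ fun t => ?_).symm
        show (χ : K → ℂ) t * conj ((ψ : T → ℂ) t) =
          (χ : K → ℂ) ((restrictAct φ T hT a t : T) : K) *
            conj ((transIrr (restrictAct φ T hT a) ψ : T → ℂ) (restrictAct φ T hT a t))
        rw [transIrr_apply, restrictAct_apply, hχ a (t : K)]
      rw [← hmove]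
      refine (clifford_unique Q T θ rfl hQT χ ψ hψ hχψ).2.2.2 _ ?_ hne
      intro h
      refine hψ ?_
      rw [← h, classInner, classInner]
      congr 1
      refine Fintype.sum_equiv (restrictAct φ Q hQ a).toEquiv _ _ fun n => ?_
      show (ψ : T → ℂ) ⟨n, hQT n.2⟩ * conj ((θ : Q → ℂ) n) =
        (transIrr (restrictAct φ T hT a) ψ : T → ℂ) (restrictAct φ T hT a ⟨n, hQT n.2⟩) *
          conj ((θ : Q → ℂ) (restrictAct φ Q hQ a n))
      rw [transIrr_apply, hθA a n]
    obtain ⟨η₀, hη₀, hFη, hall⟩ := hB₀ ψ hψA (by rw [overT]; exact hψ)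
    obtain ⟨η, rfl⟩ : ∃ η, transIrr j η = η₀ := ⟨transIrr j.symm η₀, transIrr_symm j η₀⟩
    have hηC : classInner
        (fun x : Q.subgroupOf (preFixed φ Q hQ) => (η : T.subgroupOf (preFixed φ Q hQ) → ℂ) ⟨x, hQTC x.2⟩)
        (θC : Q.subgroupOf (preFixed φ Q hQ) → ℂ) ≠ 0 := by rw [← overD]; exact hη₀
    obtain ⟨ξ, hξc⟩ := IsCharacter.exists_constituent
      (IsCharacter.indFun (T.subgroupOf (preFixed φ Q hQ)) (irr_isCharacter η)) fun h => by
        have h1 := congrFun h 1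
        rw [indFun_one, Pi.zero_apply, mul_eq_zero] at h1
        exact h1.elim (Nat.cast_ne_zero.2 (T.subgroupOf (preFixed φ Q hQ)).index_ne_zero_of_finite)
          (IsIrrCharacter.apply_one_ne_zero η.2)
    obtain ⟨hindη, hξover, -, huniq⟩ := clifford_unique (Q.subgroupOf (preFixed φ Q hQ)) (T.subgroupOf (preFixed φ Q hQ)) θC hTC
      hQTC ξ η hηC (fun h => hξc (by
        rw [classInner_indFun (T.subgroupOf (preFixed φ Q hQ)) _ (irr_isClassFunction ξ), ← classInner_conj_symm,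
          h, map_zero]))
    have hξ : classInner (fun n : Q => (ξ : (preFixed φ Q hQ) → ℂ) ⟨n, hQC n.2⟩) (θ : Q → ℂ) ≠ 0 := by
      rwa [overC] at hξover
    refine ⟨ξ, hξ, ?_, fun ξ' hξ' hne => ?_⟩
    · obtain ⟨η', hind', hη', -, hindψ, -⟩ := hFspec ξ hξ
      obtain rfl : η' = η := by
        by_contra hne
        have h0 := huniq η' (by rw [← overD]; exact hη') hne
        have h1 := classInner_indFun (T.subgroupOf (preFixed φ Q hQ)) (η' : T.subgroupOf (preFixed φ Q hQ) → ℂ)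
          (irr_isClassFunction ξ)
        rw [hind', IsIrrCharacter.classInner_self ξ.2, ← classInner_conj_symm, h0, map_zero] at h1
        exact one_ne_zero h1
      exact Subtype.ext (hindψ.symm.trans (by rw [hFη]; exact hind))
    · obtain ⟨η', hind', hη'⟩ := hcorr ξ' hξ'
      have hne' : transIrr j η' ≠ transIrr j η := fun h => hne (Subtype.ext (by
        rw [← hind', ← hindη, BrauerPairs.transIrr_injective j h]))
      obtain ⟨m, hm, hdvd⟩ := hall _ hη' hne'
      exact ⟨m, (hkey χ ξ' ψ η' hψ hχψ hind' hη').trans hm, hdvd⟩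

end Cfsg.Agent.Lib.Glauberman
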